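import Groth.Agent.AlgSpLib.Sigma
import Groth.Agent.AlgSpLib.SheafLemmas
import Mathlib.CategoryTheory.Sites.RegularEpi

/-!
# Maps out of a sheaf over a scheme are Zariski local on the scheme
-/

set_option autoImplicit false
set_option backward.isDefEq.respectTransparency false
universe u

open CategoryTheory CategoryTheory.Limits AlgebraicGeometry Opposite

noncomputable section

namespace Groth.Agent.RelNorm

open _root_.AlgSp Groth.Agent.AlgSpLib

variable {S : Scheme.{u}}

/-- maps out of epimorphisms of sheaves -/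
theorem exists_desc_epi {F G H : Sp S} (a : F ⟶ G) [Epi a] (t : F ⟶ H)
    (h : pullback.fst a a ≫ t = pullback.snd a a ≫ t) : ∃! k : G ⟶ H, a ≫ k = t := by
  have : IsRegularEpi a := IsRegularEpiCategory.regularEpiOfEpi a
  let hc := (IsKernelPair.toCoequalizer' (IsPullback.of_hasPullback a a : IsKernelPair a _ _))
  have e : a ≫ hc.desc (Cofork.ofπ t h) = t := hc.fac _ WalkingParallelPair.one
  exact ⟨_, e, fun k hk => (cancel_epi a).1 (hk.trans e.symm)⟩

section

variable {G H : Sp S} {U : Over S} (π : G ⟶ (yon S).obj U) {ι : Type u} {V : ι → Over S} (j : ∀ i, V i ⟶ U)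

/-- the pieces of a point of `G` -/
theorem cover_pieces {T : Over S} (t : T ⟶ U)
    (hj : Presieve.ofArrows (fun i => (V i).left) (fun i => (j i).left) ∈ Scheme.zariskiPrecoverage U.left) :
    Sieve.generate (Presieve.ofArrows (fun i => pullback t (j i)) (fun i => pullback.fst t (j i))) ∈ J S T := by
  refine generate_ofArrows_mem_J _ (Scheme.zariskiPrecoverage_le_fppfPrecoverage _ ?_)
  rw [Scheme.zariskiPrecoverage, Scheme.ofArrows_mem_precoverage_iff] at hj ⊢
  have sq : ∀ i, IsPullback (pullback.fst t (j i)).left (pullback.snd t (j i)).left t.left (j i).left :=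
    fun i => (IsPullback.of_hasPullback t (j i)).map (Over.forget S)
  refine ⟨fun x => ?_, fun i => ?_⟩
  · obtain ⟨i, y, hy⟩ := hj.1 (t.left x)
    obtain ⟨z, hz, -⟩ := Scheme.exists_preimage_of_isPullback (sq i) x y hy.symm
    exact ⟨i, z, hz⟩
  · exact MorphismProperty.of_isPullback (P := @IsOpenImmersion) (sq i).flip (hj.2 i)

/-- maps out of `G` agree if they do on the pieces -/
theorem hom_ext_pieces {a b : G ⟶ H}
    (hj : Presieve.ofArrows (fun i => (V i).left) (fun i => (j i).left) ∈ Scheme.zariskiPrecoverage U.left)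
    (h : ∀ i, pullback.fst π ((yon S).map (j i)) ≫ a = pullback.fst π ((yon S).map (j i)) ≫ b) : a = b := by
  refine (J S).hom_ext_uliftYoneda.{u + 1} fun T ξ => ?_
  obtain ⟨t, ht⟩ := (yon S).map_surjective (ξ ≫ π)
  apply (J S).uliftYonedaEquiv.injective
  refine (((isSheaf_iff_isSheaf_of_type _ _).1 H.property) _ (cover_pieces j t hj)).isSeparatedFor.ext ?_
  rintro W w ⟨Z, w', _, ⟨i⟩, rfl⟩
  let l : (yon S).obj W ⟶ pullback π ((yon S).map (j i)) :=
    pullback.lift ((yon S).map (w' ≫ pullback.fst t (j i)) ≫ ξ) ((yon S).map (w' ≫ pullback.snd t (j i))) (by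
      rw [Category.assoc, ← ht, ← Functor.map_comp, ← Functor.map_comp, Category.assoc, Category.assoc,
        pullback.condition])
  rw [GrothendieckTopology.uliftYonedaEquiv_naturality, GrothendieckTopology.uliftYonedaEquiv_naturality]
  congr 1
  rw [← Category.assoc, ← Category.assoc, ← show l ≫ pullback.fst π _ = _ from pullback.lift_fst _ _ _,
    Category.assoc, Category.assoc, h]

/-- maps out of `G` glue from the pieces -/
theorem exists_glue (h : ∀ i, pullback π ((yon S).map (j i)) ⟶ H)
    (hj : Presieve.ofArrows (fun i => (V i).left) (fun i => (j i).left) ∈ Scheme.zariskiPrecoverage U.left)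
    (hc : ∀ i i' ⦃T : Over S⦄ (p : (yon S).obj T ⟶ pullback π ((yon S).map (j i)))
      (q : (yon S).obj T ⟶ pullback π ((yon S).map (j i'))),
      p ≫ pullback.fst _ _ = q ≫ pullback.fst _ _ → p ≫ h i = q ≫ h i') :
    ∃! k : G ⟶ H, ∀ i, pullback.fst π ((yon S).map (j i)) ≫ k = h i := by
  have key : ∀ {T : Over S} (ξ : (yon S).obj T ⟶ G), ∃! η : (yon S).obj T ⟶ H,
      ∀ i ⦃W : Over S⦄ (w : W ⟶ T) (p : (yon S).obj W ⟶ pullback π ((yon S).map (j i))),
        p ≫ pullback.fst _ _ = (yon S).map w ≫ ξ → (yon S).map w ≫ η = p ≫ h i := by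
    intro T ξ
    obtain ⟨t, ht⟩ := (yon S).map_surjective (ξ ≫ π)
    let l : ∀ i, (yon S).obj (pullback t (j i)) ⟶ pullback π ((yon S).map (j i)) := fun i =>
      pullback.lift ((yon S).map (pullback.fst t (j i)) ≫ ξ) ((yon S).map (pullback.snd t (j i))) (by
        rw [Category.assoc, ← ht, ← Functor.map_comp, ← Functor.map_comp, pullback.condition])
    have hsh : Presieve.IsSheafFor H.obj
        (Presieve.ofArrows (fun i => pullback t (j i)) (fun i => pullback.fst t (j i))) :=
      (Presieve.isSheafFor_iff_generate _).2 (((isSheaf_iff_isSheaf_of_type _ _).1 H.property) _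
        (cover_pieces j t hj))
    have hsep := hsh.isSeparatedFor
    rw [Presieve.isSheafFor_arrows_iff] at hsh
    obtain ⟨y, hy, hy'⟩ := hsh (fun i => (J S).uliftYonedaEquiv (l i ≫ h i)) (fun i i' W g g' e => by
      change H.obj.map g.op _ = H.obj.map g'.op _
      rw [GrothendieckTopology.uliftYonedaEquiv_naturality, GrothendieckTopology.uliftYonedaEquiv_naturality]
      congr 1
      rw [← Category.assoc, ← Category.assoc]
      refine hc i i' _ _ ?_
      simp only [l, Category.assoc, pullback.lift_fst, ← Functor.map_comp_assoc, e])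
    have hη : ∀ i, (yon S).map (pullback.fst t (j i)) ≫ (J S).uliftYonedaEquiv.symm y = l i ≫ h i := fun i => by
      apply (J S).uliftYonedaEquiv.injective
      rw [← GrothendieckTopology.uliftYonedaEquiv_naturality, Equiv.apply_symm_apply]
      exact hy i
    refine ⟨(J S).uliftYonedaEquiv.symm y, fun i W w p hp => ?_, fun η hη' => ?_⟩
    · obtain ⟨v, hv⟩ := (yon S).map_surjective (p ≫ pullback.snd π ((yon S).map (j i)))
      have e : w ≫ t = v ≫ j i := (yon S).map_injective (by
        rw [Functor.map_comp, Functor.map_comp, hv, ht, ← reassoc_of% hp, pullback.condition, Category.assoc])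
      have hpl : p = (yon S).map (pullback.lift w v e) ≫ l i := by
        apply pullback.hom_ext
        · simp [l, hp, ← Functor.map_comp_assoc]
        · simp [l, hv, ← Functor.map_comp]
      rw [hpl, Category.assoc, ← hη i, ← Functor.map_comp_assoc, pullback.lift_fst]
    · apply (J S).uliftYonedaEquiv.injective
      rw [Equiv.apply_symm_apply]
      refine hy' _ fun i => ?_
      change H.obj.map _ _ = _
      rw [GrothendieckTopology.uliftYonedaEquiv_naturality]
      exact congrArg _ (hη' i _ (l i) (pullback.lift_fst _ _ _))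
  choose η hη huniq using fun (T : Over S) (ξ : (yon S).obj T ⟶ G) => key ξ
  let k₀ : G.obj ⟶ H.obj :=
    { app := fun T => TypeCat.ofHom fun s =>
        (J S).uliftYonedaEquiv (η T.unop ((J S).uliftYonedaEquiv.symm s))
      naturality := fun {T T'} g => by
        ext s
        show (J S).uliftYonedaEquiv (η T'.unop ((J S).uliftYonedaEquiv.symm (G.obj.map g s))) =
          H.obj.map g ((J S).uliftYonedaEquiv (η T.unop ((J S).uliftYonedaEquiv.symm s)))
        have e : (J S).uliftYonedaEquiv.symm (G.obj.map g s) =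
            (yon S).map g.unop ≫ (J S).uliftYonedaEquiv.symm s :=
          GrothendieckTopology.uliftYonedaEquiv_symm_map _ g s
        rw [e, show H.obj.map g _ = _ from ((J S).uliftYonedaEquiv_naturality _ g.unop)]
        congr 1
        refine (huniq _ _ _ fun i W w p hp => ?_).symm
        rw [← Functor.map_comp_assoc]
        exact hη _ _ i (w ≫ g.unop) p (by rw [hp, Functor.map_comp, Category.assoc]) }
  let k : G ⟶ H := ObjectProperty.homMk k₀
  have hk : ∀ {T : Over S} (ξ : (yon S).obj T ⟶ G), ξ ≫ k = η T ξ := fun {T} ξ => by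
    apply (J S).uliftYonedaEquiv.injective
    rw [uliftYonedaEquiv_comp']
    show (J S).uliftYonedaEquiv (η T ((J S).uliftYonedaEquiv.symm ((J S).uliftYonedaEquiv ξ))) = _
    rw [Equiv.symm_apply_apply]
  refine ⟨k, fun i => ?_, fun k' hk' => hom_ext_pieces π j hj fun i => ?_⟩
  · refine (J S).hom_ext_uliftYoneda.{u + 1} fun T x => ?_
    rw [← Category.assoc, hk]
    have := hη T (x ≫ pullback.fst π ((yon S).map (j i))) i (𝟙 T) x (by
      rw [CategoryTheory.Functor.map_id, Category.id_comp])
    rwa [CategoryTheory.Functor.map_id, Category.id_comp] at this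
  · rw [hk' i]
    refine ((J S).hom_ext_uliftYoneda.{u + 1} fun T x => ?_)
    rw [← Category.assoc, hk]
    have := hη T (x ≫ pullback.fst π ((yon S).map (j i))) i (𝟙 T) x (by
      rw [CategoryTheory.Functor.map_id, Category.id_comp])
    rw [CategoryTheory.Functor.map_id, Category.id_comp] at this
    exact this.symm

end

end Groth.Agent.RelNorm

end
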