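import Groth.Agent.AlgSpLib.Sigma
import Groth.Agent.AlgSpLib.DiagCrit
import Groth.Agent.AlgSpLib.QCompact
import Mathlib.AlgebraicGeometry.Limits
import Mathlib.AlgebraicGeometry.Morphisms.Integral

/-!
# Finite disjoint unions of schemes integral over a space
-/

set_option autoImplicit false
set_option backward.isDefEq.respectTransparency false
set_option linter.style.haveILetI false
universe u

open CategoryTheory CategoryTheory.Limits AlgebraicGeometry Opposite

noncomputable section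

namespace Groth.Agent.RelNorm

open _root_.AlgSp Groth.Agent.AlgSpLib

/-- a morphism to an affine scheme which is integral on finitely many disjoint open pieces is integral -/
theorem isIntegralHom_of_pieces {P W : Scheme.{u}} [IsAffine W] (h : P ⟶ W) {ι : Type u} [Finite ι]
    (O : ι → P.Opens) (hd : Pairwise fun i j => Disjoint (O i) (O j)) (hcov : ∀ x : P, ∃ i, x ∈ O i)
    (hint : ∀ i, IsIntegralHom ((O i).ι ≫ h)) : IsIntegralHom h := by
  classical
  have hOa : ∀ i, IsAffine (O i).toScheme := fun i => isAffine_of_isAffineHom ((O i).ι ≫ h)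
  have hsup : ⨆ i, O i = ⊤ := TopologicalSpace.Opens.ext (Set.eq_univ_of_forall fun x => by
    obtain ⟨i, hi⟩ := hcov x
    simp only [TopologicalSpace.Opens.coe_iSup, Set.mem_iUnion]
    exact ⟨i, hi⟩)
  obtain ⟨hc⟩ := nonempty_isColimit_cofanMk_of (fun i => (O i).ι) (by simpa using hsup)
    (fun i j hij => by simpa using hd hij)
  let e : (∐ fun i => (O i).toScheme) ≅ P := (colimit.isColimit _).coconePointUniqueUpToIso hc
  have : IsAffine P := IsAffine.of_isIso e.inv
  refine (HasAffineProperty.iff_of_isAffine (P := @IsIntegralHom)).2 ⟨inferInstance, fun x => ?_⟩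
  have : Fintype ι := Fintype.ofFinite ι
  have hi : ∀ i, ∃ f : Polynomial Γ(W, ⊤), f.Monic ∧
      Polynomial.eval₂ ((O i).ι ≫ h).appTop.hom ((O i).ι.appTop x) f = 0 := fun i =>
    ((HasAffineProperty.iff_of_isAffine (P := @IsIntegralHom)).1 (hint i)).2 _
  choose f hf hf0 using hi
  refine ⟨∏ i, f i, Polynomial.monic_prod_of_monic _ _ (fun i _ => hf i), ?_⟩
  refine TopCat.Sheaf.eq_of_locally_eq' P.sheaf O ⊤ (fun i => homOfLE le_top) hsup.ge _ _ fun i => ?_
  rw [map_zero]
  have hz : (O i).ι.appTop (Polynomial.eval₂ h.appTop.hom x (∏ i, f i)) = 0 := by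
    rw [Polynomial.hom_eval₂, show (O i).ι.appTop.hom.comp h.appTop.hom = ((O i).ι ≫ h).appTop.hom from rfl,
      ← Finset.mul_prod_erase _ _ (Finset.mem_univ i), Polynomial.eval₂_mul, hf0 i, zero_mul]
  have e2 : P.presheaf.map (homOfLE (le_top : O i ≤ ⊤)).op =
      (O i).ι.appTop ≫ (O i).topIso.hom := by
    rw [Scheme.Opens.ι_appTop, Scheme.Opens.topIso_hom, ← Functor.map_comp]
    rfl
  show P.presheaf.map (homOfLE (le_top : O i ≤ ⊤)).op _ = 0
  rw [e2, CategoryTheory.comp_apply, hz, map_zero]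

/-- a morphism which is integral on finitely many disjoint open pieces is integral -/
theorem isIntegralHom_of_pieces' {P W : Scheme.{u}} (h : P ⟶ W) {ι : Type u} [Finite ι]
    (O : ι → P.Opens) (hd : Pairwise fun i j => Disjoint (O i) (O j)) (hcov : ∀ x : P, ∃ i, x ∈ O i)
    (hint : ∀ i, IsIntegralHom ((O i).ι ≫ h)) : IsIntegralHom h := by
  rw [IsZariskiLocalAtTarget.iff_of_iSup_eq_top (P := @IsIntegralHom) _ (iSup_affineOpens_eq_top W)]
  intro U
  haveI : IsAffine U.1.toScheme := U.2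
  refine isIntegralHom_of_pieces _ (fun i => (h ⁻¹ᵁ U.1).ι ⁻¹ᵁ O i) (fun i i' hii => ?_)
    (fun x => hcov ((h ⁻¹ᵁ U.1).ι x)) fun i => ?_
  · change Disjoint _ _
    rw [disjoint_iff]
    show (h ⁻¹ᵁ U.1).ι ⁻¹ᵁ O i ⊓ (h ⁻¹ᵁ U.1).ι ⁻¹ᵁ O i' = ⊥
    rw [← Scheme.Hom.preimage_inf, disjoint_iff.1 (hd hii), Scheme.Hom.preimage_bot]
  · have h₁ : IsIntegralHom (((O i).ι ≫ h) ∣_ U.1) := IsZariskiLocalAtTarget.restrict (hint i) U.1
    rw [morphismRestrict_comp] at h₁
    have hr : Set.range ((h ⁻¹ᵁ U.1).ι ⁻¹ᵁ O i).ι = Set.range ((O i).ι ∣_ (h ⁻¹ᵁ U.1)) := by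
      ext y
      rw [Scheme.Opens.range_ι]
      constructor
      · intro hy
        refine ⟨⟨⟨_, hy⟩, y.2⟩, Subtype.ext ?_⟩
        exact morphismRestrict_base_coe (O i).ι (h ⁻¹ᵁ U.1) ⟨⟨_, hy⟩, y.2⟩
      · rintro ⟨z, rfl⟩
        show ((((O i).ι ∣_ (h ⁻¹ᵁ U.1)) z).1 : P) ∈ O i
        rw [morphismRestrict_base_coe]
        exact z.1.2
    rw [← IsOpenImmersion.isoOfRangeEq_hom_fac ((h ⁻¹ᵁ U.1).ι ⁻¹ᵁ O i).ι ((O i).ι ∣_ (h ⁻¹ᵁ U.1)) hr,
      Category.assoc, MorphismProperty.cancel_left_of_respectsIso @IsIntegralHom]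
    exact h₁

variable {S : Scheme.{u}}

/-- finite disjoint unions of schemes integral over a space -/
theorem exists_sigma_integral' {X : Sp S} (hX : IsAlgSpace X) {ι : Type u} [Finite ι] (Y : ι → Over S)
    (g : ∀ i, (yon S).obj (Y i) ⟶ X) (hg : ∀ i, RepWith @IsIntegralHom (g i)) :
    ∃ (T : Over S) (G : (yon S).obj T ⟶ X) (j : ∀ i, Y i ⟶ T), RepWith @IsIntegralHom G ∧
      (∀ i, IsOpenImmersion (j i).left) ∧ (∀ i, (yon S).map (j i) ≫ G = g i) ∧
      (∀ i i', i ≠ i' → Disjoint (Set.range (j i).left) (Set.range (j i').left)) ∧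
      ∀ t : T.left, ∃ i, t ∈ Set.range (j i).left := by
  let Z : ι → Scheme.{u} := fun i => (Y i).left
  obtain ⟨G, hG⟩ := exists_sigma_hom (fun i => (Y i).hom) g
  let T : Over S := Over.mk (Sigma.desc fun i => (Y i).hom)
  let j : ∀ i, Y i ⟶ T := fun i => Over.homMk (Sigma.ι Z i) (Sigma.ι_desc _ i)
  have hjo : ∀ i, IsOpenImmersion (j i).left := fun i => inferInstanceAs (IsOpenImmersion (Sigma.ι Z i))
  have hcov : ∀ t : T.left, ∃ i, t ∈ Set.range (j i).left := fun t => by
    obtain ⟨i, y, hy⟩ := (sigmaOpenCover Z).exists_eq t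
    exact ⟨i, y, hy⟩
  have hrep : Representable G := Functor.relativelyRepresentable.of_diag hX.diag G
  refine ⟨T, G, j, ⟨hrep, fun V P ξ fst snd sq => ?_⟩, hjo, hG, fun i i' h => ?_, hcov⟩
  rotate_left
  · rw [Set.disjoint_left]
    intro x hx hx'
    exact (disjoint_iff.1 (disjoint_opensRange_sigmaι Z i i' h)).le ⟨hx, hx'⟩
  show IsIntegralHom snd.left
  obtain ⟨a, rfl⟩ := exists_map_eq fst
  refine isIntegralHom_of_pieces' _ (fun i => a.left ⁻¹ᵁ (j i).left.opensRange) (fun i i' h => ?_)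
    (fun x => hcov (a.left x)) fun i => ?_
  · change Disjoint _ _
    rw [disjoint_iff]
    show a.left ⁻¹ᵁ (j i).left.opensRange ⊓ a.left ⁻¹ᵁ (j i').left.opensRange = ⊥
    have hd : Disjoint (Sigma.ι Z i).opensRange (Sigma.ι Z i').opensRange := disjoint_opensRange_sigmaι Z i i' h
    rw [← Scheme.Hom.preimage_inf,
      show (j i).left.opensRange ⊓ (j i').left.opensRange = ⊥ from disjoint_iff.1 hd, Scheme.Hom.preimage_bot]
  · let O := a.left ⁻¹ᵁ (j i).left.opensRange
    haveI := hjo i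
    let P' : Over S := Over.mk (O.ι ≫ P.hom)
    let q : P' ⟶ P := Over.homMk O.ι rfl
    let b : P' ⟶ Y i := Over.homMk ((a.left ∣_ (j i).left.opensRange) ≫ (j i).left.isoOpensRange.inv) (by
      show ((a.left ∣_ _) ≫ (j i).left.isoOpensRange.inv) ≫ (Y i).hom = O.ι ≫ P.hom
      rw [← Over.w (j i), Category.assoc, Scheme.Hom.isoOpensRange_inv_comp_assoc, ← Category.assoc,
        morphismRestrict_ι, Category.assoc, Over.w a])
    have sq' : IsPullback ((yon S).map b) ((yon S).map q) ((yon S).map (j i)) ((yon S).map a) := by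
      refine isPullback_yon_iff.2 ?_
      exact IsPullback.of_iso (isPullback_morphismRestrict a.left (j i).left.opensRange) (Iso.refl _)
        (j i).left.isoOpensRange.symm (Iso.refl _) (Iso.refl _) (by simp [b]) (by simp [q, O])
        (by simp) (by simp)
    have sP : IsPullback ((yon S).map b) ((yon S).map (q ≫ snd)) (g i) ξ := by
      rw [Functor.map_comp, ← hG i]
      exact sq'.paste_vert sq
    exact (hg i).2 ξ _ (q ≫ snd) sP

/-- finite disjoint unions of schemes integral over a space -/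
theorem exists_sigma_integral {X : Sp S} (hX : IsAlgSpace X) {ι : Type u} [Finite ι] (Y : ι → Over S)
    (g : ∀ i, (yon S).obj (Y i) ⟶ X) (hg : ∀ i, RepWith @IsIntegralHom (g i)) :
    ∃ (T : Over S) (G : (yon S).obj T ⟶ X) (j : ∀ i, Y i ⟶ T), RepWith @IsIntegralHom G ∧
      (∀ i, IsOpenImmersion (j i).left) ∧ (∀ i, (yon S).map (j i) ≫ G = g i) ∧
      ∀ t : T.left, ∃ i, t ∈ Set.range (j i).left := by
  obtain ⟨T, G, j, h₁, h₂, h₃, -, h₄⟩ := exists_sigma_integral' hX Y g hg
  exact ⟨T, G, j, h₁, h₂, h₃, h₄⟩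

/-- finite etale morphisms are recognised on the pieces -/
theorem repWith_finite_etale_of_pieces {X V : Sp S} (jU : V ⟶ X) {ι : Type u} [Finite ι] {Y : Over S}
    {G : (yon S).obj Y ⟶ X} (hG : Representable G) (hGi : RepWith @IsIntegralHom G) {Yi : ι → Over S} (j : ∀ i, Yi i ⟶ Y)
    (hjo : ∀ i, IsOpenImmersion (j i).left)
    (hcov : ∀ y : Y.left, ∃ i, y ∈ Set.range (j i).left)
    (h : ∀ i (P : Sp S) (fst : P ⟶ (yon S).obj (Yi i)) (snd : P ⟶ V),
      IsPullback fst snd ((yon S).map (j i) ≫ G) jU → RepWith @IsFinite snd ∧ RepWith @Etale snd)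
    {P : Sp S} {fst : P ⟶ (yon S).obj Y} {snd : P ⟶ V} (sq : IsPullback fst snd G jU) :
    RepWith @IsFinite snd ∧ RepWith @Etale snd := by
  have hint : RepWith @IsIntegralHom snd := repWith_baseChange sq hGi
  have key : ∀ ⦃T P' : Over S⦄ (ξ : (yon S).obj T ⟶ V) (a : (yon S).obj P' ⟶ P) (b : P' ⟶ T),
      IsPullback a ((yon S).map b) snd ξ → Etale b.left := fun T P' ξ a b sb => by
    obtain ⟨w, hw⟩ := exists_map_eq (a ≫ fst)
    have sbig : IsPullback ((yon S).map w) ((yon S).map b) G (ξ ≫ jU) := by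
      rw [hw]; exact (sb.flip.paste_vert sq.flip).flip
    rw [IsZariskiLocalAtSource.iff_of_iSup_eq_top (P := @Etale)
      (fun i => w.left ⁻¹ᵁ (haveI := hjo i; (j i).left.opensRange))
      (TopologicalSpace.Opens.ext (Set.eq_univ_of_forall fun x => by
        obtain ⟨i, hi⟩ := hcov (w.left x)
        simp only [TopologicalSpace.Opens.coe_iSup, Set.mem_iUnion]
        exact ⟨i, hi⟩))]
    intro i
    haveI := hjo i
    let O := w.left ⁻¹ᵁ (j i).left.opensRange
    let Q : Over S := Over.mk (O.ι ≫ P'.hom)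
    let q : Q ⟶ P' := Over.homMk O.ι rfl
    let c : Q ⟶ Yi i := Over.homMk ((w.left ∣_ (j i).left.opensRange) ≫ (j i).left.isoOpensRange.inv) (by
      show ((w.left ∣_ _) ≫ (j i).left.isoOpensRange.inv) ≫ (Yi i).hom = O.ι ≫ P'.hom
      rw [← Over.w (j i), Category.assoc, Scheme.Hom.isoOpensRange_inv_comp_assoc, ← Category.assoc,
        morphismRestrict_ι, Category.assoc, Over.w w])
    have sq' : IsPullback ((yon S).map c) ((yon S).map q) ((yon S).map (j i)) ((yon S).map w) := by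
      refine isPullback_yon_iff.2 ?_
      exact IsPullback.of_iso (isPullback_morphismRestrict w.left (j i).left.opensRange) (Iso.refl _)
        (j i).left.isoOpensRange.symm (Iso.refl _) (Iso.refl _) (by simp [c]) (by simp [q, O])
        (by simp) (by simp)
    have sQ : IsPullback ((yon S).map c) ((yon S).map (q ≫ b)) ((yon S).map (j i) ≫ G) (ξ ≫ jU) := by
      rw [Functor.map_comp]
      exact sq'.paste_vert sbig
    have sV := IsPullback.of_hasPullback ((yon S).map (j i) ≫ G) jU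
    have hQw : (yon S).map c ≫ (yon S).map (j i) ≫ G = ((yon S).map (q ≫ b) ≫ ξ) ≫ jU := by
      rw [sQ.w, Category.assoc]
    have sQ' : IsPullback (sV.lift _ _ hQw) ((yon S).map (q ≫ b))
        (pullback.snd ((yon S).map (j i) ≫ G) jU) ξ :=
      IsPullback.of_right (by rw [sV.lift_fst]; exact sQ) (sV.lift_snd _ _ hQw) sV
    exact ((h i _ _ _ sV).2.2 ξ _ _ sQ' : Etale (q ≫ b).left)
  have het : RepWith @Etale snd := ⟨hint.1, fun T P' ξ a b sb => key ξ a b sb⟩
  exact ⟨⟨hint.1, fun T P' ξ a b sb => (IsFinite.iff_isIntegralHom_and_locallyOfFiniteType _).2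
    ⟨hint.2 ξ a b sb, haveI := key ξ a b sb; (inferInstance : LocallyOfFiniteType b.left)⟩⟩, het⟩

end Groth.Agent.RelNorm

end
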