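import Groth.Agent.RelNorm.Sheets
import Groth.Agent.RelNorm.SigmaInt
import Groth.Agent.SpQS.ConfFiltration
import Groth.Agent.ConsTop.Basic
import Groth.Agent.SpQS.Basic

/-!
# Integral scheme covers of quasi-compact quasi-separated spaces
-/

set_option autoImplicit false
set_option backward.isDefEq.respectTransparency false
set_option backward.isDefEq.respectTransparency.types false
set_option linter.style.haveILetI false
universe u

open CategoryTheory CategoryTheory.Limits AlgebraicGeometry IsLocalRing Topology TopologicalSpace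

noncomputable section

namespace Groth.Agent.RelNorm

open _root_.AlgSp Groth.Agent.AlgSpLib

variable {S : Scheme.{u}}

/-- over a stratum the configuration sees all sheets -/
theorem all_sheets {X : Sp S} {W : Over S} {π : (yon S).obj W ⟶ X} {p : ℕ} (c : SpQS.Conf π p)
    (c' : SpQS.Conf π (p + 1)) {T : Over S} (ι' : T ⟶ c.C) {g : (yon S).obj T ⟶ X}
    (hcomm : ∀ i, (yon S).map (ι' ≫ c.pr i) ≫ π = g) (hD : ∀ t, Points.ofPt g t ∉ c'.pts) :
    ∀ (Ω : Type u) [Field Ω] [IsAlgClosed Ω] {K : Over S} (_ : Spec (CommRingCat.of Ω) ≅ K.left)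
      (k : K ⟶ T) (a : K ⟶ W), (yon S).map a ≫ π = (yon S).map k ≫ g → ∃ i, a = k ≫ ι' ≫ c.pr i := by
  intro Ω _ _ K e k a ha
  by_contra hno
  push Not at hno
  have hne : ∀ {b b' : K ⟶ W}, b ≠ b' → SpQS.NeverEq b.left b'.left := by
    intro b b' hab F _ l hl
    apply hab
    obtain ⟨φ, hφ⟩ := Spec.map_surjective (l ≫ e.inv)
    have hl' : (l ≫ e.inv) ≫ e.hom ≫ b.left = (l ≫ e.inv) ≫ e.hom ≫ b'.left := by simpa using hl
    have : Epi (Spec.map φ) := by
      have : Flat (Spec.map φ) := inferInstance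
      have : Surjective (Spec.map φ) := ⟨fun z => ⟨closedPoint F, Subsingleton.elim (α := PrimeSpectrum Ω) _ _⟩⟩
      exact Flat.epi_of_flat_of_surjective _
    rw [← hφ, cancel_epi, cancel_epi] at hl'
    exact Over.OverMorphism.ext hl'
  have hinj : Function.Injective fun i => k ≫ ι' ≫ c.pr i := fun i j hij => by
    by_contra h'
    exact c.ne i j h' Ω (e.hom ≫ (k ≫ ι').left) (by
      have := congrArg (fun l => e.hom ≫ l.left) hij
      simpa using this)
  have h1 : ∀ j, (yon S).map (Fin.snoc (α := fun _ => K ⟶ W) (fun i => k ≫ ι' ≫ c.pr i) a j) ≫ π =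
      (yon S).map k ≫ g := fun j => by
    induction j using Fin.lastCases with
    | last => rw [Fin.snoc_last, ha]
    | cast j => rw [Fin.snoc_castSucc, Functor.map_comp, Category.assoc, hcomm]
  obtain ⟨l, hl⟩ := c'.desc (Fin.snoc (fun i => k ≫ ι' ≫ c.pr i) a) (fun j => by rw [h1, h1]) (by
    intro j j' hjj
    apply hne
    induction j using Fin.lastCases with
    | last =>
      induction j' using Fin.lastCases with
      | last => exact absurd rfl hjj
      | cast j' => rw [Fin.snoc_last, Fin.snoc_castSucc]; exact hno j'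
    | cast j =>
      induction j' using Fin.lastCases with
      | last => rw [Fin.snoc_last, Fin.snoc_castSucc]; exact (hno j).symm
      | cast j' =>
        rw [Fin.snoc_castSucc, Fin.snoc_castSucc]
        exact fun e' => hjj (congrArg Fin.castSucc (hinj e')))
  let z := e.hom (closedPoint Ω)
  have hz : Points.ofPt ((yon S).map k ≫ g) z ∉ c'.pts := by
    rw [ofPt_comp]
    exact hD _
  apply hz
  refine ⟨l.left z, ?_⟩
  rw [← ofPt_comp, ← Category.assoc, ← Functor.map_comp, hl,
    show (0 : Fin (p + 2)) = (0 : Fin (p + 1)).castSucc from rfl, Fin.snoc_castSucc, Functor.map_comp,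
    Category.assoc, hcomm]

/-- the closed piece of a configuration over its stratum gives an integral scheme over the space -/
theorem exists_integral_of_stratum {X : Sp S} (hX : IsAlgSpace X) {W : Over S} [IsAffine W.left]
    {π : (yon S).obj W ⟶ X} (hπe : RepWith @Etale π) (hπs : RepWith @Surjective π)
    (hπq : RepWith @QuasiCompact π)
    (hqX : ∀ (T : Over S) (a : (yon S).obj T ⟶ X), CompactSpace ↥T.left → RepWith @QuasiCompact a)
    {p : ℕ} (c : SpQS.Conf π p) (c' : SpQS.Conf π (p + 1)) :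
    ∃ (Y : Over S) (gY : (yon S).obj Y ⟶ X), RepWith @IsIntegralHom gY ∧
      c.pts \ c'.pts ⊆ Set.range (Points.ofPt gY) ∧ LocFac π gY := by
  let D : Set c.C.left := (Points.ofPt ((yon S).map (c.pr 0) ≫ π)) ⁻¹' c'.ptsᶜ
  have hD : IsClosed D := (c'.isOpen_pts hπe).isClosed_compl.preimage (Points.continuous_ofPt _)
  let I := Scheme.IdealSheafData.vanishingIdeal (⟨D, hD⟩ : Closeds c.C.left)
  have hrange : Set.range I.subschemeι = D := by
    rw [I.range_subschemeι, Scheme.IdealSheafData.coe_support_vanishingIdeal]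
    rfl
  let T : Over S := Over.mk (I.subschemeι ≫ c.C.hom)
  let ι' : T ⟶ c.C := Over.homMk I.subschemeι rfl
  let g : (yon S).obj T ⟶ X := (yon S).map ι' ≫ (yon S).map (c.pr 0) ≫ π
  have := c.compact hπq
  have := c.sep
  have : CompactSpace ↥T.left := QuasiCompact.compactSpace_of_compactSpace I.subschemeι
  have hsep : RepWith @IsSeparated g := by
    refine repWith_comp ((repWith_yon_iff (P := @IsSeparated) ι').2 (inferInstanceAs (IsSeparated I.subschemeι)))
      (repWith_comp ((repWith_yon_iff (P := @IsSeparated) (c.pr 0)).2 c.sep) (isSeparated_chart hX π hπe.1).1)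
  have hcomm : ∀ i, (yon S).map (ι' ≫ c.pr i) ≫ π = g := fun i => by
    rw [Functor.map_comp, Category.assoc, c.comm i]
  have hall := all_sheets c c' ι' hcomm fun t => by
    rw [ofPt_comp]
    exact hrange.subset ⟨t, rfl⟩
  obtain ⟨Y, gY, h₁, h₂, h₃⟩ := exists_integral_of_sheets hX hπe hπs hπq (fun i => ι' ≫ c.pr i)
    (g := g) (hqX T g inferInstance)
    (repWith_mono (fun _ _ r (hr : IsSeparated r) => (inferInstance : QuasiSeparated r)) hsep) hcomm
    (fun i j h => (c.ne i j h).comp I.subschemeι) hall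
  refine ⟨Y, gY, h₁, ?_, h₃⟩
  rintro x ⟨⟨z, rfl⟩, hx⟩
  obtain ⟨t, rfl⟩ := hrange.symm.subset (show z ∈ D from hx)
  exact h₂ ⟨t, ofPt_comp ι' _ t⟩

/-- the number of sheets is bounded -/
theorem exists_pts_bound {X : Sp S} (hA : IsAlgSpace X) {W : Over S} [IsAffine W.left] {π : (yon S).obj W ⟶ X}
    (hπe : RepWith @Etale π) (hπs : RepWith @Surjective π) (hπq : RepWith @QuasiCompact π)
    (hqX : ∀ (T : Over S) (a : (yon S).obj T ⟶ X), CompactSpace ↥T.left → RepWith @QuasiCompact a)
    (cs : ∀ p, SpQS.Conf π p) : ∃ n, (cs n).pts = ∅ := by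
  let D : ℕ → Set W.left := fun p => Points.ofPt π ⁻¹' (cs p).pts
  have hDo : ∀ p, IsOpen (D p) := fun p => ((cs p).isOpen_pts hπe).preimage (Points.continuous_ofPt π)
  have hDc : ∀ p, IsCompact (D p) := fun p => by
    obtain ⟨P, a, w, sq, hw⟩ := exists_repWith hπq ((yon S).map ((cs p).pr 0) ≫ π)
    obtain ⟨a, rfl⟩ := exists_map_eq a
    have : QuasiCompact w.left := hw
    have := (cs p).compact hπq
    have : CompactSpace ↥P.left := QuasiCompact.compactSpace_of_compactSpace w.left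
    have e : D p = Set.range a.left := by
      ext x
      constructor
      · rintro ⟨z, hz⟩
        obtain ⟨r, h₁, -⟩ := exists_point_of_isPullback sq (Points.ofScheme W x) (Points.ofScheme (cs p).C z)
          (by rw [← Points.ofPt_eq_map_ofScheme, ← Points.ofPt_eq_map_ofScheme, hz])
        obtain ⟨r, rfl⟩ := (Points.schemeEquiv P).surjective r
        exact ⟨r, (Points.schemeEquiv W).injective ((ofScheme_map a r).symm.trans h₁)⟩
      · rintro ⟨r, rfl⟩
        refine ⟨w.left r, ?_⟩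
        rw [← ofPt_comp, ← ofPt_comp, sq.w]
    rw [e]
    exact isCompact_range a.left.continuous
  have hcover : ∀ w : W.left, ∃ p, w ∉ D p := fun w => by
    have hc : CompactSpace ↥(FieldPt.ofPt π w).pt.left :=
      inferInstanceAs (CompactSpace (PrimeSpectrum (W.left.residueField w)))
    obtain ⟨N, hN⟩ := SpQS.exists_bound_pts hπe (FieldPt.ofPt π w) (hqX _ _ hc)
    exact ⟨N, hN (cs N)⟩
  obtain ⟨t, ht⟩ := (isCompact_univ : IsCompact (Set.univ : Set (WithConstructibleTopology W.left))).elim_finite_subcover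
    (fun p => WithTopology.ofTopology ⁻¹' (D p)ᶜ)
    (fun p => WithConstructibleTopology.isOpen_iff.2 (Groth.Agent.ConsTop.isOpen_compl_of_isCompact (hDo p) (hDc p)))
    (fun w _ => Set.mem_iUnion.2 (hcover _))
  have hsub : ∀ {a b}, a ≤ b → (cs b).pts ⊆ (cs a).pts := fun {a b} h => by
    induction h with
    | refl => exact subset_rfl
    | @step m _ ih => exact ((cs m).pts_mono (cs (m + 1))).trans ih
  refine ⟨t.sup id, Set.eq_empty_iff_forall_notMem.2 fun x hx => ?_⟩
  obtain ⟨w, rfl⟩ := ofPt_surjective hπs x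
  obtain ⟨p, hp, hwp⟩ := Set.mem_iUnion₂.1 (ht (Set.mem_univ (WithTopology.toTopology _ w)))
  exact hwp (hsub (Finset.le_sup (f := id) hp) hx)

/-- an affine chart mapping to a given chart -/
theorem exists_affine_chart_over {X : Sp S} [CompactSpace (Points X)] {U : Over S} {b : (yon S).obj U ⟶ X}
    (hb : RepWith @Etale b) (hbs : RepWith @Surjective b) :
    ∃ (W : Over S) (c : W ⟶ U), IsAffine W.left ∧
      RepWith @Etale ((yon S).map c ≫ b) ∧ RepWith @Surjective ((yon S).map c ≫ b) := by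
  have hcov : ∀ u : U.left, ∃ Z : U.left.Opens, IsAffineOpen Z ∧ u ∈ Z := fun u => by
    obtain ⟨Z, hZ, hu, -⟩ := exists_isAffineOpen_mem_and_subset (U := (⊤ : U.left.Opens)) (x := u) trivial
    exact ⟨Z, hZ, hu⟩
  choose Z hZ huZ using hcov
  obtain ⟨t, ht⟩ := isCompact_univ.elim_finite_subcover (fun i => Points.ofPt b '' (Z i : Set U.left))
    (fun i => isOpenMap_ofPt (repWith_universallyOpen_of_etale hb) _ (Z i).2) (fun x _ => by
      obtain ⟨u, rfl⟩ := ofPt_surjective hbs x
      exact Set.mem_iUnion.mpr ⟨u, u, huZ u, rfl⟩)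
  let f : ∀ j : t, (Z j.1).toScheme ⟶ U.left := fun j => (Z j.1).ι
  let c : Over.mk (Sigma.desc f ≫ U.hom) ⟶ U := Over.homMk (Sigma.desc f) rfl
  have hc : Etale c.left :=
    (IsZariskiLocalAtSource.iff_of_openCover (P := @Etale) (sigmaOpenCover _)).2 fun i => by
      change Etale (Sigma.ι _ i ≫ Sigma.desc f)
      rw [Sigma.ι_desc]
      infer_instance
  have he : RepWith @Etale ((yon S).map c ≫ b) := repWith_comp ((repWith_yon_iff c).2 hc) hb
  have : ∀ j : t, IsAffine (Z j.1).toScheme := fun j => hZ j.1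
  refine ⟨_, c, show IsAffine (∐ fun j : t => (Z j.1).toScheme) from inferInstance, he,
    repWith_surjective_of_isSurjectiveMor he.1 (isSurjectiveMor_of_ofPt_surjective fun x => ?_)⟩
  obtain ⟨i, hi⟩ := Set.mem_iUnion.mp (ht (Set.mem_univ x))
  obtain ⟨hit, u, hu, rfl⟩ := Set.mem_iUnion.mp hi
  refine ⟨Sigma.ι (fun j : t => (Z j.1).toScheme) ⟨i, hit⟩ ⟨u, hu⟩, ?_⟩
  rw [ofPt_comp]
  change Points.ofPt b ((Sigma.desc f) ((Sigma.ι (fun j : t => (Z j.1).toScheme) ⟨i, hit⟩) ⟨u, hu⟩)) = _
  rw [← Scheme.Hom.comp_apply, Sigma.ι_desc]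
  rfl

/-- integral scheme covers mapping Zariski locally to a given chart -/
theorem exists_integral_cover [QuasiSeparatedSpace ↥S] (X : Space S) (hqc : IsQuasiCompactSp X.obj)
    (hqs : IsQuasiSeparatedSp X.obj) {U : Over S} (b : (yon S).obj U ⟶ X.obj) (hb : RepWith @Etale b)
    (hbs : RepWith @Surjective b) :
    ∃ (Y : Over S) (g : (yon S).obj Y ⟶ X.obj), RepWith @IsIntegralHom g ∧ RepWith @Surjective g ∧
      LocFac b g := by
  obtain ⟨hA⟩ : Nonempty (IsAlgSpace X.obj) := ⟨X.property⟩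
  have := compactSpace_of_isQuasiCompactSp hqc
  obtain ⟨W, c₀, hW, hπe, hπs⟩ := exists_affine_chart_over hb hbs
  let π := (yon S).map c₀ ≫ b
  have hqX : ∀ (T : Over S) (a : (yon S).obj T ⟶ X.obj), CompactSpace ↥T.left → RepWith @QuasiCompact a :=
    fun T a hT => (isQuasiCompactMor_iff_repWith (IsAlgSpace.yon_obj T) hA
      (Functor.relativelyRepresentable.of_diag hA.diag a)).1
      (SpQS.isQuasiCompactMor_of_qc_qs (IsAlgSpace.yon_obj T) hA a (isQuasiCompactSp_yon T) hqs)
  have hπq : RepWith @QuasiCompact π := hqX W π inferInstance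
  let cs : ∀ p, SpQS.Conf π p := fun p => (SpQS.exists_conf hA hπe p).some
  obtain ⟨n, hn₀⟩ := exists_pts_bound hA hπe hπs hπq hqX cs
  choose Yp gp hgp hpts hloc using fun p : ULift.{u} (Fin (n + 1)) =>
    exists_integral_of_stratum hA hπe hπs hπq hqX (cs p.down) (cs (p.down + 1))
  obtain ⟨Y, g, j, hg, hjo, hjg, hjcov⟩ := exists_sigma_integral hA Yp gp hgp
  have hsub : ∀ {a b}, a ≤ b → (cs b).pts ⊆ (cs a).pts := fun {a b} h => by
    induction h with
    | refl => exact subset_rfl
    | @step m _ ih => exact ((cs m).pts_mono (cs (m + 1))).trans ih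
  refine ⟨Y, g, hg, repWith_surjective_of_isSurjectiveMor hg.1
    (isSurjectiveMor_of_ofPt_surjective fun x => ?_), fun y => ?_⟩
  · classical
    obtain ⟨w, rfl⟩ := ofPt_surjective hπs x
    have hn : Points.ofPt π w ∉ (cs n).pts := by rw [hn₀]; exact id
    have hex : ∃ q, Points.ofPt π w ∉ (cs q).pts := ⟨n, hn⟩
    have h0 : Nat.find hex ≠ 0 := fun h => (h ▸ Nat.find_spec hex) (by rw [(cs 0).pts_zero hπs]; trivial)
    obtain ⟨q, hq⟩ : ∃ q, Nat.find hex = q + 1 := ⟨Nat.find hex - 1, by omega⟩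
    have hqn : q < n + 1 := by
      have := Nat.find_min' hex hn
      omega
    obtain ⟨v, hv⟩ := hpts ⟨⟨q, hqn⟩⟩
      ⟨not_not.1 (Nat.find_min hex (by omega : q < Nat.find hex)), hq ▸ Nat.find_spec hex⟩
    refine ⟨(j _).left v, ?_⟩
    rw [← ofPt_comp, hjg, hv]
  · obtain ⟨i, v, rfl⟩ := hjcov y
    obtain ⟨O, k, hv, hk⟩ := hloc i v
    haveI := hjo i
    let O' : Y.left.Opens := (j i).left ''ᵁ O
    let q : Over.mk (O'.ι ≫ Y.hom) ⟶ Over.mk (O.ι ≫ (Yp i).hom) :=
      Over.homMk ((j i).left.isoImage O).inv (by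
        show ((j i).left.isoImage O).inv ≫ O.ι ≫ (Yp i).hom = O'.ι ≫ Y.hom
        rw [← Over.w (j i), Scheme.Hom.isoImage_inv_ι_assoc])
    have hq : q ≫ (Over.homMk O.ι rfl : Over.mk (O.ι ≫ (Yp i).hom) ⟶ Yp i) ≫ j i =
        (Over.homMk O'.ι rfl : Over.mk (O'.ι ≫ Y.hom) ⟶ Y) :=
      Over.OverMorphism.ext (Scheme.Hom.isoImage_inv_ι (j i).left O)
    refine ⟨O', q ≫ k ≫ c₀, ⟨v, hv, rfl⟩, ?_⟩
    rw [← hq]
    simp only [Functor.map_comp, Category.assoc]
    rw [hjg i, ← hk]

end Groth.Agent.RelNorm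

end
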