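import Groth.Agent.RelNorm.Defs
import Groth.Agent.AlgSpLib.EtST
import Groth.Agent.AlgSpLib.LocP

/-!
# Universality of relative normalizations is Zariski local on the test scheme
-/

set_option autoImplicit false
set_option backward.isDefEq.respectTransparency false
set_option backward.isDefEq.respectTransparency.types false
universe u

open CategoryTheory CategoryTheory.Limits AlgebraicGeometry

noncomputable section

namespace Groth.Agent.RelNorm

open _root_.AlgSp Groth.Agent.AlgSpLib

variable {S : Scheme.{u}} {X Y N : Sp S} {f : Y ⟶ X} {ν : N ⟶ X} {g : Y ⟶ N} (hg : g ≫ ν = f)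

section piece

variable {U' V : Over S} (u : (yon S).obj U' ⟶ X) (j : V ⟶ U')

/-- the universal property of a piece, with values in schemes over the whole -/
theorem existsUnique_piece (H : NormAt f ν g hg ((yon S).map j ≫ u)) {Z : Over S} (π : Z ⟶ U')
    [IsIntegralHom π.left] (h : pullback f u ⟶ (yon S).obj Z) (hh : h ≫ (yon S).map π = pullback.snd f u) :
    ∃! k : pullback (pullback.snd ν u) ((yon S).map j) ⟶ (yon S).obj Z,
      k ≫ (yon S).map π = pullback.fst (pullback.snd ν u) ((yon S).map j) ≫ pullback.snd ν u ∧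
        bcS (pullback.snd f u) (pullback.snd ν u) (bcS f ν g hg u) (bcS_snd f ν g hg u) ((yon S).map j) ≫ k =
          pullback.fst (pullback.snd f u) ((yon S).map j) ≫ h := by
  have H' : IsNormOver (pullback.snd (pullback.snd f u) ((yon S).map j))
      (pullback.snd (pullback.snd ν u) ((yon S).map j))
      (bcS (pullback.snd f u) (pullback.snd ν u) (bcS f ν g hg u) (bcS_snd f ν g hg u) ((yon S).map j)) :=
    (normAt_baseChange hg (IsPullback.of_hasPullback f u) (IsPullback.of_hasPullback ν u)
      (bcS f ν g hg u) (bcS_snd f ν g hg u) (bcS_fst f ν g hg u) ((yon S).map j)).2 H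
  let Zj := pullback π j
  have sq := (IsPullback.of_hasPullback π j).map (yon S)
  have : IsIntegralHom (pullback.snd π j).left :=
    MorphismProperty.of_isPullback (P := @IsIntegralHom)
      ((IsPullback.of_hasPullback π j).map (Over.forget S)) ‹IsIntegralHom π.left›
  obtain ⟨k, ⟨hk₁, hk₂⟩, hk⟩ := H' (pullback.snd π j)
    (sq.lift (pullback.fst (pullback.snd f u) ((yon S).map j) ≫ h) (pullback.snd _ _)
      (by rw [Category.assoc, hh, pullback.condition])) (sq.lift_snd _ _ _)
  refine ⟨k ≫ (yon S).map (pullback.fst π j), ⟨?_, ?_⟩, fun k' hk' => ?_⟩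
  · rw [Category.assoc, ← Functor.map_comp, pullback.condition, Functor.map_comp, reassoc_of% hk₁,
      pullback.condition]
  · rw [reassoc_of% hk₂, sq.lift_fst]
  · obtain rfl : sq.lift k' (pullback.snd _ _) (by rw [hk'.1, pullback.condition]) = k := by
      refine hk _ ⟨sq.lift_snd _ _ _, sq.hom_ext ?_ ?_⟩
      · rw [Category.assoc, sq.lift_fst, hk'.2, sq.lift_fst]
      · rw [Category.assoc, sq.lift_snd, bcS_snd, sq.lift_snd]
    rw [sq.lift_fst]

end piece

section local_

variable (hX : IsAlgSpace X)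
  (hloc : ∀ ⦃U' : Over S⦄ (u : (yon S).obj U' ⟶ X), LocP @Smooth u → ∀ x : ↥U'.left,
    ∃ (V : Over S) (j : V ⟶ U'), IsOpenImmersion j.left ∧ x ∈ Set.range j.left ∧
      NormAt f ν g hg ((yon S).map j ≫ u))

include hX in
theorem smooth_comp_open {U' V : Over S} {u : (yon S).obj U' ⟶ X} (hu : LocP @Smooth u) (j : V ⟶ U')
    (hj : IsOpenImmersion j.left) : LocP @Smooth ((yon S).map j ≫ u) :=
  locP_comp etST_smooth (IsAlgSpace.yon_obj U') hX
    ((locP_iff_repWith etST_smooth (IsAlgSpace.yon_obj U') (AlgSp.representable_yon_map j)).2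
      ((repWith_yon_iff j).2 (have := hj; inferInstance))) hu

include hloc in
theorem exists_cover {U' : Over S} (u : (yon S).obj U' ⟶ X) (hu : LocP @Smooth u) :
    ∃ (V : ↥U'.left → Over S) (j : ∀ x, V x ⟶ U'),
      Presieve.ofArrows (fun x => (V x).left) (fun x => (j x).left) ∈ Scheme.zariskiPrecoverage U'.left ∧
        (∀ x, IsOpenImmersion (j x).left) ∧ ∀ x, NormAt f ν g hg ((yon S).map (j x) ≫ u) := by
  choose V j hj hx hN using hloc u hu
  refine ⟨V, j, ?_, hj, hN⟩
  rw [Scheme.zariskiPrecoverage, Scheme.ofArrows_mem_precoverage_iff]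
  exact ⟨fun x => ⟨x, hx x⟩, hj⟩

include hloc in
theorem norm_uniq {U' : Over S} (u : (yon S).obj U' ⟶ X) (hu : LocP @Smooth u) {Z : Over S} (π : Z ⟶ U')
    [IsIntegralHom π.left] (h : pullback f u ⟶ (yon S).obj Z) (hh : h ≫ (yon S).map π = pullback.snd f u)
    (k k' : pullback ν u ⟶ (yon S).obj Z) (hk : k ≫ (yon S).map π = pullback.snd ν u ∧ bcS f ν g hg u ≫ k = h)
    (hk' : k' ≫ (yon S).map π = pullback.snd ν u ∧ bcS f ν g hg u ≫ k' = h) : k = k' := by
  obtain ⟨V, j, hj, -, hN⟩ := exists_cover hg hloc u hu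
  refine hom_ext_pieces (pullback.snd ν u) j hj fun x =>
    (existsUnique_piece hg u (j x) (hN x) π h hh).unique ⟨?_, ?_⟩ ⟨?_, ?_⟩
  · rw [Category.assoc, hk.1]
  · rw [bcS_fst_assoc, hk.2]
  · rw [Category.assoc, hk'.1]
  · rw [bcS_fst_assoc, hk'.2]

include hX hloc in
/-- universality is local on the test schemes -/
theorem smNorm_of_local : SmNorm f ν g hg := by
  intro U' u hu Z π _ h hh
  obtain ⟨V, j, hj, hjo, hN⟩ := exists_cover hg hloc u hu
  choose k hk using fun x => (existsUnique_piece hg u (j x) (hN x) π h hh).exists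
  have hc : ∀ x x' ⦃T : Over S⦄ (p : (yon S).obj T ⟶ pullback (pullback.snd ν u) ((yon S).map (j x)))
      (q : (yon S).obj T ⟶ pullback (pullback.snd ν u) ((yon S).map (j x'))),
      p ≫ pullback.fst _ _ = q ≫ pullback.fst _ _ → p ≫ k x = q ≫ k x' := by
    intro x x' T p q e
    let c : pullback (j x) (j x') ⟶ U' := pullback.fst _ _ ≫ j x
    have hco : IsOpenImmersion c.left := by
      haveI := hjo x
      haveI := hjo x'
      have sq := (IsPullback.of_hasPullback (j x) (j x')).map (Over.forget S)
      haveI : IsOpenImmersion (pullback.fst (j x) (j x')).left :=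
        MorphismProperty.of_isPullback (P := @IsOpenImmersion) sq.flip (hjo x')
      exact inferInstanceAs (IsOpenImmersion ((pullback.fst (j x) (j x')).left ≫ (j x).left))
    let u₂ := (yon S).map c ≫ u
    have hu₂ := smooth_comp_open hX hu c hco
    have sqW := (IsPullback.of_hasPullback (j x) (j x')).map (yon S)
    let w : (yon S).obj T ⟶ (yon S).obj (pullback (j x) (j x')) :=
      sqW.lift (p ≫ pullback.snd _ _) (q ≫ pullback.snd _ _) (by
        rw [Category.assoc, Category.assoc, ← pullback.condition, ← pullback.condition, reassoc_of% e])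
    let P := pullback (pullback.snd ν u) ((yon S).map c)
    let m : P ⟶ pullback (pullback.snd ν u) ((yon S).map (j x)) :=
      pullback.lift (pullback.fst _ _) (pullback.snd _ _ ≫ (yon S).map (pullback.fst _ _))
        (by rw [Category.assoc, ← Functor.map_comp, pullback.condition])
    let m' : P ⟶ pullback (pullback.snd ν u) ((yon S).map (j x')) :=
      pullback.lift (pullback.fst _ _) (pullback.snd _ _ ≫ (yon S).map (pullback.snd _ _))
        (by rw [Category.assoc, ← Functor.map_comp, ← pullback.condition, pullback.condition])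
    let t : (yon S).obj T ⟶ P := pullback.lift (p ≫ pullback.fst _ _) w (by
      rw [show (yon S).map c = (yon S).map (pullback.fst (j x) (j x')) ≫ (yon S).map (j x) from
        Functor.map_comp _ _ _, reassoc_of% sqW.lift_fst (p ≫ pullback.snd _ _) (q ≫ pullback.snd _ _) _,
        Category.assoc, pullback.condition])
    have hp : t ≫ m = p := by
      apply pullback.hom_ext
      · simp [t, m]
      · simp [t, m, w]
    have hq : t ≫ m' = q := by
      apply pullback.hom_ext
      · simp [t, m', e]
      · simp [t, m', w]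
    rw [← hp, ← hq, Category.assoc, Category.assoc]
    congr 1
    let Zc := pullback π c
    have sqZ := (IsPullback.of_hasPullback π c).map (yon S)
    have : IsIntegralHom (pullback.snd π c).left :=
      MorphismProperty.of_isPullback (P := @IsIntegralHom)
        ((IsPullback.of_hasPullback π c).map (Over.forget S)) ‹IsIntegralHom π.left›
    let eN : P ≅ pullback ν u₂ := ((IsPullback.of_hasPullback (pullback.snd ν u) ((yon S).map c)).paste_horiz
      (IsPullback.of_hasPullback ν u)).isoPullback
    have eN₁ : eN.hom ≫ pullback.fst ν u₂ = pullback.fst _ _ ≫ pullback.fst _ _ := IsPullback.isoPullback_hom_fst _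
    have eN₂ : eN.hom ≫ pullback.snd ν u₂ = pullback.snd _ _ := IsPullback.isoPullback_hom_snd _
    have eN₃ : eN.inv ≫ pullback.snd _ _ = pullback.snd ν u₂ := by rw [← eN₂, Iso.inv_hom_id_assoc]
    have eN₄ : eN.inv ≫ pullback.fst _ _ ≫ pullback.fst ν u = pullback.fst ν u₂ := by
      rw [← eN₁, Iso.inv_hom_id_assoc]
    let a : pullback f u₂ ⟶ pullback f u :=
      pullback.lift (pullback.fst _ _) (pullback.snd _ _ ≫ (yon S).map c)
        (by rw [Category.assoc]; exact pullback.condition)
    have hh' : (a ≫ h) ≫ (yon S).map π = pullback.snd f u₂ ≫ (yon S).map c := by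
      rw [Category.assoc, hh]; exact pullback.lift_snd _ _ _
    have key : ∀ (y : P ⟶ (yon S).obj Z) (hy : y ≫ (yon S).map π = pullback.snd _ _ ≫ (yon S).map c),
        bcS f ν g hg u₂ ≫ eN.inv ≫ y = a ≫ h →
        sqZ.lift (eN.inv ≫ y) (pullback.snd ν u₂) (by
            rw [Category.assoc, hy, ← Category.assoc, eN₃]) ≫ (yon S).map (pullback.snd π c) = pullback.snd ν u₂ ∧
          bcS f ν g hg u₂ ≫ sqZ.lift (eN.inv ≫ y) (pullback.snd ν u₂) (by
            rw [Category.assoc, hy, ← Category.assoc, eN₃]) = sqZ.lift (a ≫ h) (pullback.snd f u₂) hh' := by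
      intro y hy hy'
      refine ⟨sqZ.lift_snd _ _ _, sqZ.hom_ext ?_ ?_⟩
      · rw [Category.assoc, sqZ.lift_fst, sqZ.lift_fst, hy']
      · rw [Category.assoc, sqZ.lift_snd, sqZ.lift_snd, bcS_snd]
    have hy₁ : (m ≫ k x) ≫ (yon S).map π = pullback.snd _ _ ≫ (yon S).map c := by
      rw [Category.assoc, (hk x).1, ← pullback.condition]; simp [m]
    have hy₂ : (m' ≫ k x') ≫ (yon S).map π = pullback.snd _ _ ≫ (yon S).map c := by
      rw [Category.assoc, (hk x').1, ← pullback.condition]; simp [m']
    have hy' : ∀ x'' (b : pullback f u₂ ⟶ pullback (pullback.snd f u) ((yon S).map (j x'')))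
        (mm : P ⟶ pullback (pullback.snd ν u) ((yon S).map (j x''))),
        b ≫ pullback.fst _ _ = a → bcS f ν g hg u₂ ≫ eN.inv ≫ mm =
          b ≫ bcS (pullback.snd f u) (pullback.snd ν u) (bcS f ν g hg u) (bcS_snd f ν g hg u) ((yon S).map (j x'')) →
        bcS f ν g hg u₂ ≫ eN.inv ≫ mm ≫ k x'' = a ≫ h := by
      intro x'' b mm hb hbm
      rw [reassoc_of% hbm, (hk x'').2, reassoc_of% hb]
    have he₂ : bcS f ν g hg u₂ ≫ eN.inv ≫ pullback.snd _ _ = pullback.snd f u₂ := by
      rw [eN₃, bcS_snd]
    have he₁ : bcS f ν g hg u₂ ≫ eN.inv ≫ pullback.fst _ _ = a ≫ bcS f ν g hg u := by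
      apply pullback.hom_ext
      · simp only [Category.assoc, eN₄, bcS_fst, a, pullback.lift_fst_assoc]
      · simp only [Category.assoc, pullback.condition, reassoc_of% he₂, bcS_snd, a, pullback.lift_snd]
    have u₁ := hy' x (pullback.lift a (pullback.snd f u₂ ≫ (yon S).map (pullback.fst _ _)) (by
        rw [Category.assoc, ← Functor.map_comp]; exact pullback.lift_snd _ _ _)) m (pullback.lift_fst _ _ _) (by
        apply pullback.hom_ext
        · simp [m, he₁]
        · simp [m, reassoc_of% he₂])
    have u₂' := hy' x' (pullback.lift a (pullback.snd f u₂ ≫ (yon S).map (pullback.snd _ _)) (by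
        rw [Category.assoc, ← Functor.map_comp, ← pullback.condition]; exact pullback.lift_snd _ _ _)) m'
        (pullback.lift_fst _ _ _) (by
        apply pullback.hom_ext
        · simp [m', he₁]
        · simp [m', reassoc_of% he₂])
    have hu' := norm_uniq hg hloc u₂ hu₂ (pullback.snd π c) (sqZ.lift (a ≫ h) (pullback.snd f u₂) hh')
      (sqZ.lift_snd _ _ _) _ _ (key _ hy₁ u₁) (key _ hy₂ u₂')
    have := congrArg (· ≫ (yon S).map (pullback.fst π c)) hu'
    simp only [sqZ.lift_fst] at this
    exact (cancel_epi eN.inv).1 this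
  obtain ⟨K, hK, -⟩ := exists_glue (pullback.snd ν u) j k hj hc
  refine ⟨K, ⟨?_, ?_⟩, fun k' hk' => ?_⟩
  · refine hom_ext_pieces (pullback.snd ν u) j hj fun x => ?_
    rw [reassoc_of% hK x, (hk x).1]
  · refine hom_ext_pieces (pullback.snd f u) j hj fun x => ?_
    rw [← bcS_fst_assoc (pullback.snd f u) (pullback.snd ν u) (bcS f ν g hg u) (bcS_snd f ν g hg u), hK x,
      (hk x).2]
  · refine norm_uniq hg hloc u hu π h hh k' K hk' ⟨?_, ?_⟩
    · refine hom_ext_pieces (pullback.snd ν u) j hj fun x => ?_
      rw [reassoc_of% hK x, (hk x).1]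
    · refine hom_ext_pieces (pullback.snd f u) j hj fun x => ?_
      rw [← bcS_fst_assoc (pullback.snd f u) (pullback.snd ν u) (bcS f ν g hg u) (bcS_snd f ν g hg u), hK x,
        (hk x).2]

end local_

end Groth.Agent.RelNorm

end
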