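import Groth.Agent.RelNorm.Core
import Groth.Agent.RelNorm.Local
import Groth.Agent.AlgSpLib.QCompact
import Groth.Agent.AlgSpLib.Cover
import Groth.Agent.AlgSpLib.DiagCrit
import Groth.Agent.SpQS.Basic

/-!
# Relative normalization over an affine scheme
-/

set_option autoImplicit false
set_option backward.isDefEq.respectTransparency false
set_option backward.isDefEq.respectTransparency.types false
set_option linter.style.haveILetI false
universe u

open CategoryTheory CategoryTheory.Limits AlgebraicGeometry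

noncomputable section

namespace Groth.Agent.RelNorm

open _root_.AlgSp Groth.Agent.AlgSpLib

variable {S : Scheme.{u}}

theorem epi_of_etale_cover {F G : Sp S} (a : F ⟶ G) (h₁ : RepWith @Etale a) (h₂ : RepWith @Surjective a) : Epi a :=
  have := isLocallySurjective_of_repWith a
    (repWith_mono (P := @Etale) (Q := @Flat) (fun _ _ r hr => have : Etale r := hr; inferInstance) h₁)
    (repWith_mono (P := @Etale) (Q := @LocallyOfFinitePresentation) (fun _ _ r hr => have : Etale r := hr; inferInstance) h₁) h₂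
  inferInstance

theorem exists_norm_affine_sp {U : Over S} [IsAffine U.left] {Y : Sp S} (hY : IsAlgSpace Y)
    (f : Y ⟶ (yon S).obj U) (hqc : AlgSp.IsQuasiCompactMor f) (hqs : IsQuasiSeparatedMor f) :
    ∃ (N : Over S) (ν : N ⟶ U) (g : Y ⟶ (yon S).obj N) (hg : g ≫ (yon S).map ν = f),
      IsIntegralHom ν.left ∧ SmNorm f ((yon S).map ν) g hg := by
  have hqY : IsQuasiCompactSp Y :=
    hqc (IsAlgSpace.yon_obj U) (isQuasiCompactSp_yon U) (𝟙 _) (𝟙 Y) f (IsPullback.of_horiz_isIso ⟨by simp⟩)
  have := compactSpace_of_isQuasiCompactSp hqY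
  obtain ⟨A, w, hA, hwe, hws⟩ := exists_affine_chart_of_compact hY
  obtain ⟨a, ha⟩ := exists_map_eq (w ≫ f)
  obtain ⟨R, q₁, q₂, sqR⟩ := exists_pullback hY.diag w w
  have hwq : AlgSp.IsQuasiCompactMor w := by
    refine SpQS.isQuasiCompactMor_cancel (IsAlgSpace.yon_obj A) hY (IsAlgSpace.yon_obj U) w f ?_ hqs
    rw [← ha]
    have : QuasiCompact a.left := inferInstance
    exact (isQuasiCompactMor_iff_repWith (IsAlgSpace.yon_obj A) (IsAlgSpace.yon_obj U)
      (AlgSp.representable_yon_map a)).2 ((repWith_yon_iff a).2 this)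
  have hRq := hwq (IsAlgSpace.yon_obj A) (isQuasiCompactSp_yon A) w _ _ sqR
  have : CompactSpace R.left := by
    have := compactSpace_of_isQuasiCompactSp hRq
    exact (Points.schemeHomeo R).symm.compactSpace
  have hqq : q₁ ≫ a = q₂ ≫ a := (yon S).map_injective (by
    rw [Functor.map_comp, Functor.map_comp, ha, reassoc_of% sqR.w])
  let r : R.left ⟶ U.left := q₁.left ≫ a.left
  have e₂ : q₂.left ≫ a.left = r := (congrArg CommaMorphism.left hqq).symm
  have : QuasiCompact r := by rw [quasiCompact_iff_compactSpace]; infer_instance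
  let m : R.left ⟶ pullback a.left a.left := pullback.lift q₁.left q₂.left (by rw [e₂])
  have : Mono m := ⟨fun {T} b b' hb => by
    have e₁' : b ≫ q₁.left = b' ≫ q₁.left := by simpa [m] using congrArg (· ≫ pullback.fst _ _) hb
    have e₂' : b ≫ q₂.left = b' ≫ q₂.left := by simpa [m] using congrArg (· ≫ pullback.snd _ _) hb
    have hs : b' ≫ R.hom = b ≫ R.hom := by rw [← Over.w q₁, ← Category.assoc, ← e₁', Category.assoc]
    let bb : Over.mk (b ≫ R.hom) ⟶ R := Over.homMk b rfl
    let bb' : Over.mk (b ≫ R.hom) ⟶ R := Over.homMk b' hs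
    have : bb = bb' := (yon S).map_injective (sqR.hom_ext
      (by rw [← Functor.map_comp, ← Functor.map_comp]; exact congrArg _ (Over.OverMorphism.ext e₁'))
      (by rw [← Functor.map_comp, ← Functor.map_comp]; exact congrArg _ (Over.OverMorphism.ext e₂')))
    exact congrArg CommaMorphism.left this⟩
  have : IsSeparated m := inferInstance
  have : QuasiSeparated r := by
    have : r = m ≫ pullback.fst _ _ ≫ a.left := by simp [m, r]
    rw [this]
    infer_instance
  obtain ⟨N₀, ν₀, g₀, hg₀, hint, hgq, H⟩ := exists_norm_affine a.left r q₁.left q₂.left rfl e₂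
  let N : Over S := Over.mk (ν₀ ≫ U.hom)
  let ν : N ⟶ U := Over.homMk ν₀ rfl
  let gA : A ⟶ N := Over.homMk g₀ (by show g₀ ≫ ν₀ ≫ U.hom = A.hom; rw [reassoc_of% hg₀, Over.w a])
  haveI := epi_of_etale_cover w hwe hws
  have hgA : q₁ ≫ gA = q₂ ≫ gA := Over.OverMorphism.ext hgq
  obtain ⟨g, hg, -⟩ := exists_desc_epi w ((yon S).map gA) (by
    have h₁ : (sqR.isoPullback.hom ≫ pullback.fst w w) ≫ (yon S).map gA =
        (sqR.isoPullback.hom ≫ pullback.snd w w) ≫ (yon S).map gA := by
      rw [IsPullback.isoPullback_hom_fst, IsPullback.isoPullback_hom_snd, ← Functor.map_comp, ← Functor.map_comp,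
        hgA]
    rwa [Category.assoc, Category.assoc, cancel_epi] at h₁)
  have hgν : g ≫ (yon S).map ν = f := by
    rw [← cancel_epi w, reassoc_of% hg, ← ha, ← Functor.map_comp]
    congr 1
    exact Over.OverMorphism.ext hg₀
  refine ⟨N, ν, g, hgν, hint, smNorm_of_local hgν (IsAlgSpace.yon_obj U) fun U' u hu x => ?_⟩
  obtain ⟨_, ⟨O, hO, rfl⟩, hxO, -⟩ :=
    U'.left.isBasis_affineOpens.exists_subset_of_mem_open (Set.mem_univ x) isOpen_univ
  let V : Over S := Over.mk ((Scheme.Opens.ι O) ≫ U'.hom)
  let j : V ⟶ U' := Over.homMk (Scheme.Opens.ι O) rfl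
  refine ⟨V, j, inferInstanceAs (IsOpenImmersion (Scheme.Opens.ι O)), ⟨⟨x, hxO⟩, rfl⟩, ?_⟩
  have hju := smooth_comp_open (IsAlgSpace.yon_obj U) hu j (inferInstanceAs (IsOpenImmersion (Scheme.Opens.ι O)))
  obtain ⟨v, hv⟩ := exists_map_eq ((yon S).map j ≫ u)
  rw [← hv] at hju ⊢
  have hsv : Smooth v.left := by
    have := (locP_iff_repWith etST_smooth (IsAlgSpace.yon_obj U) (AlgSp.representable_yon_map v)).1 hju
    exact (repWith_yon_iff v).1 this
  have hVaff : IsAffine V.left := hO
  -- a scheme model of the base changes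
  let A' : Over S := pullback v a
  have sA := (IsPullback.of_hasPullback v a).map (Over.forget S)
  have sN := (IsPullback.of_hasPullback v ν).map (Over.forget S)
  let mA : (yon S).obj A' ⟶ pullback f ((yon S).map v) :=
    pullback.lift ((yon S).map (pullback.snd v a) ≫ w) ((yon S).map (pullback.fst v a)) (by
      rw [Category.assoc, ← ha, ← Functor.map_comp, ← Functor.map_comp, pullback.condition])
  have sqA : IsPullback ((yon S).map (pullback.snd v a)) mA w (pullback.fst f ((yon S).map v)) := by
    refine IsPullback.of_bot ?_ (pullback.lift_fst _ _ _).symm (IsPullback.of_hasPullback f ((yon S).map v)).flip.flip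
    rw [show mA ≫ pullback.snd _ _ = (yon S).map (pullback.fst v a) from pullback.lift_snd _ _ _, ← ha]
    exact ((IsPullback.of_hasPullback v a).map (yon S)).flip
  haveI := epi_of_etale_cover mA (repWith_baseChange sqA hwe) (repWith_baseChange sqA hws)
  refine (normAt_iff (f := f) (ν := (yon S).map ν) (g := g) hgν
    (IsPullback.of_hasPullback f ((yon S).map v)) ((IsPullback.of_hasPullback v ν).map (yon S)).flip
    (((IsPullback.of_hasPullback v ν).map (yon S)).flip.lift (pullback.fst _ _ ≫ g) (pullback.snd _ _)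
      (by rw [Category.assoc, hgν, pullback.condition])) (IsPullback.lift_fst _ _ _ _)
      (IsPullback.lift_snd _ _ _ _)).1 ?_
  let sNy := ((IsPullback.of_hasPullback v ν).map (yon S)).flip
  intro Z π _ h hh
  obtain ⟨hA', hhA'⟩ := exists_map_eq (mA ≫ h)
  have hA'π : hA' ≫ π = pullback.fst v a := (yon S).map_injective (by
    rw [Functor.map_comp, hhA', Category.assoc, hh]; exact pullback.lift_snd _ _ _)
  -- compare with the scheme statement
  let eA : pullback v.left a.left ≅ A'.left := sA.isoPullback.symm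
  let eN : pullback v.left ν₀ ≅ (pullback v ν).left := sN.isoPullback.symm
  have eA₁ : eA.hom ≫ (pullback.fst v a).left = pullback.fst v.left a.left := by simp [eA]
  have eA₂ : eA.hom ≫ (pullback.snd v a).left = pullback.snd v.left a.left := by simp [eA]
  have eN₁ : eN.hom ≫ (pullback.fst v ν).left = pullback.fst v.left ν₀ := sN.isoPullback_inv_fst
  have eN₂ : eN.hom ≫ (pullback.snd v ν).left = pullback.snd v.left ν₀ := sN.isoPullback_inv_snd
  let gA' : A' ⟶ pullback v ν :=
    pullback.lift (pullback.fst v a) (pullback.snd v a ≫ gA) (by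
      rw [pullback.condition, Category.assoc]; congr 1; exact Over.OverMorphism.ext hg₀.symm)
  have hgA' : mA ≫ sNy.lift (pullback.fst _ _ ≫ g) (pullback.snd _ _)
      (by rw [Category.assoc, hgν, pullback.condition]) = (yon S).map gA' := by
    refine sNy.hom_ext ?_ ?_
    · rw [Category.assoc, sNy.lift_fst, ← Functor.map_comp, show gA' ≫ pullback.snd v ν = _ from
        pullback.lift_snd _ _ _, Functor.map_comp, ← hg]
      simp [mA]
    · rw [Category.assoc, sNy.lift_snd, ← Functor.map_comp, show gA' ≫ pullback.fst v ν = _ from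
        pullback.lift_fst _ _ _]
      exact pullback.lift_snd _ _ _
  have hbcg : eA.hom ≫ gA'.left = bc v.left g₀ hg₀ ≫ eN.hom := by
    refine sN.hom_ext ?_ ?_
    · simp only [Over.forget_map, Category.assoc, eN₁, bc_fst]
      rw [← Over.comp_left, show gA' ≫ pullback.fst v ν = _ from pullback.lift_fst _ _ _, eA₁]
    · simp only [Over.forget_map, Category.assoc, eN₂, bc_snd]
      rw [← Over.comp_left, show gA' ≫ pullback.snd v ν = _ from pullback.lift_snd _ _ _, Over.comp_left,
        reassoc_of% eA₂]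
      rfl
  have hker : bc v.left q₁.left (rfl : q₁.left ≫ a.left = r) ≫ eA.hom ≫ hA'.left =
      bc v.left q₂.left e₂ ≫ eA.hom ≫ hA'.left := by
    let T : Over S := Over.mk (pullback.fst v.left r ≫ V.hom)
    let mk' : ∀ (q : R ⟶ A) (hq : q.left ≫ a.left = r), T ⟶ A' := fun q hq =>
      Over.homMk (bc v.left q.left hq ≫ eA.hom) (by
        show (bc v.left q.left hq ≫ eA.hom) ≫ A'.hom = _
        rw [← Over.w (pullback.fst v a), Category.assoc, reassoc_of% eA₁, bc_fst_assoc]
        rfl)
    have hm : ∀ (q : R ⟶ A) (hq : q.left ≫ a.left = r),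
        (mk' q hq ≫ pullback.fst v a).left = pullback.fst v.left r ∧
          (mk' q hq ≫ pullback.snd v a).left = pullback.snd v.left r ≫ q.left := fun q hq => by
      constructor
      · show (bc v.left q.left hq ≫ eA.hom) ≫ _ = _
        rw [Category.assoc, eA₁, bc_fst]
      · show (bc v.left q.left hq ≫ eA.hom) ≫ _ = _
        rw [Category.assoc, eA₂, bc_snd]
    let tR : T ⟶ R := Over.homMk (pullback.snd v.left r) (by
      show pullback.snd v.left r ≫ R.hom = pullback.fst v.left r ≫ V.hom
      rw [← Over.w q₁, ← Over.w a, ← Category.assoc q₁.left]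
      show pullback.snd v.left r ≫ r ≫ _ = _
      rw [← pullback.condition_assoc, Over.w v])
    have e : (yon S).map (mk' q₁ rfl) ≫ mA = (yon S).map (mk' q₂ e₂) ≫ mA := by
      apply pullback.hom_ext
      · simp only [mA, Category.assoc, pullback.lift_fst]
        rw [← Functor.map_comp_assoc, ← Functor.map_comp_assoc,
          show mk' q₁ rfl ≫ pullback.snd v a = tR ≫ q₁ from Over.OverMorphism.ext (hm q₁ rfl).2,
          show mk' q₂ e₂ ≫ pullback.snd v a = tR ≫ q₂ from Over.OverMorphism.ext (hm q₂ e₂).2,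
          Functor.map_comp, Functor.map_comp, Category.assoc, Category.assoc, sqR.w]
      · simp only [mA, Category.assoc, pullback.lift_snd]
        rw [← Functor.map_comp, ← Functor.map_comp]
        congr 1
        exact Over.OverMorphism.ext ((hm q₁ rfl).1.trans (hm q₂ e₂).1.symm)
    have e' : mk' q₁ rfl ≫ hA' = mk' q₂ e₂ ≫ hA' := (yon S).map_injective (by
      rw [Functor.map_comp, Functor.map_comp, hhA', reassoc_of% e])
    have := congrArg CommaMorphism.left e'
    simpa [mk'] using this
  obtain ⟨k₀, ⟨hk₁, hk₂⟩, hk⟩ := H v.left π.left (eA.hom ≫ hA'.left)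
    (by rw [Category.assoc, ← Over.comp_left, hA'π, eA₁]) hker
  let k' : pullback v ν ⟶ Z := Over.homMk (eN.inv ≫ k₀) (by
    rw [← Over.w π, Category.assoc, reassoc_of% hk₁, ← eN₁, Category.assoc, Iso.inv_hom_id_assoc]
    exact Over.w (pullback.fst v ν))
  refine ⟨(yon S).map k', ⟨?_, ?_⟩, fun k'' hk'' => ?_⟩
  · rw [← Functor.map_comp]
    congr 1
    refine Over.OverMorphism.ext ?_
    show (eN.inv ≫ k₀) ≫ π.left = _
    rw [Category.assoc, hk₁, Iso.inv_comp_eq, eN₁]
  · rw [← cancel_epi mA, reassoc_of% hgA', ← Functor.map_comp, ← hhA']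
    congr 1
    refine Over.OverMorphism.ext ((cancel_epi eA.hom).1 ?_)
    show eA.hom ≫ gA'.left ≫ eN.inv ≫ k₀ = _
    rw [reassoc_of% hbcg, Iso.hom_inv_id_assoc, hk₂]
  · obtain ⟨k₁, hk₁'⟩ := exists_map_eq k''
    rw [← hk₁']
    congr 1
    refine Over.OverMorphism.ext ?_
    show k₁.left = eN.inv ≫ k₀
    rw [Iso.eq_inv_comp]
    refine hk _ ⟨?_, ?_⟩
    · have : k₁ ≫ π = pullback.fst v ν := (yon S).map_injective (by rw [Functor.map_comp, hk₁']; exact hk''.1)
      rw [Category.assoc, ← Over.comp_left, this, eN₁]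
    · have : gA' ≫ k₁ = hA' := (yon S).map_injective (by
        rw [Functor.map_comp, hk₁', ← hgA', Category.assoc, hk''.2, hhA'])
      rw [← reassoc_of% hbcg, ← Over.comp_left, this]

end Groth.Agent.RelNorm

end
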