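import Groth.Agent.RelNorm.Construct
import Groth.Agent.AlgSpLib.DiagCrit
import Groth.Agent.AlgSpLib.Graph

/-!
# Relative normalizations: smooth base change and cancellation
-/

set_option autoImplicit false
set_option backward.isDefEq.respectTransparency false
set_option backward.isDefEq.respectTransparency.types false
set_option linter.style.haveILetI false
universe u

open CategoryTheory CategoryTheory.Limits AlgebraicGeometry

noncomputable section

namespace Groth.Agent.RelNorm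

open _root_.AlgSp Groth.Agent.AlgSpLib

variable {S : Scheme.{u}}

/-- formation of relative normalizations commutes with smooth base change -/
theorem isRelNormalization_baseChange {X₁ X₂ Y₁ Y₂ N₁ N₂ : Sp S} (hX₁ : IsAlgSpace X₁) (hX₂ : IsAlgSpace X₂)
    (hY₁ : IsAlgSpace Y₁) (hN₁ : IsAlgSpace N₁) {f₁ : Y₁ ⟶ X₁} {φ : X₂ ⟶ X₁} {f₂ : Y₂ ⟶ X₂} {a : Y₂ ⟶ Y₁}
    (sY : IsPullback a f₂ f₁ φ) (hqc : AlgSp.IsQuasiCompactMor f₁) (hqs : IsQuasiSeparatedMor f₁)
    (hφ : LocP @Smooth φ) {ν₁ : N₁ ⟶ X₁} {g₁ : Y₁ ⟶ N₁} (hn : IsRelNormalization f₁ ν₁ g₁) {ν₂ : N₂ ⟶ X₂}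
    {b : N₂ ⟶ N₁} (sN : IsPullback b ν₂ ν₁ φ) (g₂ : Y₂ ⟶ N₂) (w₁ : g₂ ≫ ν₂ = f₂) (w₂ : g₂ ≫ b = a ≫ g₁) :
    IsRelNormalization f₂ ν₂ g₂ := by
  have H := smNorm_of_isRelNormalization hY₁ hX₁ hN₁ hqc hqs hn
  refine isRelNormalization_of_smNorm hX₂ w₁
    ((isIntegralMor_iff_repWith ν₂).2 (repWith_baseChange sN ((isIntegralMor_iff_repWith ν₁).1 hn.2.1)))
    fun U u hu => (normAt_baseChange hn.1 sY sN g₂ w₁ w₂ u).2 (H _ (locP_comp etST_smooth hX₂ hX₁ hu hφ))

/-- integral morphisms cancel -/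
theorem isIntegralMor_of_comp {X Y B : Sp S} (hY : IsAlgSpace Y) (hB : IsAlgSpace B) (h : X ⟶ Y) {p : X ⟶ B} {q : Y ⟶ B} (e : h ≫ q = p)
    (hp : IsIntegralMor p) (hq : IsIntegralMor q) : IsIntegralMor h := by
  rw [isIntegralMor_iff_repWith] at hp hq ⊢
  have hs : IsSeparatedMor q := (isSeparatedMor_iff_repWith hY hB hq.1).2
    (repWith_mono (fun _ _ r (hr : IsIntegralHom r) => (inferInstance : IsSeparated r)) hq)
  exact repWith_of_comp h p q e hp
    (repWith_mono (fun _ _ r (hr : IsClosedImmersion r) => (inferInstance : IsIntegralHom r)) hs)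

end Groth.Agent.RelNorm

end
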