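import Mathlib

/-!
# Coequalizers of affine schemes over an affine base commute with flat base change

For affine morphisms `νA : NA ⟶ U`, `νR : NR ⟶ U` to an affine scheme and two morphisms `d₁ d₂ : NR ⟶ NA`
over `U`, the spectrum of the equalizer of the algebras of functions is a coequalizer in schemes affine
over `U`, and stays one after every flat base change.
-/

set_option autoImplicit false
universe u

open CategoryTheory CategoryTheory.Limits AlgebraicGeometry TensorProduct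

noncomputable section

namespace Groth.Agent.RelNorm

/-- maps into tensored equalizers -/
theorem exists_tensor_equalizer {B C D B' O : Type u} [CommRing B] [CommRing C] [CommRing D] [CommRing B']
    [CommRing O] [Algebra B C] [Algebra B D] [Algebra B B'] [Module.Flat B B'] (f g : C →ₐ[B] D)
    (ψ : O →+* B' ⊗[B] C)
    (h : ∀ x, Algebra.TensorProduct.map (AlgHom.id B' B') f (ψ x) =
      Algebra.TensorProduct.map (AlgHom.id B' B') g (ψ x)) :
    ∃! χ : O →+* B' ⊗[B] (AlgHom.equalizer f g),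
      (Algebra.TensorProduct.map (AlgHom.id B' B') (AlgHom.equalizer f g).val).toRingHom.comp χ = ψ := by
  let e := AlgHom.tensorEqualizerEquiv B' B' f g
  have he : ∀ x, ((e x : _) : B' ⊗[B] C) =
      Algebra.TensorProduct.map (AlgHom.id B' B') (AlgHom.equalizer f g).val x := fun x => by
    simp [e]
  let ψ' : O →+* AlgHom.equalizer (Algebra.TensorProduct.map (AlgHom.id B' B') f)
      (Algebra.TensorProduct.map (AlgHom.id B' B') g) := ψ.codRestrict _ h
  refine ⟨(e.symm : _ →ₐ[B'] _).toRingHom.comp ψ', RingHom.ext fun x => ?_, fun χ hχ => RingHom.ext fun x => ?_⟩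
  · show Algebra.TensorProduct.map (AlgHom.id B' B') (AlgHom.equalizer f g).val (e.symm (ψ' x)) = ψ x
    rw [← he, AlgEquiv.apply_symm_apply]
    rfl
  · apply e.injective
    apply Subtype.ext
    show ((e (χ x) : _) : B' ⊗[B] C) = (e (e.symm (ψ' x)) : _)
    rw [he, AlgEquiv.apply_symm_apply]
    exact congrArg (fun k : O →+* B' ⊗[B] C => k x) hχ

variable {U NA NR N : Scheme.{u}} (νA : NA ⟶ U) (νR : NR ⟶ U) (d₁ d₂ : NR ⟶ NA)
  (h₁ : d₁ ≫ νA = νR) (h₂ : d₂ ≫ νA = νR) (ν : N ⟶ U) (c : NA ⟶ N) (hc : c ≫ ν = νA)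

/-- base change of a morphism over `U` -/
abbrev bc {U' P Q : Scheme.{u}} (u : U' ⟶ U) {p : P ⟶ U} {q : Q ⟶ U} (d : P ⟶ Q) (h : d ≫ q = p) :
    pullback u p ⟶ pullback u q :=
  pullback.map _ _ _ _ (𝟙 _) d (𝟙 _) (by simp) (by simp [h])

/-- `c` is a coequalizer of `a`, `b` in schemes affine over `U` -/
def IsAffCoeq {U A R M : Scheme.{u}} (qA : A ⟶ U) (qM : M ⟶ U) (a b : R ⟶ A) (c : A ⟶ M) : Prop :=
  ∀ ⦃Z : Scheme.{u}⦄ (π : Z ⟶ U) [IsAffineHom π] (h : A ⟶ Z),
    h ≫ π = qA → a ≫ h = b ≫ h → ∃! k : M ⟶ Z, k ≫ π = qM ∧ c ≫ k = h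

theorem IsAffCoeq.of_iso {U A R M U₀ A₀ R₀ M₀ : Scheme.{u}} {qA : A ⟶ U} {qM : M ⟶ U} {a b : R ⟶ A} {c : A ⟶ M}
    {qA₀ : A₀ ⟶ U₀} {qM₀ : M₀ ⟶ U₀} {a₀ b₀ : R₀ ⟶ A₀} {c₀ : A₀ ⟶ M₀}
    (h : IsAffCoeq qA₀ qM₀ a₀ b₀ c₀) (eU : U ≅ U₀) (eA : A ≅ A₀) (eR : R ≅ R₀) (eM : M ≅ M₀)
    (hA : qA ≫ eU.hom = eA.hom ≫ qA₀) (hM : qM ≫ eU.hom = eM.hom ≫ qM₀)
    (ha : a ≫ eA.hom = eR.hom ≫ a₀) (hb : b ≫ eA.hom = eR.hom ≫ b₀) (hc : c ≫ eM.hom = eA.hom ≫ c₀) :
    IsAffCoeq qA qM a b c := by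
  intro Z π _ k hk hab
  have : IsAffineHom (π ≫ eU.hom) := inferInstance
  obtain ⟨l, ⟨hl₁, hl₂⟩, hl⟩ := h (π ≫ eU.hom) (eA.inv ≫ k)
    (by rw [Category.assoc, reassoc_of% hk, hA, Iso.inv_hom_id_assoc])
    (by rw [← cancel_epi eR.hom, ← reassoc_of% ha, ← reassoc_of% hb, Iso.hom_inv_id_assoc, hab])
  refine ⟨eM.hom ≫ l, ⟨?_, ?_⟩, fun l' hl' => ?_⟩
  · rw [← cancel_mono eU.hom, Category.assoc, Category.assoc, hl₁, hM]
  · rw [reassoc_of% hc, hl₂, Iso.hom_inv_id_assoc]
  · rw [← hl (eM.inv ≫ l') ⟨?_, ?_⟩, Iso.hom_inv_id_assoc]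
    · rw [Category.assoc, reassoc_of% hl'.1, hM, Iso.inv_hom_id_assoc]
    · rw [← cancel_epi eA.hom, ← reassoc_of% hc, Iso.hom_inv_id_assoc, Iso.hom_inv_id_assoc, hl'.2]

/-- `c` is a coequalizer in schemes affine over the base after the base change `u` -/
def CoeqAt {U' : Scheme.{u}} (u : U' ⟶ U) : Prop :=
  IsAffCoeq (pullback.fst u νA) (pullback.fst u ν) (bc u d₁ h₁) (bc u d₂ h₂) (bc u c hc)

section Spec

variable {B C D : Type u} [CommRing B] [CommRing C] [CommRing D] [Algebra B C] [Algebra B D]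

theorem bc_spec {P Q : Type u} [CommRing P] [CommRing Q] [Algebra B P] [Algebra B Q] (B' : Type u)
    [CommRing B'] [Algebra B B'] (φ : Q →ₐ[B] P)
    (hφ : Spec.map (CommRingCat.ofHom φ.toRingHom) ≫ Spec.map (CommRingCat.ofHom (algebraMap B Q)) =
      Spec.map (CommRingCat.ofHom (algebraMap B P))) :
    (pullbackSpecIso B B' P).inv ≫ bc (Spec.map (CommRingCat.ofHom (algebraMap B B')))
        (Spec.map (CommRingCat.ofHom φ.toRingHom)) hφ =
      Spec.map (CommRingCat.ofHom (Algebra.TensorProduct.map (AlgHom.id B' B') φ).toRingHom) ≫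
        (pullbackSpecIso B B' Q).inv := by
  apply pullback.hom_ext
  · simp only [Category.assoc, bc, pullback.lift_fst, Category.comp_id, pullbackSpecIso_inv_fst]
    rw [← Spec.map_comp, ← CommRingCat.ofHom_comp]
    congr 2
    exact RingHom.ext fun x => by simp
  · simp only [Category.assoc, bc, pullback.lift_snd, pullbackSpecIso_inv_snd]
    rw [pullbackSpecIso_inv_snd_assoc, ← Spec.map_comp, ← Spec.map_comp, ← CommRingCat.ofHom_comp,
      ← CommRingCat.ofHom_comp]
    congr 2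


theorem coeqAt_spec (f g : C →ₐ[B] D) (B' : Type u) [CommRing B'] [Algebra B B'] [Module.Flat B B']
    (hf : Spec.map (CommRingCat.ofHom f.toRingHom) ≫ Spec.map (CommRingCat.ofHom (algebraMap B C)) =
      Spec.map (CommRingCat.ofHom (algebraMap B D)))
    (hg : Spec.map (CommRingCat.ofHom g.toRingHom) ≫ Spec.map (CommRingCat.ofHom (algebraMap B C)) =
      Spec.map (CommRingCat.ofHom (algebraMap B D)))
    (he : Spec.map (CommRingCat.ofHom (AlgHom.equalizer f g).val.toRingHom) ≫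
        Spec.map (CommRingCat.ofHom (algebraMap B (AlgHom.equalizer f g))) =
      Spec.map (CommRingCat.ofHom (algebraMap B C))) :
    CoeqAt _ _ _ _ hf hg _ _ he (Spec.map (CommRingCat.ofHom (algebraMap B B'))) := by
  intro Z π _ h hπ heq
  have : IsAffine Z := isAffine_of_isAffineHom π
  obtain ⟨ψ, hψ⟩ := Spec.map_surjective ((pullbackSpecIso B B' C).inv ≫ h ≫ Z.isoSpec.hom)
  have key : CommRingCat.ofHom
        ((Algebra.TensorProduct.map (AlgHom.id B' B') f).toRingHom.comp ψ.hom) =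
      CommRingCat.ofHom ((Algebra.TensorProduct.map (AlgHom.id B' B') g).toRingHom.comp ψ.hom) := by
    apply Spec.map_injective
    rw [CommRingCat.ofHom_comp, CommRingCat.ofHom_comp, Spec.map_comp, Spec.map_comp, CommRingCat.ofHom_hom, hψ,
      ← reassoc_of% bc_spec B' f hf, ← reassoc_of% bc_spec B' g hg, reassoc_of% heq]
  obtain ⟨χ, hχ, huniq⟩ := exists_tensor_equalizer f g ψ.hom
    fun x => congrArg (fun k => k.hom x) key
  have hE : bc (Spec.map (CommRingCat.ofHom (algebraMap B B'))) _ he ≫ (pullbackSpecIso B B' _).hom =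
      (pullbackSpecIso B B' C).hom ≫ Spec.map (CommRingCat.ofHom
        (Algebra.TensorProduct.map (AlgHom.id B' B') (AlgHom.equalizer f g).val).toRingHom) := by
    rw [← Iso.inv_comp_eq, reassoc_of% bc_spec B' _ he, Iso.inv_hom_id, Category.comp_id]
  let k : pullback (Spec.map (CommRingCat.ofHom (algebraMap B B')))
      (Spec.map (CommRingCat.ofHom (algebraMap B (AlgHom.equalizer f g)))) ⟶ Z :=
    (pullbackSpecIso B B' _).hom ≫ Spec.map (CommRingCat.ofHom χ) ≫ Z.isoSpec.inv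
  have hk : bc (Spec.map (CommRingCat.ofHom (algebraMap B B'))) _ he ≫ k = h := by
    show _ ≫ _ ≫ _ ≫ _ = _
    rw [reassoc_of% hE, ← Spec.map_comp_assoc, ← CommRingCat.ofHom_comp, hχ, CommRingCat.ofHom_hom, hψ]
    simp
  have huni : ∀ k' : pullback (Spec.map (CommRingCat.ofHom (algebraMap B B')))
      (Spec.map (CommRingCat.ofHom (algebraMap B (AlgHom.equalizer f g)))) ⟶ Z,
      bc (Spec.map (CommRingCat.ofHom (algebraMap B B'))) _ he ≫ k' = h → k' = k := by
    intro k' hk'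
    obtain ⟨χ', hχ'⟩ := Spec.map_surjective ((pullbackSpecIso B B' _).inv ≫ k' ≫ Z.isoSpec.hom)
    have : χ'.hom = χ := huniq _ (congrArg CommRingCat.Hom.hom (Spec.map_injective (?_ :
      Spec.map (χ' ≫ CommRingCat.ofHom
        (Algebra.TensorProduct.map (AlgHom.id B' B') (AlgHom.equalizer f g).val).toRingHom) = Spec.map ψ)))
    · show k' = _ ≫ _ ≫ _
      rw [← this, CommRingCat.ofHom_hom, hχ']
      simp
    · rw [Spec.map_comp, hχ', hψ, ← reassoc_of% bc_spec B' _ he, reassoc_of% hk']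
  refine ⟨k, ⟨?_, hk⟩, fun k' hk' => huni k' hk'.2⟩
  have h' : bc (Spec.map (CommRingCat.ofHom (algebraMap B B'))) _ he ≫ (k ≫ π) =
      bc (Spec.map (CommRingCat.ofHom (algebraMap B B'))) _ he ≫ pullback.fst _ _ := by
    rw [reassoc_of% hk, hπ]
    exact ((pullback.lift_fst _ _ _).trans (Category.comp_id _)).symm
  obtain ⟨χ', hχ'⟩ := Spec.map_surjective ((pullbackSpecIso B B' _).inv ≫ (k ≫ π))
  obtain ⟨χ₀, hχ₀⟩ := Spec.map_surjective ((pullbackSpecIso B B' _).inv ≫
    pullback.fst (Spec.map (CommRingCat.ofHom (algebraMap B B')))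
      (Spec.map (CommRingCat.ofHom (algebraMap B (AlgHom.equalizer f g)))))
  have hinj : Function.Injective
      (Algebra.TensorProduct.map (AlgHom.id B' B') (AlgHom.equalizer f g).val) := fun x y hxy => by
    apply (AlgHom.tensorEqualizerEquiv B' B' f g).injective
    apply Subtype.ext
    simpa using hxy
  have : χ' = χ₀ := by
    have e : χ' ≫ CommRingCat.ofHom (Algebra.TensorProduct.map (AlgHom.id B' B') (AlgHom.equalizer f g).val).toRingHom =
        χ₀ ≫ CommRingCat.ofHom (Algebra.TensorProduct.map (AlgHom.id B' B') (AlgHom.equalizer f g).val).toRingHom := by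
      apply Spec.map_injective
      rw [Spec.map_comp, Spec.map_comp, hχ', hχ₀, ← reassoc_of% bc_spec B' _ he,
        ← reassoc_of% bc_spec B' _ he, h']
    ext x
    exact hinj (congrArg (fun q => q.hom x) e)
  rw [this, hχ₀] at hχ'
  exact ((cancel_epi _).1 hχ').symm

end Spec

end Groth.Agent.RelNorm

end
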