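import Groth.Agent.RelNorm.Coeq

/-!
# Existence of affine coequalizers universal for flat base change
-/

set_option autoImplicit false
universe u

open CategoryTheory CategoryTheory.Limits AlgebraicGeometry TensorProduct

noncomputable section

namespace Groth.Agent.RelNorm

/-- the iso between base changes along isomorphic data -/
def bcIso {U U₀ U' U'₀ P P₀ : Scheme.{u}} (u : U' ⟶ U) (u₀ : U'₀ ⟶ U₀) (p : P ⟶ U) (p₀ : P₀ ⟶ U₀)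
    (eU : U ≅ U₀) (eU' : U' ≅ U'₀) (eP : P ≅ P₀) (hu : u ≫ eU.hom = eU'.hom ≫ u₀)
    (hp : p ≫ eU.hom = eP.hom ≫ p₀) : pullback u p ≅ pullback u₀ p₀ :=
  asIso (pullback.map u p u₀ p₀ eU'.hom eP.hom eU.hom hu hp)

theorem bc_bcIso {U U₀ U' U'₀ P P₀ Q Q₀ : Scheme.{u}} (u : U' ⟶ U) (u₀ : U'₀ ⟶ U₀) {p : P ⟶ U} {p₀ : P₀ ⟶ U₀}
    {q : Q ⟶ U} {q₀ : Q₀ ⟶ U₀} (eU : U ≅ U₀) (eU' : U' ≅ U'₀) (eP : P ≅ P₀) (eQ : Q ≅ Q₀)
    (hu : u ≫ eU.hom = eU'.hom ≫ u₀) (hp : p ≫ eU.hom = eP.hom ≫ p₀) (hq : q ≫ eU.hom = eQ.hom ≫ q₀)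
    (d : P ⟶ Q) (h : d ≫ q = p) (d₀ : P₀ ⟶ Q₀) (h₀ : d₀ ≫ q₀ = p₀) (hd : d ≫ eQ.hom = eP.hom ≫ d₀) :
    bc u d h ≫ (bcIso u u₀ q q₀ eU eU' eQ hu hq).hom = (bcIso u u₀ p p₀ eU eU' eP hu hp).hom ≫ bc u₀ d₀ h₀ := by
  apply pullback.hom_ext
  · simp only [bcIso, asIso_hom, Category.assoc]
    erw [pullback.lift_fst, pullback.lift_fst, pullback.lift_fst_assoc, pullback.lift_fst_assoc]
    simp
  · simp only [bcIso, asIso_hom, Category.assoc]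
    erw [pullback.lift_snd, pullback.lift_snd, pullback.lift_snd_assoc, pullback.lift_snd_assoc]
    simp [hd]

theorem exists_affCoeq {U NA NR : Scheme.{u}} [IsAffine U] (νA : NA ⟶ U) (νR : NR ⟶ U) [IsAffineHom νA]
    [IsAffineHom νR] (d₁ d₂ : NR ⟶ NA) (h₁ : d₁ ≫ νA = νR) (h₂ : d₂ ≫ νA = νR) :
    ∃ (N : Scheme.{u}) (ν : N ⟶ U) (c : NA ⟶ N) (hc : c ≫ ν = νA), IsAffineHom ν ∧ d₁ ≫ c = d₂ ≫ c ∧
      (IsIntegralHom νA → IsIntegralHom ν) ∧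
      ∀ {U' : Scheme.{u}} [IsAffine U'] (u : U' ⟶ U) [Flat u], CoeqAt νA νR d₁ d₂ h₁ h₂ ν c hc u := by
  have : IsAffine NA := isAffine_of_isAffineHom νA
  have : IsAffine NR := isAffine_of_isAffineHom νR
  algebraize [νA.appTop.hom, νR.appTop.hom]
  let φ : (d : NR ⟶ NA) → d ≫ νA = νR → (Γ(NA, ⊤) →ₐ[Γ(U, ⊤)] Γ(NR, ⊤)) := fun d h =>
    { d.appTop.hom with
      commutes' := fun x => congrArg (fun k => k.hom x)
        ((Scheme.Hom.comp_appTop d νA).symm.trans (congrArg Scheme.Hom.appTop h)) }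
  let f := φ d₁ h₁
  let g := φ d₂ h₂
  let E := AlgHom.equalizer f g
  let ν₀ : Spec (.of E) ⟶ Spec Γ(U, ⊤) := Spec.map (CommRingCat.ofHom (algebraMap Γ(U, ⊤) E))
  let c₀ : Spec Γ(NA, ⊤) ⟶ Spec (.of E) := Spec.map (CommRingCat.ofHom E.val.toRingHom)
  have hA : νA ≫ U.isoSpec.hom = NA.isoSpec.hom ≫ Spec.map (CommRingCat.ofHom (algebraMap Γ(U, ⊤) Γ(NA, ⊤))) :=
    (Scheme.isoSpec_hom_naturality νA).symm
  have hR : νR ≫ U.isoSpec.hom = NR.isoSpec.hom ≫ Spec.map (CommRingCat.ofHom (algebraMap Γ(U, ⊤) Γ(NR, ⊤))) :=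
    (Scheme.isoSpec_hom_naturality νR).symm
  have he : c₀ ≫ ν₀ = Spec.map (CommRingCat.ofHom (algebraMap Γ(U, ⊤) Γ(NA, ⊤))) := by
    simp only [c₀, ν₀, ← Spec.map_comp, ← CommRingCat.ofHom_comp]
    rfl
  have hdd : ∀ (d : NR ⟶ NA) (h : d ≫ νA = νR), Spec.map (CommRingCat.ofHom (φ d h).toRingHom) ≫
      Spec.map (CommRingCat.ofHom (algebraMap Γ(U, ⊤) Γ(NA, ⊤))) =
      Spec.map (CommRingCat.ofHom (algebraMap Γ(U, ⊤) Γ(NR, ⊤))) := fun d h => by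
    rw [← Spec.map_comp, ← CommRingCat.ofHom_comp]
    congr 2
    exact RingHom.ext (φ d h).commutes
  have hdn : ∀ (d : NR ⟶ NA) (h : d ≫ νA = νR),
      d ≫ NA.isoSpec.hom = NR.isoSpec.hom ≫ Spec.map (CommRingCat.ofHom (φ d h).toRingHom) :=
    fun d _ => (Scheme.isoSpec_hom_naturality d).symm
  refine ⟨Spec (.of E), ν₀ ≫ U.isoSpec.inv, NA.isoSpec.hom ≫ c₀, ?_, ?_, ?_, ?_, ?_⟩
  · rw [Category.assoc, reassoc_of% he, ← reassoc_of% hA, Iso.hom_inv_id, Category.comp_id]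
  · infer_instance
  · rw [reassoc_of% hdn d₁ h₁, reassoc_of% hdn d₂ h₂]
    congr 1
    rw [← Spec.map_comp, ← Spec.map_comp, ← CommRingCat.ofHom_comp, ← CommRingCat.ofHom_comp]
    congr 2
    exact RingHom.ext fun x => x.2
  · intro hi
    have h' : νA.appTop.hom.IsIntegral := νA.isIntegral_app ⊤ (isAffineOpen_top U)
    have hE : (algebraMap Γ(U, ⊤) E).IsIntegral := fun x => by
      refine (isIntegral_algHom_iff E.val Subtype.val_injective).1 ?_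
      exact h' x.1
    have : IsIntegralHom ν₀ := IsIntegralHom.SpecMap_iff.2 hE
    infer_instance
  · intro U' _ u _
    algebraize [u.appTop.hom]
    have hflat : Module.Flat Γ(U, ⊤) Γ(U', ⊤) := by
      have := HasRingHomProperty.appTop @Flat u inferInstance
      exact this
    have hu : u ≫ U.isoSpec.hom = U'.isoSpec.hom ≫ Spec.map (CommRingCat.ofHom (algebraMap Γ(U, ⊤) Γ(U', ⊤))) :=
      (Scheme.isoSpec_hom_naturality u).symm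
    unfold CoeqAt
    refine IsAffCoeq.of_iso (coeqAt_spec f g Γ(U', ⊤) (hdd d₁ h₁) (hdd d₂ h₂) he) U'.isoSpec
      (bcIso _ _ _ _ U.isoSpec U'.isoSpec NA.isoSpec hu hA)
      (bcIso _ _ _ _ U.isoSpec U'.isoSpec NR.isoSpec hu hR)
      (bcIso u _ (ν₀ ≫ U.isoSpec.inv) ν₀ U.isoSpec U'.isoSpec (Iso.refl _) hu (by simp)) ?_ ?_ ?_ ?_ ?_
    · exact (pullback.lift_fst _ _ _).symm
    · exact (pullback.lift_fst _ _ _).symm
    · exact bc_bcIso _ _ _ _ _ _ _ _ _ _ _ _ _ (hdn d₁ h₁)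
    · exact bc_bcIso _ _ _ _ _ _ _ _ _ _ _ _ _ (hdn d₂ h₂)
    · exact bc_bcIso _ _ _ _ _ _ _ _ _ _ _ _ _ (by simp [c₀])

end Groth.Agent.RelNorm

end
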