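import Groth.Agent.RelNorm.Rigid
import Groth.Agent.AlgSpLib.FpqcProps

/-!
# Smoothly universal factorizations are relative normalizations
-/

set_option autoImplicit false
set_option backward.isDefEq.respectTransparency false
set_option backward.isDefEq.respectTransparency.types false
set_option linter.style.haveILetI false
universe u

open CategoryTheory CategoryTheory.Limits AlgebraicGeometry

noncomputable section

namespace Groth.Agent.RelNorm

open _root_.AlgSp Groth.Agent.AlgSpLib

variable {S : Scheme.{u}} {X Y X' : Sp S}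

theorem isLocallySurjective_chart {U : Over S} {p : (yon S).obj U ⟶ X} (hpe : RepWith @Etale p)
    (hps : RepWith @Surjective p) : Sheaf.IsLocallySurjective p :=
  Groth.Agent.AlgSpLib.isLocallySurjective_of_atlas hpe hps

theorem locP_smooth_yon {W U : Over S} (a : W ⟶ U) [Smooth a.left] : LocP @Smooth ((yon S).map a) :=
  (locP_iff_repWith etST_smooth (IsAlgSpace.yon_obj U) (AlgSp.representable_yon_map a)).2
    ((repWith_yon_iff a).2 ‹_›)

/-- universality over the base itself -/
theorem isNormOver_self {U N : Over S} {G : Sp S} {π : G ⟶ (yon S).obj U} {ν : N ⟶ U}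
    {gU : G ⟶ (yon S).obj N} (hgU : gU ≫ (yon S).map ν = π) (H : SmNorm π ((yon S).map ν) gU hgU) :
    IsNormOver π ((yon S).map ν) gU := by
  haveI : Smooth (𝟙 U : U ⟶ U).left := inferInstanceAs (Smooth (𝟙 U.left))
  have sY : IsPullback (𝟙 G) π π ((yon S).map (𝟙 U)) := IsPullback.of_horiz_isIso ⟨by simp⟩
  have sN : IsPullback (𝟙 ((yon S).obj N)) ((yon S).map ν) ((yon S).map ν) ((yon S).map (𝟙 U)) :=
    IsPullback.of_horiz_isIso ⟨by simp⟩
  exact (normAt_iff (f := π) (ν := (yon S).map ν) (g := gU) hgU sY sN gU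
    ((Category.comp_id _).trans (Category.id_comp _).symm) hgU).2 (H _ (locP_smooth_yon (𝟙 U)))

section chart

variable {f : Y ⟶ X} {ν' : X' ⟶ X} {f' : Y ⟶ X'} {U N : Over S} {p : (yon S).obj U ⟶ X} {ν : N ⟶ U}
  {gU : pullback f p ⟶ (yon S).obj N} (hgU : gU ≫ (yon S).map ν = pullback.snd f p)
  {π : (yon S).obj N ⟶ X'} (sq : IsPullback π ((yon S).map ν) ν' p)

include hgU sq in
/-- a factorization which is smoothly universal over an etale chart is a normalization -/
theorem isRelNormalization_of_chart (hX : IsAlgSpace X) (hpe : RepWith @Etale p) (hps : RepWith @Surjective p)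
    (hf : f' ≫ ν' = f) (hint : IsIntegralMor ν') (hπ : gU ≫ π = pullback.fst f p ≫ f')
    (H : SmNorm (pullback.snd f p) ((yon S).map ν) gU hgU) : IsRelNormalization f ν' f' := by
  haveI := isLocallySurjective_chart hpe hps
  haveI : Sheaf.IsLocallySurjective π := isLocallySurjective_of_isPullback sq
  haveI : Sheaf.IsLocallySurjective (pullback.fst f p) :=
    isLocallySurjective_of_isPullback (IsPullback.of_hasPullback f p)
  refine ⟨hf, hint, fun Z hZ πZ g hπZ hg => ?_⟩
  obtain ⟨W, c, i, sqW, hi⟩ := exists_repWith ((isIntegralMor_iff_repWith πZ).1 hπZ) p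
  haveI : IsIntegralHom i.left := hi
  obtain ⟨k₀, ⟨hk₁, hk₂⟩, hk₀⟩ := isNormOver_self hgU H i
    (sqW.lift (pullback.fst f p ≫ g) (pullback.snd f p) (by rw [Category.assoc, hg, pullback.condition]))
    (sqW.lift_snd _ _ _)
  have hgk : gU ≫ k₀ ≫ c = pullback.fst f p ≫ g := by rw [reassoc_of% hk₂, sqW.lift_fst]
  have hkZ : (k₀ ≫ c) ≫ πZ = π ≫ ν' := by rw [Category.assoc, sqW.w, reassoc_of% hk₁, sq.w]
  -- descent
  obtain ⟨R, t, s, sqR⟩ := exists_pullback hX.diag p p
  haveI : Etale t.left := hpe.2 p _ t sqR.flip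
  let q : (yon S).obj R ⟶ X := (yon S).map t ≫ p
  have eq : (yon S).map s ≫ p = q := sqR.w.symm
  let σ : (yon S).obj (pullback ν t) ⟶ (yon S).obj N := (yon S).map (pullback.fst ν t)
  let τ : (yon S).obj (pullback ν t) ⟶ (yon S).obj N := sq.lift (σ ≫ π) ((yon S).map (pullback.snd ν t ≫ s)) (by
    rw [Category.assoc, sq.w, Functor.map_comp, Category.assoc, eq, ← Functor.map_comp_assoc, pullback.condition,
      Functor.map_comp, Category.assoc])
  have key : σ ≫ k₀ ≫ c = τ ≫ k₀ ≫ c := by
    have sqP := (IsPullback.of_hasPullback i t).map (yon S)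
    haveI : IsIntegralHom (pullback.snd i t).left :=
      MorphismProperty.of_isPullback (P := @IsIntegralHom)
        ((IsPullback.of_hasPullback i t).map (Over.forget S)) hi
    let cY : ∀ (a : R ⟶ U), (yon S).map a ≫ p = q → (pullback f q ⟶ pullback f p) := fun a e =>
      pullback.lift (pullback.fst f q) (pullback.snd f q ≫ (yon S).map a)
        (by rw [Category.assoc, e, pullback.condition])
    have hgR : gW hgU t q rfl ≫ τ = cY s eq ≫ gU := by
      refine sq.hom_ext ?_ ?_
      · rw [Category.assoc, Category.assoc, sq.lift_fst, hπ, gW_fst_assoc, hπ, pullback.lift_fst_assoc,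
          pullback.lift_fst_assoc]
      · rw [Category.assoc, Category.assoc, sq.lift_snd, hgU, pullback.lift_snd, Functor.map_comp, gW_snd_assoc]
    let k : ∀ (m : (yon S).obj (pullback ν t) ⟶ (yon S).obj N), m ≫ π = σ ≫ π →
        ((yon S).obj (pullback ν t) ⟶ (yon S).obj (pullback i t)) := fun m hm =>
      sqP.lift (sqW.lift (m ≫ k₀ ≫ c) ((yon S).map (pullback.snd ν t ≫ t)) (by
        rw [Category.assoc m, hkZ, reassoc_of% hm, sq.w, ← Functor.map_comp_assoc, pullback.condition]))
        ((yon S).map (pullback.snd ν t)) (by rw [sqW.lift_snd, ← Functor.map_comp])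
    have hgk' : ∀ (m : (yon S).obj (pullback ν t) ⟶ (yon S).obj N) (hm : m ≫ π = σ ≫ π),
        gW hgU t q rfl ≫ m ≫ k₀ ≫ c = pullback.fst f q ≫ g →
        gW hgU t q rfl ≫ k m hm = sqP.lift (sqW.lift (pullback.fst f q ≫ g) (pullback.snd f q ≫ (yon S).map t)
          (by rw [Category.assoc, Category.assoc, hg, pullback.condition])) (pullback.snd f q)
          (by rw [sqW.lift_snd]) := by
      intro m hm e
      refine sqP.hom_ext ?_ ?_
      · rw [Category.assoc, sqP.lift_fst, sqP.lift_fst]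
        refine sqW.hom_ext ?_ ?_
        · rw [Category.assoc, sqW.lift_fst, sqW.lift_fst, e]
        · rw [Category.assoc, sqW.lift_snd, sqW.lift_snd, Functor.map_comp, gW_snd_assoc]
      · rw [Category.assoc, sqP.lift_snd, sqP.lift_snd, gW_snd]
    have hτ : τ ≫ π = σ ≫ π := sq.lift_fst _ _ _
    have e := (isNormOver_gW hgU H t q rfl (pullback.snd i t) _ (sqP.lift_snd _ _ _)).unique
      ⟨sqP.lift_snd _ _ _, hgk' σ rfl (by rw [gW_fst_assoc, hgk, pullback.lift_fst_assoc])⟩
      ⟨sqP.lift_snd _ _ _, hgk' τ hτ (by rw [reassoc_of% hgR, hgk, pullback.lift_fst_assoc])⟩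
    have := congrArg (fun l => l ≫ (yon S).map (pullback.fst i t) ≫ c) e
    simpa only [k, sqP.lift_fst_assoc, sqW.lift_fst] using this
  obtain ⟨h, hh, huniq⟩ := exists_desc_epi π (k₀ ≫ c) (by
    refine (J S).hom_ext_uliftYoneda.{u + 1} fun T ξ => ?_
    obtain ⟨n₁, hn₁⟩ := exists_map_eq (ξ ≫ pullback.fst π π)
    obtain ⟨n₂, hn₂⟩ := exists_map_eq (ξ ≫ pullback.snd π π)
    have hn : (yon S).map n₁ ≫ π = (yon S).map n₂ ≫ π := by
      rw [hn₁, hn₂, Category.assoc, Category.assoc, pullback.condition]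
    obtain ⟨r, hr⟩ := exists_map_eq (sqR.lift ((yon S).map (n₁ ≫ ν)) ((yon S).map (n₂ ≫ ν)) (by
      rw [Functor.map_comp, Functor.map_comp, Category.assoc, Category.assoc, ← sq.w, reassoc_of% hn]))
    have hrt : n₁ ≫ ν = r ≫ t := (yon S).map_injective (by rw [(yon S).map_comp r t, hr, sqR.lift_fst])
    have hrs : r ≫ s = n₂ ≫ ν := (yon S).map_injective (by rw [(yon S).map_comp r s, hr, sqR.lift_snd])
    let l : T ⟶ pullback ν t := pullback.lift n₁ r hrt
    have h₁ : (yon S).map l ≫ σ = (yon S).map n₁ := by rw [← Functor.map_comp, pullback.lift_fst]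
    have h₂ : (yon S).map l ≫ τ = (yon S).map n₂ := by
      refine sq.hom_ext ?_ ?_
      · rw [Category.assoc, sq.lift_fst, reassoc_of% h₁, hn]
      · rw [Category.assoc, sq.lift_snd, ← Functor.map_comp, ← Functor.map_comp, pullback.lift_snd_assoc, hrs]
    rw [← Category.assoc, ← Category.assoc ξ, ← hn₁, ← hn₂, ← h₁, ← h₂, Category.assoc, Category.assoc, key])
  refine ⟨h, ⟨?_, ?_⟩, fun h' ⟨h'₁, h'₂⟩ => huniq _ ?_⟩
  · rw [← cancel_epi (pullback.fst f p), ← reassoc_of% hπ, hh, hgk]
  · rw [← cancel_epi π, reassoc_of% hh, ← Category.assoc, hkZ]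
  · obtain rfl : sqW.lift (π ≫ h') ((yon S).map ν) (by rw [Category.assoc, h'₂, sq.w]) = k₀ :=
      hk₀ _ ⟨sqW.lift_snd _ _ _, sqW.hom_ext
        (by rw [Category.assoc, sqW.lift_fst, sqW.lift_fst, reassoc_of% hπ, h'₁])
        (by rw [Category.assoc, sqW.lift_snd, sqW.lift_snd, hgU])⟩
    exact (sqW.lift_fst _ _ _).symm

include hgU sq in
/-- universality over an etale chart spreads to all schemes smooth over the base -/
theorem smNorm_of_chart (hX : IsAlgSpace X) (hpe : RepWith @Etale p) (hps : RepWith @Surjective p)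
    (hf : f' ≫ ν' = f) (hint : IsIntegralMor ν') (hπ : gU ≫ π = pullback.fst f p ≫ f')
    (H : SmNorm (pullback.snd f p) ((yon S).map ν) gU hgU) : SmNorm f ν' f' hf := by
  intro U' w hw
  obtain ⟨Nw, b, νw, sqN, hνw⟩ := exists_repWith ((isIntegralMor_iff_repWith ν').1 hint) w
  let gw : pullback f w ⟶ (yon S).obj Nw :=
    sqN.lift (pullback.fst f w ≫ f') (pullback.snd f w) (by rw [Category.assoc, hf, pullback.condition])
  have hgw : gw ≫ (yon S).map νw = pullback.snd f w := sqN.lift_snd _ _ _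
  obtain ⟨U₂, u₁, u₂, sqU⟩ := exists_pullback hX.diag w p
  have sq₁ := (IsPullback.of_hasPullback νw u₁).map (yon S)
  let gU₂ : pullback (pullback.snd f w) ((yon S).map u₁) ⟶ (yon S).obj (pullback νw u₁) :=
    sq₁.lift (pullback.fst _ _ ≫ gw) (pullback.snd _ _) (by rw [Category.assoc, hgw, pullback.condition])
  have hgU₂ : gU₂ ≫ (yon S).map (pullback.snd νw u₁) = pullback.snd (pullback.snd f w) ((yon S).map u₁) :=
    sq₁.lift_snd _ _ _
  let a : pullback (pullback.snd f w) ((yon S).map u₁) ⟶ pullback f p :=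
    pullback.lift (pullback.fst _ _ ≫ pullback.fst f w) (pullback.snd _ _ ≫ (yon S).map u₂) (by
      rw [Category.assoc, pullback.condition, pullback.condition_assoc, Category.assoc, sqU.w])
  have sY : IsPullback a (pullback.snd (pullback.snd f w) ((yon S).map u₁)) (pullback.snd f p) ((yon S).map u₂) := by
    refine IsPullback.of_right ?_ (pullback.lift_snd _ _ _) (IsPullback.of_hasPullback f p)
    rw [pullback.lift_fst, ← sqU.w]
    exact (IsPullback.of_hasPullback _ _).paste_horiz (IsPullback.of_hasPullback f w)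
  let bN : (yon S).obj (pullback νw u₁) ⟶ (yon S).obj N :=
    sq.lift ((yon S).map (pullback.fst νw u₁) ≫ b) ((yon S).map (pullback.snd νw u₁ ≫ u₂)) (by
      rw [Category.assoc, sqN.w, reassoc_of% sq₁.w, sqU.w, Functor.map_comp, Category.assoc])
  have sN : IsPullback bN ((yon S).map (pullback.snd νw u₁)) ((yon S).map ν) ((yon S).map u₂) := by
    refine IsPullback.of_right ?_ (by rw [sq.lift_snd, Functor.map_comp]) sq
    rw [sq.lift_fst, ← sqU.w]
    exact sq₁.paste_horiz sqN
  haveI : Etale u₁.left := hpe.2 w _ u₁ sqU.flip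
  haveI : Surjective u₁.left := hps.2 w _ u₁ sqU.flip
  have hu₂ : LocP @Smooth ((yon S).map u₂) :=
    locP_baseChange etST_smooth (IsAlgSpace.yon_obj U') hX (IsAlgSpace.yon_obj U₂) (IsAlgSpace.yon_obj U) sqU hw
  have hn : IsRelNormalization (pullback.snd f w) ((yon S).map νw) gw := by
    refine isRelNormalization_of_chart hgU₂ sq₁ (IsAlgSpace.yon_obj U') ((repWith_yon_iff u₁).2 ‹_›)
      ((repWith_yon_iff u₁).2 ‹_›) hgw ((isIntegralMor_iff_repWith _).2 ((repWith_yon_iff νw).2 hνw))
      (sq₁.lift_fst _ _ _) fun V v hv => ?_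
    refine (normAt_baseChange hgU sY sN gU₂ hgU₂ ?_ v).2
      (H _ (locP_comp etST_smooth (IsAlgSpace.yon_obj U₂) (IsAlgSpace.yon_obj U) hv hu₂))
    refine sq.hom_ext ?_ ?_
    · rw [Category.assoc, sq.lift_fst, sq₁.lift_fst_assoc, Category.assoc, sqN.lift_fst, Category.assoc, hπ,
        pullback.lift_fst_assoc, Category.assoc]
    · rw [Category.assoc, sq.lift_snd, Functor.map_comp, reassoc_of% hgU₂, Category.assoc, hgU, pullback.lift_snd]
  refine (normAt_iff (f := f) (ν := ν') (g := f') hf (IsPullback.of_hasPullback f w) sqN gw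
    (sqN.lift_fst _ _ _) hgw).1 fun Z πZ _ h hh => ?_
  obtain ⟨k, ⟨hk₁, hk₂⟩, hk⟩ := hn.2.2 (IsAlgSpace.yon_obj Z) ((yon S).map πZ) h
    ((isIntegralMor_iff_repWith _).2 ((repWith_yon_iff πZ).2 ‹_›)) hh
  exact ⟨k, ⟨hk₂, hk₁⟩, fun k' hk' => hk _ ⟨hk'.2, hk'.1⟩⟩

end chart

variable {f : Y ⟶ X} {ν' : X' ⟶ X} {f' : Y ⟶ X'}

/-- universality over a scheme chart, from universality over all smooth schemes -/
theorem isRelNormalization_of_smNorm (hX : IsAlgSpace X) (hf : f' ≫ ν' = f) (hint : IsIntegralMor ν')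
    (H : SmNorm f ν' f' hf) : IsRelNormalization f ν' f' := by
  obtain ⟨U, p, hpe, hps⟩ := hX.atlas
  obtain ⟨N, π, ν, sq, -⟩ := exists_repWith ((isIntegralMor_iff_repWith ν').1 hint) p
  let gU : pullback f p ⟶ (yon S).obj N :=
    sq.lift (pullback.fst f p ≫ f') (pullback.snd f p) (by rw [Category.assoc, hf, pullback.condition])
  have hgU : gU ≫ (yon S).map ν = pullback.snd f p := sq.lift_snd _ _ _
  refine isRelNormalization_of_chart hgU sq hX hpe hps hf hint (sq.lift_fst _ _ _) fun V v hv => ?_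
  have hp : LocP @Smooth p := (locP_iff_repWith etST_smooth hX hpe.1).2
    (repWith_mono (fun _ _ r (hr : Etale r) => inferInstanceAs (Smooth r)) hpe)
  exact (normAt_baseChange hf (IsPullback.of_hasPullback f p) sq gU hgU (sq.lift_fst _ _ _) v).2
    (H _ (locP_comp etST_smooth (IsAlgSpace.yon_obj U) hX hv hp))

end Groth.Agent.RelNorm

end
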