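import Groth.Agent.RelNorm.Sigma
import Groth.Agent.RelNorm.Universal
import Groth.Agent.Bootstrap.QuotSp
import Groth.Agent.AlgSpLib.RepDescent
import Groth.Agent.AlgSpLib.QCompact

/-!
# Construction of relative normalizations of algebraic spaces
-/

set_option autoImplicit false
set_option backward.isDefEq.respectTransparency false
set_option backward.isDefEq.respectTransparency.types false
set_option linter.style.haveILetI false
universe u

open CategoryTheory CategoryTheory.Limits AlgebraicGeometry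

noncomputable section

namespace Groth.Agent.RelNorm

open _root_.AlgSp Groth.Agent.AlgSpLib

variable {S : Scheme.{u}} {X Y : Sp S} {f : Y ⟶ X}

section tr

variable {U N : Over S} {p : (yon S).obj U ⟶ X} {ν : N ⟶ U}
  {gU : pullback f p ⟶ (yon S).obj N} (hgU : gU ≫ (yon S).map ν = pullback.snd f p)
  (H : SmNorm (pullback.snd f p) ((yon S).map ν) gU hgU) (hν : IsIntegralHom ν.left)

/-- transport of points along the comparison -/
def tr {W : Over S} (a b : W ⟶ U) [Smooth a.left] (q : (yon S).obj W ⟶ X) (ea : (yon S).map a ≫ p = q)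
    (eb : (yon S).map b ≫ p = q) {T : Over S} (n : T ⟶ N) (x : T ⟶ W) (h : n ≫ ν = x ≫ a) : T ⟶ N :=
  pullback.lift n x h ≫ trans hgU H hν a b q ea eb ≫ pullback.fst ν b

theorem lift_trans {W : Over S} (a b : W ⟶ U) [Smooth a.left] (q : (yon S).obj W ⟶ X)
    (ea : (yon S).map a ≫ p = q) (eb : (yon S).map b ≫ p = q) {T : Over S} (n : T ⟶ N) (x : T ⟶ W)
    (h : n ≫ ν = x ≫ a) :
    pullback.lift n x h ≫ trans hgU H hν a b q ea eb ≫ pullback.snd ν b = x := by
  rw [trans_snd, pullback.lift_snd]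

theorem tr_ν {W : Over S} (a b : W ⟶ U) [Smooth a.left] (q : (yon S).obj W ⟶ X) (ea : (yon S).map a ≫ p = q)
    (eb : (yon S).map b ≫ p = q) {T : Over S} (n : T ⟶ N) (x : T ⟶ W) (h : n ≫ ν = x ≫ a) :
    tr hgU H hν a b q ea eb n x h ≫ ν = x ≫ b := by
  rw [tr, Category.assoc, Category.assoc, pullback.condition, trans_snd_assoc, pullback.lift_snd_assoc]

theorem tr_congr {W : Over S} (a b : W ⟶ U) [Smooth a.left] (q : (yon S).obj W ⟶ X) (ea : (yon S).map a ≫ p = q)
    (eb : (yon S).map b ≫ p = q) {T : Over S} {n n' : T ⟶ N} {x x' : T ⟶ W} (h : n ≫ ν = x ≫ a) (en : n = n')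
    (ex : x = x') : tr hgU H hν a b q ea eb n x h = tr hgU H hν a b q ea eb n' x' (by rw [← en, ← ex, h]) := by
  subst en; subst ex; rfl

theorem tr_self {W : Over S} (a : W ⟶ U) [Smooth a.left] (q : (yon S).obj W ⟶ X) (ea : (yon S).map a ≫ p = q)
    {T : Over S} (n : T ⟶ N) (x : T ⟶ W) (h : n ≫ ν = x ≫ a) : tr hgU H hν a a q ea ea n x h = n := by
  rw [tr, trans_self, Category.id_comp, pullback.lift_fst]

theorem tr_comp {W : Over S} (a b c : W ⟶ U) [Smooth a.left] [Smooth b.left] (q : (yon S).obj W ⟶ X)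
    (ea : (yon S).map a ≫ p = q) (eb : (yon S).map b ≫ p = q) (ec : (yon S).map c ≫ p = q) {T : Over S}
    (n : T ⟶ N) (x : T ⟶ W) (h : n ≫ ν = x ≫ a) :
    tr hgU H hν b c q eb ec (tr hgU H hν a b q ea eb n x h) x (tr_ν hgU H hν a b q ea eb n x h) =
      tr hgU H hν a c q ea ec n x h := by
  have e : pullback.lift (tr hgU H hν a b q ea eb n x h) x (tr_ν hgU H hν a b q ea eb n x h) =
      pullback.lift n x h ≫ trans hgU H hν a b q ea eb := by
    apply pullback.hom_ext
    · rw [pullback.lift_fst, Category.assoc]; rfl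
    · rw [pullback.lift_snd, Category.assoc, lift_trans]
  rw [tr, e, Category.assoc, ← Category.assoc (trans hgU H hν a b q ea eb), trans_comp, tr]

theorem tr_natural {W W' : Over S} (v : W' ⟶ W) (a b : W ⟶ U) [Smooth a.left] (a' b' : W' ⟶ U)
    [Smooth a'.left] (ha : v ≫ a = a') (hb : v ≫ b = b') (q : (yon S).obj W ⟶ X)
    (ea : (yon S).map a ≫ p = q) (eb : (yon S).map b ≫ p = q) (q' : (yon S).obj W' ⟶ X)
    (hq : (yon S).map v ≫ q = q') (ea' : (yon S).map a' ≫ p = q') (eb' : (yon S).map b' ≫ p = q') {T : Over S}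
    (n : T ⟶ N) (x : T ⟶ W') (h : n ≫ ν = x ≫ a') :
    tr hgU H hν a b q ea eb n (x ≫ v) (by rw [h, Category.assoc, ha]) =
      tr hgU H hν a' b' q' ea' eb' n x h := by
  have e : pullback.lift n (x ≫ v) (by rw [h, Category.assoc, ha]) = pullback.lift n x h ≫ mapN v ha := by
    apply pullback.hom_ext
    · simp [mapN]
    · simp [mapN]
  rw [tr, e, Category.assoc, ← Category.assoc (mapN v ha),
    trans_natural hgU H hν v a b a' b' ha hb q ea eb q' hq ea' eb', tr, Category.assoc]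
  congr 2
  exact pullback.lift_fst _ _ _

end tr

/-- existence of a smoothly universal factorization through an integral morphism -/
theorem exists_smNorm (hY : IsAlgSpace Y) (hX : IsAlgSpace X) (f : Y ⟶ X) (hqc : AlgSp.IsQuasiCompactMor f)
    (hqs : IsQuasiSeparatedMor f) :
    ∃ (X' : Sp S) (ν' : X' ⟶ X) (f' : Y ⟶ X') (hf : f' ≫ ν' = f),
      IsAlgSpace X' ∧ IsIntegralMor ν' ∧ SmNorm f ν' f' hf := by
  obtain ⟨ι, V, hV, q₀, p, hpe, hps, -⟩ := exists_affine_sigma_chart hX
  have hYU : IsAlgSpace (pullback f p) :=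
    isAlgSpace_of_isPullback_space hX hY (IsAlgSpace.yon_obj _) (IsPullback.of_hasPullback f p)
  obtain ⟨N, ν, gU, hgU, hν, H⟩ := exists_norm_sigma V q₀ hYU (pullback.snd f p)
    (fun Z Z' hZ hZq g fst snd sq =>
      hqc hZ hZq _ _ _ (sq.paste_horiz (IsPullback.of_hasPullback f p)))
    (isQuasiSeparatedMor_baseChange (IsPullback.of_hasPullback f p) hqs)
  obtain ⟨R, t, s, sqR⟩ := exists_pullback hX.diag p p
  haveI ht : Etale t.left := hpe.2 p _ t sqR.flip
  haveI hs : Etale s.left := hpe.2 p _ s sqR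
  haveI : Smooth t.left := inferInstance
  haveI : Smooth s.left := inferInstance
  let q : (yon S).obj R ⟶ X := (yon S).map t ≫ p
  have eq : (yon S).map s ≫ p = q := sqR.w.symm
  let U' : Over S := Over.mk q₀
  -- the relation
  let σ : pullback ν t ⟶ N := pullback.fst ν t
  let τ : pullback ν t ⟶ N := trans hgU H hν t s q rfl eq ≫ pullback.fst ν s
  have hσe : Etale σ.left := MorphismProperty.of_isPullback (P := @Etale)
    ((IsPullback.of_hasPullback ν t).map (Over.forget S)).flip ht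
  have hτe : Etale τ.left := by
    haveI : IsIso (trans hgU H hν t s q rfl eq) :=
      ⟨trans hgU H hν s t q eq rfl, by rw [trans_comp, trans_self], by rw [trans_comp, trans_self]⟩
    haveI : Etale (pullback.fst ν s).left := MorphismProperty.of_isPullback (P := @Etale)
      ((IsPullback.of_hasPullback ν s).map (Over.forget S)).flip hs
    haveI : IsIso (trans hgU H hν t s q rfl eq).left :=
      inferInstanceAs (IsIso ((Over.forget S).map (trans hgU H hν t s q rfl eq)))
    exact inferInstanceAs (Etale ((trans hgU H hν t s q rfl eq).left ≫ (pullback.fst ν s).left))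
  have mem : ∀ {T : Over S} (r : T ⟶ pullback ν t),
      r ≫ τ = tr hgU H hν t s q rfl eq (r ≫ σ) (r ≫ pullback.snd ν t)
        (by rw [Category.assoc, Category.assoc, pullback.condition]) := fun r => by
    rw [tr, show pullback.lift (r ≫ σ) (r ≫ pullback.snd ν t) _ = r from pullback.hom_ext (by simp [σ]) (by simp)]
  have hτν : τ ≫ ν = pullback.snd ν t ≫ s := by
    rw [Category.assoc, pullback.condition, trans_snd_assoc]
  obtain ⟨δ, hδt, hδs⟩ : ∃ δ : U' ⟶ R, δ ≫ t = 𝟙 _ ∧ δ ≫ s = 𝟙 _ := by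
    obtain ⟨δ, hδ⟩ := exists_map_eq (sqR.lift (𝟙 _) (𝟙 _) rfl)
    exact ⟨δ, (yon S).map_injective (by rw [(yon S).map_comp δ t, hδ, sqR.lift_fst, CategoryTheory.Functor.map_id]),
      (yon S).map_injective (by rw [(yon S).map_comp δ s, hδ, sqR.lift_snd, CategoryTheory.Functor.map_id])⟩
  have pair : ∀ {T : Over S} (x x' : T ⟶ R), x ≫ t = x' ≫ t → x ≫ s = x' ≫ s → x = x' := fun x x' h₁ h₂ =>
    (yon S).map_injective (sqR.hom_ext (by rw [← Functor.map_comp, ← Functor.map_comp, h₁])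
      (by rw [← Functor.map_comp, ← Functor.map_comp, h₂]))
  let Rel' : ∀ T : Over S, (T ⟶ N) → (T ⟶ N) → Prop := fun T a b =>
    ∃ (x : T ⟶ R) (h : b ≫ ν = x ≫ t), tr hgU H hν t s q rfl eq b x h = a
  have hrel : ∀ {T : Over S} (a b : T ⟶ N),
      (∃ r : (yon S).obj T ⟶ (yon S).obj (pullback ν t),
        r ≫ (yon S).map τ = (yon S).map a ∧ r ≫ (yon S).map σ = (yon S).map b) ↔ Rel' T a b := by
    intro T a b
    constructor
    · rintro ⟨r, h₁, h₂⟩
      obtain ⟨r, rfl⟩ := exists_map_eq r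
      rw [← Functor.map_comp] at h₁ h₂
      obtain rfl := (yon S).map_injective h₁
      obtain rfl := (yon S).map_injective h₂
      exact ⟨r ≫ pullback.snd ν t, by rw [Category.assoc, Category.assoc, pullback.condition], (mem r).symm⟩
    · rintro ⟨x, h, rfl⟩
      refine ⟨(yon S).map (pullback.lift b x h), ?_, ?_⟩
      · rw [← Functor.map_comp]; rfl
      · rw [← Functor.map_comp, pullback.lift_fst]
  have hrefl : ∀ {T : Over S} (a : T ⟶ N), Rel' T a a := fun a => by
    refine ⟨a ≫ ν ≫ δ, by rw [Category.assoc, Category.assoc, hδt, Category.comp_id], ?_⟩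
    haveI : Smooth (𝟙 _ : U' ⟶ U').left := inferInstanceAs (Smooth (𝟙 U'.left))
    have h : a ≫ ν = (a ≫ ν) ≫ 𝟙 U' := (Category.comp_id _).symm
    rw [tr_congr hgU H hν t s q rfl eq _ rfl (Category.assoc a ν δ).symm,
      tr_natural hgU H hν δ t s (𝟙 U') (𝟙 U') hδt hδs q rfl eq p
        (by rw [← Category.assoc, ← Functor.map_comp, hδt, CategoryTheory.Functor.map_id, Category.id_comp])
        (by rw [CategoryTheory.Functor.map_id, Category.id_comp])
        (by rw [CategoryTheory.Functor.map_id, Category.id_comp]) a (a ≫ ν) h, tr_self]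
  have hsymm : ∀ {T : Over S} {a b : T ⟶ N}, Rel' T a b → Rel' T b a := by
    rintro T a b ⟨x, h, rfl⟩
    obtain ⟨w, hw⟩ := exists_map_eq (sqR.lift ((yon S).map s) ((yon S).map t) eq)
    have hwt : w ≫ t = s := (yon S).map_injective (by rw [(yon S).map_comp w t, hw, sqR.lift_fst])
    have hws : w ≫ s = t := (yon S).map_injective (by rw [(yon S).map_comp w s, hw, sqR.lift_snd])
    refine ⟨x ≫ w, by rw [tr_ν, Category.assoc, hwt], ?_⟩
    rw [tr_natural hgU H hν w t s s t hwt hws q rfl eq q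
      (by rw [← Category.assoc, ← Functor.map_comp, hwt, eq]) eq rfl _ x (tr_ν hgU H hν t s q rfl eq b x h),
      tr_comp, tr_self]
  have htrans : ∀ {T : Over S} {a b c : T ⟶ N}, Rel' T a b → Rel' T b c → Rel' T a c := by
    rintro T a b c ⟨x', h', rfl⟩ ⟨x, h, rfl⟩
    let π₁ : pullback s t ⟶ R := pullback.fst s t
    let π₂ : pullback s t ⟶ R := pullback.snd s t
    haveI : Etale π₁.left := MorphismProperty.of_isPullback (P := @Etale)
      ((IsPullback.of_hasPullback s t).map (Over.forget S)).flip ht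
    haveI : Smooth (π₁ ≫ t).left := inferInstanceAs (Smooth (π₁.left ≫ t.left))
    haveI : Smooth (π₁ ≫ s).left := inferInstanceAs (Smooth (π₁.left ≫ s.left))
    haveI : Smooth (π₂ ≫ t).left := by
      rw [show π₂ ≫ t = π₁ ≫ s from pullback.condition.symm]; infer_instance
    let q₂ : (yon S).obj (pullback s t) ⟶ X := (yon S).map (π₁ ≫ t) ≫ p
    have e₁ : (yon S).map π₁ ≫ q = q₂ := (Functor.map_comp_assoc _ _ _ _).symm
    have e₂ : (yon S).map (π₁ ≫ s) ≫ p = q₂ := by rw [Functor.map_comp_assoc, eq, e₁]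
    have e₃ : (yon S).map π₂ ≫ q = q₂ := by
      rw [← e₂, show π₁ ≫ s = π₂ ≫ t from pullback.condition, Functor.map_comp_assoc]
    have e₄ : (yon S).map (π₂ ≫ s) ≫ p = q₂ := by rw [Functor.map_comp_assoc, eq, e₃]
    obtain ⟨κ, hκ⟩ := exists_map_eq (sqR.lift ((yon S).map (π₁ ≫ t)) ((yon S).map (π₂ ≫ s)) e₄.symm)
    have hκt : κ ≫ t = π₁ ≫ t := (yon S).map_injective (by rw [(yon S).map_comp κ t, hκ, sqR.lift_fst])
    have hκs : κ ≫ s = π₂ ≫ s := (yon S).map_injective (by rw [(yon S).map_comp κ s, hκ, sqR.lift_snd])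
    have hz : x ≫ s = x' ≫ t := (tr_ν hgU H hν t s q rfl eq c x h).symm.trans h'
    let z : T ⟶ pullback s t := pullback.lift x x' hz
    have hc : c ≫ ν = z ≫ π₁ ≫ t := by rw [h, ← Category.assoc, pullback.lift_fst]
    refine ⟨z ≫ κ, by rw [Category.assoc, hκt, hc], ?_⟩
    rw [tr_natural hgU H hν κ t s (π₁ ≫ t) (π₂ ≫ s) hκt hκs q rfl eq q₂
      (by rw [← Category.assoc, ← Functor.map_comp, hκt]) rfl e₄ c z hc,
      ← tr_comp hgU H hν (π₁ ≫ t) (π₁ ≫ s) (π₂ ≫ s) q₂ rfl e₂ e₄ c z hc]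
    have hb : tr hgU H hν (π₁ ≫ t) (π₁ ≫ s) q₂ rfl e₂ c z hc = tr hgU H hν t s q rfl eq c x h := by
      rw [← tr_natural hgU H hν π₁ t s (π₁ ≫ t) (π₁ ≫ s) rfl rfl q rfl eq q₂ e₁ rfl e₂ c z hc]
      exact tr_congr hgU H hν t s q rfl eq _ rfl (pullback.lift_fst _ _ _)
    have h'' : tr hgU H hν t s q rfl eq c x h ≫ ν = z ≫ π₂ ≫ t := by
      rw [h', ← Category.assoc, pullback.lift_snd]
    rw [tr_congr hgU H hν (π₁ ≫ s) (π₂ ≫ s) q₂ e₂ e₄ _ hb rfl]
    have hps' : π₁ ≫ s = π₂ ≫ t := pullback.condition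
    calc tr hgU H hν (π₁ ≫ s) (π₂ ≫ s) q₂ e₂ e₄ (tr hgU H hν t s q rfl eq c x h) z _
        = tr hgU H hν t s q rfl eq (tr hgU H hν t s q rfl eq c x h) (z ≫ π₂)
            (h''.trans (Category.assoc _ _ _).symm) := by
          refine (tr_natural hgU H hν π₂ t s (π₁ ≫ s) (π₂ ≫ s) hps'.symm rfl q rfl eq q₂ e₃ e₂ e₄ _ z ?_).symm
      _ = _ := tr_congr hgU H hν t s q rfl eq _ rfl (pullback.lift_snd _ _ _)
  have heqv : IsEqvRelSp ((yon S).map σ) ((yon S).map τ) := by
    refine ⟨fun T r r' h₁ h₂ => ?_, fun T => ⟨fun a => ?_, fun {a b} h => ?_, fun {a b c} h h' => ?_⟩⟩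
    · obtain ⟨r, rfl⟩ := exists_map_eq r
      obtain ⟨r', rfl⟩ := exists_map_eq r'
      rw [← Functor.map_comp, ← Functor.map_comp] at h₁ h₂
      have h₁' := (yon S).map_injective h₁
      have h₂' := (yon S).map_injective h₂
      refine congrArg _ (pullback.hom_ext h₂' (pair _ _ ?_ ?_))
      · rw [Category.assoc, Category.assoc, ← pullback.condition, reassoc_of% h₂']
      · rw [Category.assoc, Category.assoc, ← hτν, reassoc_of% h₁']
    · obtain ⟨a, rfl⟩ := exists_map_eq a
      exact (hrel a a).2 (hrefl a)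
    · obtain ⟨a, rfl⟩ := exists_map_eq a
      obtain ⟨b, rfl⟩ := exists_map_eq b
      exact (hrel b a).2 (hsymm ((hrel a b).1 h))
    · obtain ⟨a, rfl⟩ := exists_map_eq a
      obtain ⟨b, rfl⟩ := exists_map_eq b
      obtain ⟨c, rfl⟩ := exists_map_eq c
      exact (hrel a c).2 (htrans ((hrel a b).1 h) ((hrel b c).1 h'))
  -- the quotient
  have hσl : LocP @Etale ((yon S).map σ) :=
    (locP_iff_repWith etST_etale (IsAlgSpace.yon_obj N) (AlgSp.representable_yon_map σ)).2
      ((repWith_yon_iff σ).2 hσe)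
  have hτl : LocP @Etale ((yon S).map τ) :=
    (locP_iff_repWith etST_etale (IsAlgSpace.yon_obj N) (AlgSp.representable_yon_map τ)).2
      ((repWith_yon_iff τ).2 hτe)
  have hflat : ∀ {F G : Sp S} {g : F ⟶ G}, LocP @Etale g → LocP @Flat g ∧ LocP @LocallyOfFinitePresentation g :=
    fun hg => ⟨fun _ _ a b k ha hb comm => (flat_lfp_of_etale k.left (hg a b k ha hb comm)).1,
      fun _ _ a b k ha hb comm => (flat_lfp_of_etale k.left (hg a b k ha hb comm)).2⟩
  have hX' : IsAlgSpace (quotSp ((yon S).map σ) ((yon S).map τ)) :=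
    Bootstrap.isAlgSpace_quotSp (IsAlgSpace.yon_obj _) (IsAlgSpace.yon_obj _) heqv (hflat hσl) (hflat hτl)
  let π := quotSpπ ((yon S).map σ) ((yon S).map τ)
  have hK := Bootstrap.isPullback_quotSp ((yon S).map σ) ((yon S).map τ) heqv
  have hw : (yon S).map σ ≫ (yon S).map ν ≫ p = (yon S).map τ ≫ (yon S).map ν ≫ p := by
    rw [← Functor.map_comp_assoc, ← Functor.map_comp_assoc, hτν, pullback.condition, Functor.map_comp_assoc,
      Functor.map_comp_assoc, eq]
  let ν' := quotSpDesc ((yon S).map ν ≫ p) hw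
  have hπν : π ≫ ν' = (yon S).map ν ≫ p := quotSpπ_desc _ _ _ _
  haveI : Epi π := Bootstrap.epi_quotSpπ
  haveI : Sheaf.IsLocallySurjective π := (Sheaf.isLocallySurjective_iff_epi _).2 inferInstance
  haveI := isLocallySurjective_chart hpe hps
  have hrelπ : ∀ {T : Over S} (a b : T ⟶ N), Rel' T a b → (yon S).map a ≫ π = (yon S).map b ≫ π := by
    intro T a b h
    obtain ⟨r, h₁, h₂⟩ := (hrel a b).2 h
    rw [← h₁, ← h₂, Category.assoc, Category.assoc, quotSp_condition]
  have sq : IsPullback π ((yon S).map ν) ν' p := by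
    let φ := pullback.lift π ((yon S).map ν) hπν
    haveI : Mono φ := mono_of_points φ fun T a b e => by
      obtain ⟨a, rfl⟩ := exists_map_eq a
      obtain ⟨b, rfl⟩ := exists_map_eq b
      have e₁ : (yon S).map a ≫ π = (yon S).map b ≫ π := by
        simpa [φ] using congrArg (fun k => k ≫ pullback.fst ν' p) e
      have e₂ : a ≫ ν = b ≫ ν := (yon S).map_injective (by
        simpa [φ, Functor.map_comp] using congrArg (fun k => k ≫ pullback.snd ν' p) e)
      obtain ⟨x, hx, hxa⟩ := (hrel a b).1 ⟨hK.lift _ _ e₁, hK.lift_fst _ _ _, hK.lift_snd _ _ _⟩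
      congr 1
      have hxs : x ≫ s = b ≫ ν := by rw [← e₂, ← hxa, tr_ν]
      have hxd : x = (b ≫ ν) ≫ δ := pair _ _ (by rw [Category.assoc, hδt, Category.comp_id, hx])
        (by rw [Category.assoc, hδs, Category.comp_id, hxs])
      haveI : Smooth (𝟙 _ : U' ⟶ U').left := inferInstanceAs (Smooth (𝟙 U'.left))
      rw [← hxa, tr_congr hgU H hν t s q rfl eq hx rfl hxd,
        tr_natural hgU H hν δ t s (𝟙 U') (𝟙 U') hδt hδs q rfl eq p
          (by rw [← Category.assoc, ← Functor.map_comp, hδt, CategoryTheory.Functor.map_id, Category.id_comp])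
          (by rw [CategoryTheory.Functor.map_id, Category.id_comp])
          (by rw [CategoryTheory.Functor.map_id, Category.id_comp]) b (b ≫ ν) (Category.comp_id _).symm,
        tr_self]
    haveI : Sheaf.IsLocallySurjective φ := Bootstrap.isLocallySurjective_of_lifts φ fun T ξ => by
      obtain ⟨T', g, l, h₁, h₂, h₃, hl⟩ := exists_fppf_lift π (ξ ≫ pullback.fst ν' p)
      obtain ⟨n, rfl⟩ := exists_map_eq l
      obtain ⟨w, hw'⟩ := exists_map_eq ((yon S).map g ≫ ξ ≫ pullback.snd ν' p)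
      have hnw : (yon S).map (n ≫ ν) ≫ p = (yon S).map w ≫ p := by
        rw [Functor.map_comp_assoc, ← hπν, reassoc_of% hl, hw', pullback.condition, Category.assoc, Category.assoc]
      obtain ⟨x, hx⟩ := exists_map_eq (sqR.lift ((yon S).map (n ≫ ν)) ((yon S).map w) hnw)
      have hxt : n ≫ ν = x ≫ t := (yon S).map_injective (by rw [(yon S).map_comp x t, hx, sqR.lift_fst])
      have hxs : x ≫ s = w := (yon S).map_injective (by rw [(yon S).map_comp x s, hx, sqR.lift_snd])
      refine ⟨T', g, (yon S).map (tr hgU H hν t s q rfl eq n x hxt), h₁, h₂, h₃, pullback.hom_ext ?_ ?_⟩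
      · rw [Category.assoc, pullback.lift_fst, Category.assoc, ← hl]
        exact hrelπ _ _ ⟨x, hxt, rfl⟩
      · rw [Category.assoc, pullback.lift_snd, Category.assoc, ← hw', ← Functor.map_comp, tr_ν, hxs]
    haveI : IsIso φ := isIso_of_mono_of_epi φ
    exact IsPullback.of_iso_pullback ⟨hπν⟩ (asIso φ) (by simp [φ]) (by simp [φ])
  have hrepν : RepWith @IsIntegralHom ν' := by
    haveI := hν
    refine repWith_of_isLocallySurjective (representable_of_indQA ν' (fun T ξ => exists_fppf_lift p ξ) sq ?_) sq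
      ((repWith_yon_iff ν).2 hν)
    exact repWith_mono (fun _ _ r (hr : IsIntegralHom r) => indQA_of_isAffineHom r)
      ((repWith_yon_iff (P := @IsIntegralHom) ν).2 hν)
  -- the map from `Y`
  haveI : Sheaf.IsLocallySurjective (pullback.fst f p) :=
    isLocallySurjective_of_isPullback (IsPullback.of_hasPullback f p)
  obtain ⟨f', hf', -⟩ := exists_desc_epi (pullback.fst f p) (gU ≫ π) (by
    let c₁ := pullback.fst (pullback.fst f p) (pullback.fst f p)
    let c₂ := pullback.snd (pullback.fst f p) (pullback.fst f p)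
    have hc : c₁ ≫ pullback.fst f p = c₂ ≫ pullback.fst f p := pullback.condition
    let r := sqR.lift (c₁ ≫ pullback.snd f p) (c₂ ≫ pullback.snd f p) (by
      rw [Category.assoc, Category.assoc, ← pullback.condition, reassoc_of% hc])
    let y : pullback (pullback.fst f p) (pullback.fst f p) ⟶ pullback f q :=
      pullback.lift (c₁ ≫ pullback.fst f p) r (by
        rw [Category.assoc, pullback.condition, ← Category.assoc, ← sqR.lift_fst (c₁ ≫ pullback.snd f p) (c₂ ≫ pullback.snd f p),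
          Category.assoc])
    have h₁ : (y ≫ gW hgU t q rfl) ≫ (yon S).map σ = c₁ ≫ gU := by
      rw [Category.assoc, gW_fst, ← Category.assoc y]
      congr 1
      apply pullback.hom_ext
      · simp [y]
      · simp [y, r]
    have h₂ : (y ≫ gW hgU t q rfl) ≫ (yon S).map τ = c₂ ≫ gU := by
      rw [Category.assoc, Functor.map_comp, gW_trans_assoc, gW_fst, ← Category.assoc y]
      congr 1
      apply pullback.hom_ext
      · simp [y, hc]
      · simp [y, r]
    show c₁ ≫ gU ≫ π = c₂ ≫ gU ≫ π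
    rw [← Category.assoc, ← h₁, ← Category.assoc c₂, ← h₂]
    simp only [Category.assoc]
    rw [quotSp_condition])
  have hf : f' ≫ ν' = f := by
    rw [← cancel_epi (pullback.fst f p), reassoc_of% hf', hπν, reassoc_of% hgU, pullback.condition]
  have hint : IsIntegralMor ν' := (isIntegralMor_iff_repWith ν').2 hrepν
  exact ⟨_, ν', f', hf, hX', hint, smNorm_of_chart hgU sq hX hpe hps hf hint hf'.symm H⟩

/-- relative normalizations are universal over every scheme smooth over the base -/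
theorem smNorm_of_isRelNormalization {X'' : Sp S} {ν'' : X'' ⟶ X} {f'' : Y ⟶ X''} (hY : IsAlgSpace Y)
    (hX : IsAlgSpace X) (hX'' : IsAlgSpace X'') (hqc : AlgSp.IsQuasiCompactMor f) (hqs : IsQuasiSeparatedMor f)
    (hn : IsRelNormalization f ν'' f'') : SmNorm f ν'' f'' hn.1 := by
  obtain ⟨X', ν', f', hf, hX', hint, H⟩ := exists_smNorm hY hX f hqc hqs
  have hn' := isRelNormalization_of_smNorm hX hf hint H
  obtain ⟨a, ha₁, ha₂⟩ := (hn.2.2 hX' ν' f' hint hf).exists
  obtain ⟨b, hb₁, hb₂⟩ := (hn'.2.2 hX'' ν'' f'' hn.2.1 hn.1).exists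
  have e₁ : a ≫ b = 𝟙 _ := (hn.2.2 hX'' ν'' f'' hn.2.1 hn.1).unique
    ⟨by rw [reassoc_of% ha₁, hb₁], by rw [Category.assoc, hb₂, ha₂]⟩ ⟨Category.comp_id _, Category.id_comp _⟩
  have e₂ : b ≫ a = 𝟙 _ := (hn'.2.2 hX' ν' f' hint hf).unique
    ⟨by rw [reassoc_of% hb₁, ha₁], by rw [Category.assoc, ha₂, hb₂]⟩ ⟨Category.comp_id _, Category.id_comp _⟩
  haveI : IsIso a := ⟨b, e₁, e₂⟩
  intro U' u hu
  refine (normAt_baseChange (φ := 𝟙 X) (a := 𝟙 Y) (b := a) hf (IsPullback.of_horiz_isIso ⟨by simp⟩)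
    (IsPullback.of_horiz_isIso ⟨by simp [ha₂]⟩) f'' hn.1 (by rw [ha₁, Category.id_comp]) u).2 ?_
  rw [Category.comp_id]
  exact H u hu

end Groth.Agent.RelNorm

end
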