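import Groth.Agent.RelNorm.CoeqExists

/-!
# Relative normalization of an equivalence relation over an affine scheme, universal for smooth base change
-/

set_option autoImplicit false
universe u

open CategoryTheory CategoryTheory.Limits AlgebraicGeometry

noncomputable section

namespace Groth.Agent.RelNorm

variable {U A R N : Scheme.{u}} (a : A ⟶ U) (r : R ⟶ U) (q₁ q₂ : R ⟶ A) (e₁ : q₁ ≫ a = r) (e₂ : q₂ ≫ a = r)
  (ν : N ⟶ U) (g : A ⟶ N) (hg : g ≫ ν = a)

@[reassoc (attr := simp)]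
theorem bc_fst {U' P Q : Scheme.{u}} (u : U' ⟶ U) {p : P ⟶ U} {q : Q ⟶ U} (d : P ⟶ Q) (h : d ≫ q = p) :
    bc u d h ≫ pullback.fst u q = pullback.fst u p :=
  (pullback.lift_fst _ _ _).trans (Category.comp_id _)

@[reassoc (attr := simp)]
theorem bc_snd {U' P Q : Scheme.{u}} (u : U' ⟶ U) {p : P ⟶ U} {q : Q ⟶ U} (d : P ⟶ Q) (h : d ≫ q = p) :
    bc u d h ≫ pullback.snd u q = pullback.snd u p ≫ d :=
  pullback.lift_snd _ _ _

/-- universality among integral schemes after the base change `u` -/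
def UnivAt {U' : Scheme.{u}} (u : U' ⟶ U) : Prop :=
  ∀ ⦃Z : Scheme.{u}⦄ (π : Z ⟶ U') [IsIntegralHom π] (h : pullback u a ⟶ Z),
    h ≫ π = pullback.fst u a → bc u q₁ e₁ ≫ h = bc u q₂ e₂ ≫ h →
      ∃! k : pullback u ν ⟶ Z, k ≫ π = pullback.fst u ν ∧ bc u g hg ≫ k = h

/-- the base change of the normalization is a normalization -/
theorem norm_univ [QuasiCompact a] [QuasiSeparated a] {U' : Scheme.{u}} (u : U' ⟶ U) [Smooth u]
    {Z : Scheme.{u}} (π : Z ⟶ U') [IsIntegralHom π] (h : pullback u a ⟶ Z) (hh : h ≫ π = pullback.fst u a) :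
    ∃! k : pullback u a.fromNormalization ⟶ Z, k ≫ π = pullback.fst _ _ ∧
      bc u a.toNormalization a.toNormalization_fromNormalization ≫ k = h := by
  let σ := pullbackSymmetry a u
  let a' := pullback.snd a u
  let e : a'.normalization ≅ pullback u a.fromNormalization :=
    asIso (a.normalizationPullback u) ≪≫ pullbackSymmetry _ _
  have he₁ : e.hom ≫ pullback.fst _ _ = a'.fromNormalization := by
    simp [e, a']
  have he₂ : a'.toNormalization ≫ e.hom =
      σ.hom ≫ bc u a.toNormalization a.toNormalization_fromNormalization := by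
    apply pullback.hom_ext
    · simp only [Category.assoc, he₁, Scheme.Hom.toNormalization_fromNormalization, bc_fst]
      simp [σ, a']
    · simp only [Category.assoc, bc_snd]
      simp [e, σ, a']
  have hσ : a' = (σ.hom ≫ h) ≫ π := by rw [Category.assoc, hh]; simp [σ, a']
  let k₀ := a'.normalizationDesc (σ.hom ≫ h) π hσ
  refine ⟨e.inv ≫ k₀, ⟨?_, ?_⟩, ?_⟩
  · rw [Category.assoc, Scheme.Hom.normalizationDesc_comp, ← he₁, Iso.inv_hom_id_assoc]
  · rw [← cancel_epi σ.hom, ← reassoc_of% he₂, Iso.hom_inv_id_assoc]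
    exact a'.toNormalization_normalizationDesc _ _ hσ
  · rintro k ⟨hk₁, hk₂⟩
    rw [← cancel_epi e.hom, Iso.hom_inv_id_assoc]
    refine Scheme.Hom.normalization.hom_ext _ _ _ π ?_ (by rw [Category.assoc, hk₁, he₁])
      (Scheme.Hom.normalizationDesc_comp ..)
    rw [reassoc_of% he₂, hk₂, Scheme.Hom.toNormalization_normalizationDesc]

include hg in
theorem univAt_of_coeqAt [QuasiCompact a] [QuasiSeparated a] [QuasiCompact r] [QuasiSeparated r]
    (d₁ d₂ : r.normalization ⟶ a.normalization) (h₁ : d₁ ≫ a.fromNormalization = r.fromNormalization)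
    (h₂ : d₂ ≫ a.fromNormalization = r.fromNormalization) (t₁ : r.toNormalization ≫ d₁ = q₁ ≫ a.toNormalization)
    (t₂ : r.toNormalization ≫ d₂ = q₂ ≫ a.toNormalization) (c : a.normalization ⟶ N) (hc : c ≫ ν = a.fromNormalization)
    (hgc : g = a.toNormalization ≫ c) {U' : Scheme.{u}} (u : U' ⟶ U) [Smooth u]
    (H : CoeqAt a.fromNormalization r.fromNormalization d₁ d₂ h₁ h₂ ν c hc u) :
    UnivAt a r q₁ q₂ e₁ e₂ ν g hg u := by
  intro Z π _ h hh heq
  obtain ⟨k, ⟨hk₁, hk₂⟩, hk⟩ := norm_univ a u π h hh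
  have key : ∀ (d : r.normalization ⟶ a.normalization) (hd : d ≫ a.fromNormalization = r.fromNormalization)
      (q : R ⟶ A) (hq : q ≫ a = r) (t : r.toNormalization ≫ d = q ≫ a.toNormalization),
      (bc u d hd ≫ k) ≫ π = pullback.fst _ _ ∧
        bc u r.toNormalization r.toNormalization_fromNormalization ≫ bc u d hd ≫ k = bc u q hq ≫ h := by
    intro d hd q hq t
    refine ⟨?_, ?_⟩
    · rw [Category.assoc, hk₁]
      exact bc_fst _ _ _
    · rw [← hk₂, ← Category.assoc, ← Category.assoc]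
      congr 1
      apply pullback.hom_ext <;> simp [t]
  have hkk : bc u d₁ h₁ ≫ k = bc u d₂ h₂ ≫ k := by
    obtain ⟨p₁, p₂⟩ := key d₁ h₁ q₁ e₁ t₁
    obtain ⟨p₃, p₄⟩ := key d₂ h₂ q₂ e₂ t₂
    exact (norm_univ r u π (bc u q₁ e₁ ≫ h) (by
      rw [Category.assoc, hh]
      exact bc_fst _ _ _)).unique ⟨p₁, p₂⟩ ⟨p₃, p₄.trans heq.symm⟩
  obtain ⟨l, ⟨hl₁, hl₂⟩, hl⟩ := H π k hk₁ hkk
  have hgc' : bc u g hg = bc u a.toNormalization a.toNormalization_fromNormalization ≫ bc u c hc := by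
    apply pullback.hom_ext <;> simp [hgc]
  refine ⟨l, ⟨hl₁, by rw [hgc', Category.assoc, hl₂, hk₂]⟩, fun l' hl' => hl l' ⟨hl'.1, hk _ ⟨?_, ?_⟩⟩⟩
  · rw [Category.assoc, hl'.1]
    exact bc_fst _ _ _
  · rw [← Category.assoc, ← hgc', hl'.2]

/-- existence, for affine base changes -/
theorem exists_norm_affine [IsAffine U] [QuasiCompact a] [QuasiSeparated a] [QuasiCompact r] [QuasiSeparated r] :
    ∃ (N : Scheme.{u}) (ν : N ⟶ U) (g : A ⟶ N) (hg : g ≫ ν = a), IsIntegralHom ν ∧ q₁ ≫ g = q₂ ≫ g ∧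
      ∀ {U' : Scheme.{u}} [IsAffine U'] (u : U' ⟶ U) [Smooth u], UnivAt a r q₁ q₂ e₁ e₂ ν g hg u := by
  let d₁ := r.normalizationDesc (q₁ ≫ a.toNormalization) a.fromNormalization (by simp [e₁])
  let d₂ := r.normalizationDesc (q₂ ≫ a.toNormalization) a.fromNormalization (by simp [e₂])
  have t₁ : r.toNormalization ≫ d₁ = q₁ ≫ a.toNormalization := r.toNormalization_normalizationDesc ..
  have t₂ : r.toNormalization ≫ d₂ = q₂ ≫ a.toNormalization := r.toNormalization_normalizationDesc ..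
  obtain ⟨N, ν, c, hc, hν, hdc, hint, H⟩ := exists_affCoeq a.fromNormalization r.fromNormalization d₁ d₂
    (r.normalizationDesc_comp ..) (r.normalizationDesc_comp ..)
  refine ⟨N, ν, a.toNormalization ≫ c, by simp [hc], hint inferInstance, ?_, fun u _ => ?_⟩
  · rw [← reassoc_of% t₁, ← reassoc_of% t₂, hdc]
  · exact univAt_of_coeqAt a r q₁ q₂ e₁ e₂ ν _ _ d₁ d₂ _ _ t₁ t₂ c hc rfl u (H u)

end Groth.Agent.RelNorm

end
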