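import Groth.Agent.RelNorm.Glue
import Groth.Agent.AlgSpLib.Quot
import Groth.Prelude.Def_AlgSp3

/-!
# Relative normalizations tested on smooth schemes over the base
-/

set_option autoImplicit false
set_option backward.isDefEq.respectTransparency false
set_option backward.isDefEq.respectTransparency.types false
universe u

open CategoryTheory CategoryTheory.Limits AlgebraicGeometry

noncomputable section

namespace Groth.Agent.RelNorm

open _root_.AlgSp Groth.Agent.AlgSpLib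

variable {S : Scheme.{u}}

/-- `g` is universal among maps to schemes integral over `U'` -/
def IsNormOver {U' : Over S} {Y' N' : Sp S} (πY : Y' ⟶ (yon S).obj U') (πN : N' ⟶ (yon S).obj U')
    (g : Y' ⟶ N') : Prop :=
  ∀ ⦃Z : Over S⦄ (π : Z ⟶ U') [IsIntegralHom π.left] (h : Y' ⟶ (yon S).obj Z),
    h ≫ (yon S).map π = πY → ∃! k : N' ⟶ (yon S).obj Z, k ≫ (yon S).map π = πN ∧ g ≫ k = h

theorem IsNormOver.of_iso {U' : Over S} {Y' N' Y₀ N₀ : Sp S} {πY : Y' ⟶ (yon S).obj U'}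
    {πN : N' ⟶ (yon S).obj U'} {g : Y' ⟶ N'} {πY₀ : Y₀ ⟶ (yon S).obj U'} {πN₀ : N₀ ⟶ (yon S).obj U'}
    {g₀ : Y₀ ⟶ N₀} (h : IsNormOver πY₀ πN₀ g₀) (eY : Y' ≅ Y₀) (eN : N' ≅ N₀) (hY : eY.hom ≫ πY₀ = πY)
    (hN : eN.hom ≫ πN₀ = πN) (hg : g ≫ eN.hom = eY.hom ≫ g₀) : IsNormOver πY πN g := by
  intro Z π _ l hl
  obtain ⟨k, ⟨hk₁, hk₂⟩, hk⟩ := h π (eY.inv ≫ l) (by rw [Category.assoc, hl, ← hY, Iso.inv_hom_id_assoc])
  refine ⟨eN.hom ≫ k, ⟨by rw [Category.assoc, hk₁, hN], ?_⟩, fun k' hk' => ?_⟩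
  · rw [reassoc_of% hg, hk₂, Iso.hom_inv_id_assoc]
  · rw [← hk (eN.inv ≫ k') ⟨?_, ?_⟩, Iso.hom_inv_id_assoc]
    · rw [Category.assoc, hk'.1, ← hN, Iso.inv_hom_id_assoc]
    · rw [← cancel_epi eY.hom, ← reassoc_of% hg, Iso.hom_inv_id_assoc, Iso.hom_inv_id_assoc, hk'.2]

variable {X Y N : Sp S} (f : Y ⟶ X) (ν : N ⟶ X) (g : Y ⟶ N) (hg : g ≫ ν = f)

/-- base change of a morphism over `X` -/
def bcS {T : Sp S} (u : T ⟶ X) : pullback f u ⟶ pullback ν u :=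
  pullback.lift (pullback.fst f u ≫ g) (pullback.snd f u) (by rw [Category.assoc, hg, pullback.condition])

@[reassoc (attr := simp)]
theorem bcS_fst {T : Sp S} (u : T ⟶ X) : bcS f ν g hg u ≫ pullback.fst ν u = pullback.fst f u ≫ g :=
  pullback.lift_fst _ _ _

@[reassoc (attr := simp)]
theorem bcS_snd {T : Sp S} (u : T ⟶ X) : bcS f ν g hg u ≫ pullback.snd ν u = pullback.snd f u :=
  pullback.lift_snd _ _ _

/-- universality over the scheme `U'` -/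
def NormAt {U' : Over S} (u : (yon S).obj U' ⟶ X) : Prop :=
  IsNormOver (pullback.snd f u) (pullback.snd ν u) (bcS f ν g hg u)

/-- universality over every scheme smooth over `X` -/
def SmNorm : Prop :=
  ∀ ⦃U' : Over S⦄ (u : (yon S).obj U' ⟶ X), LocP @Smooth u → NormAt f ν g hg u

variable {f ν g}

theorem normAt_iff {U' : Over S} {u : (yon S).obj U' ⟶ X} {Y' N' : Sp S} {a : Y' ⟶ Y}
    {πY : Y' ⟶ (yon S).obj U'} {b : N' ⟶ N} {πN : N' ⟶ (yon S).obj U'} (sY : IsPullback a πY f u)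
    (sN : IsPullback b πN ν u) (g' : Y' ⟶ N') (h₁ : g' ≫ b = a ≫ g) (h₂ : g' ≫ πN = πY) :
    IsNormOver πY πN g' ↔ NormAt f ν g hg u := by
  refine ⟨fun H => H.of_iso sY.isoPullback.symm sN.isoPullback.symm (by simp) (by simp) ?_,
    fun H => IsNormOver.of_iso H sY.isoPullback sN.isoPullback (by simp) (by simp) ?_⟩
  · rw [Iso.symm_hom, Iso.symm_hom, Iso.comp_inv_eq, Category.assoc, eq_comm, Iso.inv_comp_eq]
    apply pullback.hom_ext
    · simp [h₁]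
    · simp [h₂]
  · apply pullback.hom_ext
    · simp [h₁]
    · simp [h₂]

/-- universality after a base change -/
theorem normAt_baseChange {X₁ Y₁ N₁ : Sp S} {φ : X₁ ⟶ X} {a : Y₁ ⟶ Y} {f₁ : Y₁ ⟶ X₁} {b : N₁ ⟶ N}
    {ν₁ : N₁ ⟶ X₁} (sY : IsPullback a f₁ f φ) (sN : IsPullback b ν₁ ν φ) (g₁ : Y₁ ⟶ N₁)
    (hg₁ : g₁ ≫ ν₁ = f₁) (h₁ : g₁ ≫ b = a ≫ g) {U' : Over S} (u : (yon S).obj U' ⟶ X₁) :
    NormAt f₁ ν₁ g₁ hg₁ u ↔ NormAt f ν g hg (u ≫ φ) :=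
  normAt_iff hg ((IsPullback.of_hasPullback f₁ u).paste_horiz sY) ((IsPullback.of_hasPullback ν₁ u).paste_horiz sN)
    (bcS f₁ ν₁ g₁ hg₁ u) (by rw [bcS_fst_assoc, h₁, Category.assoc]) (bcS_snd _ _ _ _ _)

end Groth.Agent.RelNorm

end
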