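import Groth.Agent.RelNorm.Yon

/-!
# Affine charts dominate the normalization
-/

set_option autoImplicit false
set_option backward.isDefEq.respectTransparency false
set_option backward.isDefEq.respectTransparency.types false
set_option linter.style.haveILetI false
universe u

open CategoryTheory CategoryTheory.Limits AlgebraicGeometry

noncomputable section

namespace Groth.Agent.RelNorm

open _root_.AlgSp Groth.Agent.AlgSpLib

variable {S : Scheme.{u}}

/-- the normalization is dominated by the normalization in an affine chart -/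
theorem exists_dominant_chart {U : Over S} [IsAffine U.left] {Y : Sp S} (hY : IsAlgSpace Y)
    {f : Y ⟶ (yon S).obj U} (hqc : AlgSp.IsQuasiCompactMor f) {N : Over S} (ν : N ⟶ U) {g : Y ⟶ (yon S).obj N}
    (hn : IsRelNormalization f ((yon S).map ν) g) :
    ∃ (A : Over S) (_ : IsAffine A.left) (w : (yon S).obj A ⟶ Y) (a : A ⟶ U) (gA : A ⟶ N)
      (c : a.left.normalization ⟶ N.left),
      RepWith @Etale w ∧ RepWith @Surjective w ∧ (yon S).map a = w ≫ f ∧ (yon S).map gA = w ≫ g ∧
        a.left.toNormalization ≫ c = gA.left ∧ c ≫ ν.left = a.left.fromNormalization ∧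
          Function.Injective c.appTop ∧ IsIntegralHom c ∧ Surjective c := by
  have hν : IsIntegralHom ν.left := (repWith_yon_iff ν).1 ((isIntegralMor_iff_repWith _).1 hn.2.1)
  haveI : IsAffine N.left := isAffine_of_isAffineHom ν.left
  have hqY : IsQuasiCompactSp Y :=
    hqc (IsAlgSpace.yon_obj U) (isQuasiCompactSp_yon U) (𝟙 _) (𝟙 Y) f (IsPullback.of_horiz_isIso ⟨by simp⟩)
  have := compactSpace_of_isQuasiCompactSp hqY
  obtain ⟨A, w, hA, hwe, hws⟩ := exists_affine_chart_of_compact hY
  haveI := hA
  obtain ⟨a, ha⟩ := exists_map_eq (w ≫ f)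
  obtain ⟨gA, hgA⟩ := exists_map_eq (w ≫ g)
  have hgν : gA ≫ ν = a := (yon S).map_injective (by rw [Functor.map_comp, hgA, ha, Category.assoc, hn.1])
  let c : a.left.normalization ⟶ N.left :=
    a.left.normalizationDesc gA.left ν.left (congrArg CommaMorphism.left hgν).symm
  have hc₁ : a.left.toNormalization ≫ c = gA.left := a.left.toNormalization_normalizationDesc ..
  have hc₂ : c ≫ ν.left = a.left.fromNormalization := a.left.normalizationDesc_comp ..
  haveI : IsAffine a.left.normalization := isAffine_of_isAffineHom a.left.fromNormalization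
  haveI : QuasiCompact c := inferInstance
  -- the scheme theoretic image
  let Z : Over S := Over.mk (c.imageι ≫ N.hom)
  let i : Z ⟶ N := Over.homMk c.imageι rfl
  haveI : IsClosedImmersion i.left := inferInstanceAs (IsClosedImmersion c.imageι)
  haveI : Mono i := (Over.forget S).mono_of_mono_map (inferInstanceAs (Mono i.left))
  haveI : IsIntegralHom (i ≫ ν).left := inferInstanceAs (IsIntegralHom (i.left ≫ ν.left))
  let aZ : A ⟶ Z := Over.homMk (a.left.toNormalization ≫ c.toImage) (by
    show (a.left.toNormalization ≫ c.toImage) ≫ c.imageι ≫ N.hom = A.hom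
    rw [Category.assoc, Scheme.Hom.toImage_imageι_assoc, reassoc_of% hc₁]
    exact Over.w gA)
  have haZ : aZ ≫ i = gA := Over.OverMorphism.ext (by
    show (a.left.toNormalization ≫ c.toImage) ≫ c.imageι = gA.left
    rw [Category.assoc, Scheme.Hom.toImage_imageι, hc₁])
  haveI : Mono ((yon S).map i) := inferInstance
  haveI := epi_of_etale_cover w hwe hws
  obtain ⟨gZ, hgZ, -⟩ := exists_desc_epi w ((yon S).map aZ) (by
    rw [← cancel_mono ((yon S).map i), Category.assoc, Category.assoc, ← Functor.map_comp, haZ, hgA,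
      pullback.condition_assoc])
  have hgZi : gZ ≫ (yon S).map i = g := by
    rw [← cancel_epi w, reassoc_of% hgZ, ← Functor.map_comp, haZ, hgA]
  obtain ⟨k, ⟨hk₁, hk₂⟩, -⟩ := hn.2.2 (IsAlgSpace.yon_obj Z) ((yon S).map (i ≫ ν)) gZ
    ((isIntegralMor_iff_repWith _).2 ((repWith_yon_iff (i ≫ ν)).2 ‹_›))
    (by rw [Functor.map_comp, reassoc_of% hgZi, hn.1])
  have hki : k ≫ (yon S).map i = 𝟙 _ := (hn.2.2 (IsAlgSpace.yon_obj N) _ g hn.2.1 hn.1).unique
    ⟨by rw [reassoc_of% hk₁, hgZi], by rw [Category.assoc, ← Functor.map_comp, hk₂]⟩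
    ⟨Category.comp_id _, Category.id_comp _⟩
  obtain ⟨k', rfl⟩ := exists_map_eq k
  rw [← Functor.map_comp, ← CategoryTheory.Functor.map_id] at hki
  have hki' := (yon S).map_injective hki
  have hik : i ≫ k' = 𝟙 Z := by rw [← cancel_mono i, Category.assoc, hki', Category.comp_id, Category.id_comp]
  haveI : IsIso i := ⟨k', hik, hki'⟩
  haveI : IsIso i.left := inferInstanceAs (IsIso ((Over.forget S).map i))
  have hinj : Function.Injective c.appTop := by
    rw [← c.toImage_imageι, Scheme.Hom.comp_appTop]
    haveI : IsIso c.imageι := inferInstanceAs (IsIso i.left)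
    exact (Function.Injective.comp (f := c.imageι.appTop) (c.toImage_app_injective ⟨⊤, isAffineOpen_top N.left⟩)
      (ConcreteCategory.bijective_of_isIso c.imageι.appTop).1 :)
  haveI : IsIntegralHom c := IsIntegralHom.of_comp c ν.left
  haveI : IsDominant c := by
    haveI : IsIso c.imageι := inferInstanceAs (IsIso i.left)
    haveI : IsDominant c.imageι := inferInstance
    rw [← c.toImage_imageι]; infer_instance
  refine ⟨A, hA, w, a, gA, c, hwe, hws, ha, hgA, hc₁, hc₂, hinj, ‹_›, ⟨fun x => ?_⟩⟩
  have := c.denseRange.closure_range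
  rw [c.isClosedMap.isClosed_range.closure_eq] at this
  exact (this ▸ Set.mem_univ x :)

end Groth.Agent.RelNorm

end
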