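import Groth.Agent.RelNorm.Base

/-!
# Extending integral morphisms over quasi-compact open subspaces
-/

set_option autoImplicit false
set_option backward.isDefEq.respectTransparency false
set_option backward.isDefEq.respectTransparency.types false
set_option linter.style.haveILetI false
universe u

open CategoryTheory CategoryTheory.Limits AlgebraicGeometry

noncomputable section

namespace Groth.Agent.RelNorm

open _root_.AlgSp Groth.Agent.AlgSpLib

variable {S : Scheme.{u}}

/-- an integral morphism over a quasi-compact open extends to the whole space -/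
theorem exists_integral_extension {V Y Z : Sp S} (hV : IsAlgSpace V) (hY : IsAlgSpace Y) (hZ : IsAlgSpace Z)
    (j : V ⟶ Y) (hj : RepWith @IsOpenImmersion j) (hjq : AlgSp.IsQuasiCompactMor j) (π : Z ⟶ V)
    (hπ : IsIntegralMor π) :
    ∃ (Y' : Sp S) (ν : Y' ⟶ Y) (j' : Z ⟶ Y'), IsAlgSpace Y' ∧ IsIntegralMor ν ∧ IsPullback j' π ν j := by
  have hπ' := (isIntegralMor_iff_repWith π).1 hπ
  have hjq' := (isQuasiCompactMor_iff_repWith hV hY hj.1).1 hjq
  have hqc' : RepWith @QuasiCompact (π ≫ j) :=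
    repWith_comp (repWith_mono (fun _ _ r (hr : IsIntegralHom r) => (inferInstance : QuasiCompact r)) hπ') hjq'
  have hsep : RepWith @IsSeparated (π ≫ j) :=
    repWith_comp (repWith_mono (fun _ _ r (hr : IsIntegralHom r) => (inferInstance : IsSeparated r)) hπ')
      (repWith_mono (fun _ _ r (hr : IsOpenImmersion r) => (inferInstance : IsSeparated r)) hj)
  have hqc : AlgSp.IsQuasiCompactMor (π ≫ j) := (isQuasiCompactMor_iff_repWith hZ hY hqc'.1).2 hqc'
  have hqs : IsQuasiSeparatedMor (π ≫ j) := (isQuasiSeparatedMor_iff_repWith hZ hY hsep.1).2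
    (repWith_mono (fun _ _ r (hr : IsSeparated r) => (inferInstance : QuasiSeparated r)) hsep)
  obtain ⟨Y', ν, f', hf, hY', hint, H⟩ := exists_smNorm hZ hY (π ≫ j) hqc hqs
  have hn := isRelNormalization_of_smNorm hY hf hint H
  haveI : Mono j := mono_of_repWith_immersion (repWith_mono (P := @IsOpenImmersion) (Q := @IsImmersion)
    (fun _ _ r (hr : IsOpenImmersion r) => (inferInstance : IsImmersion r)) hj)
  have sj : IsPullback (𝟙 V) (𝟙 V) j j := IsKernelPair.id_of_mono j
  have sZ : IsPullback (𝟙 Z) π (π ≫ j) j := by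
    have := (IsPullback.of_horiz_isIso (fst := 𝟙 Z) (snd := π) (f := π) (g := 𝟙 V) ⟨by simp⟩).paste_vert sj
    simpa using this
  have hsm : LocP @Smooth j := (locP_iff_repWith etST_smooth hY hj.1).2
    (repWith_mono (fun _ _ r (hr : IsOpenImmersion r) => (inferInstance : Smooth r)) hj)
  have sN := IsPullback.of_hasPullback ν j
  let g := sN.lift f' π hf
  have hn₁ := isRelNormalization_baseChange hY hV hZ hY' sZ hqc hqs hsm hn sN g (sN.lift_snd _ _ _)
    ((sN.lift_fst _ _ _).trans (Category.id_comp _).symm)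
  have hW : IsAlgSpace (pullback ν j) := isAlgSpace_of_isPullback_space hY hY' hV sN
  obtain ⟨b, hb₁, hb₂⟩ := (hn₁.2.2 hZ π (𝟙 Z) hπ (Category.id_comp _)).exists
  have e : b ≫ g = 𝟙 _ := (hn₁.2.2 hW _ g hn₁.2.1 hn₁.1).unique
    ⟨by rw [reassoc_of% hb₁], by rw [Category.assoc, sN.lift_snd, hb₂]⟩ ⟨Category.comp_id _, Category.id_comp _⟩
  haveI : IsIso g := ⟨b, hb₁, e⟩
  exact ⟨Y', ν, f', hY', hint, IsPullback.of_iso_pullback ⟨hf⟩ (asIso g) (sN.lift_fst _ _ _) (sN.lift_snd _ _ _)⟩

end Groth.Agent.RelNorm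

end
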