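import Groth.Agent.RelNorm.Yon
import Groth.Agent.AlgSpLib.GeomRedTest
import Groth.Agent.S9675

/-!
# Finiteness of normalizations over Nagata bases
-/

set_option autoImplicit false
set_option backward.isDefEq.respectTransparency false
set_option backward.isDefEq.respectTransparency.types false
set_option linter.style.haveILetI false
universe u

open CategoryTheory CategoryTheory.Limits AlgebraicGeometry

noncomputable section

namespace Groth.Agent.RelNorm

open _root_.AlgSp Groth.Agent.AlgSpLib

variable {S : Scheme.{u}}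

theorem finite_of_injective_comp {A B C : Type u} [CommRing A] [CommRing B] [CommRing C] [IsNoetherianRing A]
    (φ : A →+* B) (ψ : B →+* C) (hψ : Function.Injective ψ) (h : (ψ.comp φ).Finite) : φ.Finite := by
  letI := φ.toAlgebra
  letI := (ψ.comp φ).toAlgebra
  haveI : Module.Finite A C := h
  haveI : IsNoetherian A C := isNoetherian_of_isNoetherianRing_of_finite A C
  exact Module.Finite.of_injective
    ({ toFun := ψ
       map_add' := map_add ψ
       map_smul' := fun a b => by
        simp only [Algebra.smul_def, map_mul, RingHom.id_apply]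
        rfl } : B →ₗ[A] C) hψ

/-- finiteness over an affine Nagata scheme -/
theorem isFinite_of_affine_nagata {U : Over S} [IsAffine U.left]
    (hU : ∀ V : U.left.affineOpens, CAlg.IsNagata Γ(U.left, V)) {Y : Sp S} (hY : IsAlgSpace Y)
    (hred : EtaleLocally (fun T => IsReduced T) Y) {f : Y ⟶ (yon S).obj U} (hqc : AlgSp.IsQuasiCompactMor f)
    (hlft : LocP @LocallyOfFiniteType f) {N : Over S} (ν : N ⟶ U) {g : Y ⟶ (yon S).obj N}
    (hn : IsRelNormalization f ((yon S).map ν) g) : IsFinite ν.left := by
  have hν : IsIntegralHom ν.left := (repWith_yon_iff ν).1 ((isIntegralMor_iff_repWith _).1 hn.2.1)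
  haveI : IsAffine N.left := isAffine_of_isAffineHom ν.left
  have hqY : IsQuasiCompactSp Y :=
    hqc (IsAlgSpace.yon_obj U) (isQuasiCompactSp_yon U) (𝟙 _) (𝟙 Y) f (IsPullback.of_horiz_isIso ⟨by simp⟩)
  have := compactSpace_of_isQuasiCompactSp hqY
  obtain ⟨A, w, hA, hwe, hws⟩ := exists_affine_chart_of_compact hY
  haveI := hA
  obtain ⟨a, ha⟩ := exists_map_eq (w ≫ f)
  obtain ⟨gA, hgA⟩ := exists_map_eq (w ≫ g)
  have hgν : gA ≫ ν = a := (yon S).map_injective (by rw [Functor.map_comp, hgA, ha, Category.assoc, hn.1])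
  haveI : LocallyOfFiniteType a.left := hlft w (𝟙 _) a hwe repWith_id' (by rw [Category.comp_id]; exact ha.symm)
  haveI : ∀ v : A.left, _root_.IsReduced (A.left.presheaf.stalk v) := isReduced_stalk_chart hY hred hwe
  haveI : IsReduced A.left := isReduced_of_isReduced_stalk A.left
  have hfin : IsFinite a.left.fromNormalization := S9675.result a.left hU
  let c : a.left.normalization ⟶ N.left :=
    a.left.normalizationDesc gA.left ν.left (congrArg CommaMorphism.left hgν).symm
  have hc₁ : a.left.toNormalization ≫ c = gA.left := a.left.toNormalization_normalizationDesc ..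
  have hc₂ : c ≫ ν.left = a.left.fromNormalization := a.left.normalizationDesc_comp ..
  haveI : IsAffine a.left.normalization := isAffine_of_isAffineHom a.left.fromNormalization
  haveI : QuasiCompact c := inferInstance
  -- the scheme theoretic image
  let Z : Over S := Over.mk (c.imageι ≫ N.hom)
  let i : Z ⟶ N := Over.homMk c.imageι rfl
  haveI : IsClosedImmersion i.left := inferInstanceAs (IsClosedImmersion c.imageι)
  haveI : Mono i := (Over.forget S).mono_of_mono_map (inferInstanceAs (Mono i.left))
  haveI : IsIntegralHom (i ≫ ν).left := inferInstanceAs (IsIntegralHom (i.left ≫ ν.left))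
  let aZ : A ⟶ Z := Over.homMk (a.left.toNormalization ≫ c.toImage) (by
    show (a.left.toNormalization ≫ c.toImage) ≫ c.imageι ≫ N.hom = A.hom
    rw [Category.assoc, Scheme.Hom.toImage_imageι_assoc, reassoc_of% hc₁]
    exact Over.w gA)
  have haZ : aZ ≫ i = gA := Over.OverMorphism.ext (by
    show (a.left.toNormalization ≫ c.toImage) ≫ c.imageι = gA.left
    rw [Category.assoc, Scheme.Hom.toImage_imageι, hc₁])
  haveI : Mono ((yon S).map i) := inferInstance
  haveI := epi_of_etale_cover w hwe hws
  obtain ⟨gZ, hgZ, -⟩ := exists_desc_epi w ((yon S).map aZ) (by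
    rw [← cancel_mono ((yon S).map i), Category.assoc, Category.assoc, ← Functor.map_comp, haZ, hgA,
      pullback.condition_assoc])
  have hgZi : gZ ≫ (yon S).map i = g := by
    rw [← cancel_epi w, reassoc_of% hgZ, ← Functor.map_comp, haZ, hgA]
  obtain ⟨k, ⟨hk₁, hk₂⟩, -⟩ := hn.2.2 (IsAlgSpace.yon_obj Z) ((yon S).map (i ≫ ν)) gZ
    ((isIntegralMor_iff_repWith _).2 ((repWith_yon_iff (i ≫ ν)).2 ‹_›))
    (by rw [Functor.map_comp, reassoc_of% hgZi, hn.1])
  have hki : k ≫ (yon S).map i = 𝟙 _ := (hn.2.2 (IsAlgSpace.yon_obj N) _ g hn.2.1 hn.1).unique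
    ⟨by rw [reassoc_of% hk₁, hgZi], by rw [Category.assoc, ← Functor.map_comp, hk₂]⟩
    ⟨Category.comp_id _, Category.id_comp _⟩
  obtain ⟨k', rfl⟩ := exists_map_eq k
  rw [← Functor.map_comp, ← CategoryTheory.Functor.map_id] at hki
  have hki' := (yon S).map_injective hki
  have hik : i ≫ k' = 𝟙 Z := by rw [← cancel_mono i, Category.assoc, hki', Category.comp_id, Category.id_comp]
  haveI : IsIso i := ⟨k', hik, hki'⟩
  haveI : IsIso i.left := inferInstanceAs (IsIso ((Over.forget S).map i))
  have hinj : Function.Injective c.appTop := by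
    rw [← c.toImage_imageι, Scheme.Hom.comp_appTop]
    haveI : IsIso c.imageι := inferInstanceAs (IsIso i.left)
    exact (Function.Injective.comp (f := c.imageι.appTop) (c.toImage_app_injective ⟨⊤, isAffineOpen_top N.left⟩)
      (ConcreteCategory.bijective_of_isIso c.imageι.appTop).1 :)
  haveI : IsNoetherianRing Γ(U.left, ⊤) := (hU ⟨⊤, isAffineOpen_top U.left⟩).1
  refine (HasAffineProperty.iff_of_isAffine (P := @IsFinite)).2 ⟨inferInstance, ?_⟩
  refine finite_of_injective_comp ν.left.appTop.hom c.appTop.hom hinj ?_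
  have := ((HasAffineProperty.iff_of_isAffine (P := @IsFinite)).1 hfin).2
  rw [← hc₂, Scheme.Hom.comp_appTop] at this
  exact this

/-- finiteness over a Nagata algebraic space -/
theorem isFiniteMor_of_nagata {X Y Y' : Sp S} (hX : IsAlgSpace X) (hY : IsAlgSpace Y) (hY' : IsAlgSpace Y')
    {f : X ⟶ Y} (hN : EtaleLocally (fun U => ∀ V : U.Opens, IsAffineOpen V → CAlg.IsNagata ↑Γ(U, V)) Y)
    (hqs : IsQuasiSeparatedMor f) (hft : IsFiniteTypeMor f) (hred : EtaleLocally (fun U => IsReduced U) X)
    {ν : Y' ⟶ Y} {f' : X ⟶ Y'} (hn : IsRelNormalization f ν f') : IsFiniteMor ν := by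
  obtain ⟨U, p, hpe, hps, hNag⟩ := hN
  have hν := (isIntegralMor_iff_repWith ν).1 hn.2.1
  obtain ⟨M, π, νM, sM, hνM⟩ := exists_repWith hν p
  haveI := Groth.Agent.AlgSpLib.isLocallySurjective_of_atlas hpe hps
  refine (isFiniteMor_iff_repWith ν).2 (repWith_of_isLocallySurjective hν.1 sM ((repWith_yon_iff νM).2 ?_))
  rw [IsZariskiLocalAtTarget.iff_of_iSup_eq_top (P := @IsFinite) (fun O : U.left.affineOpens => O.1)
    (iSup_affineOpens_eq_top U.left)]
  intro O
  let W : Over S := Over.mk (O.1.ι ≫ U.hom)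
  let j : W ⟶ U := Over.homMk O.1.ι rfl
  haveI : IsAffine W.left := O.2
  let q : (yon S).obj W ⟶ Y := (yon S).map j ≫ p
  have hqe : RepWith @Etale q :=
    repWith_comp ((repWith_yon_iff (P := @Etale) j).2 (inferInstanceAs (Etale O.1.ι))) hpe
  have hsm : LocP @Smooth q := (locP_iff_repWith etST_smooth hY hqe.1).2
    (repWith_mono (fun _ _ r (hr : Etale r) => inferInstanceAs (Smooth r)) hqe)
  have sMW : IsPullback ((yon S).map (pullback.fst νM j) ≫ π) ((yon S).map (pullback.snd νM j)) ν q :=
    ((IsPullback.of_hasPullback νM j).map (yon S)).paste_horiz sM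
  have sX := IsPullback.of_hasPullback f q
  have hXW : IsAlgSpace (pullback f q) := isAlgSpace_of_isPullback_space hY hX (IsAlgSpace.yon_obj W) sX
  let g : pullback f q ⟶ (yon S).obj (pullback νM j) :=
    sMW.lift (pullback.fst f q ≫ f') (pullback.snd f q) (by rw [Category.assoc, hn.1, pullback.condition])
  have hnW := isRelNormalization_baseChange hY (IsAlgSpace.yon_obj W) hX hY' sX hft.2 hqs hsm hn sMW g
    (sMW.lift_snd _ _ _) (sMW.lift_fst _ _ _)
  have hfinW : IsFinite (pullback.snd νM j).left := by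
    refine isFinite_of_affine_nagata (U := W) (fun V => hNag (O.1.ι ''ᵁ V.1) (V.2.image_of_isOpenImmersion O.1.ι)) hXW ?_
      (fun Z Z' hZ hZq g fst snd sq => hft.2 hZ hZq _ _ _ (sq.paste_horiz sX))
      (locP_baseChange etST_lft hX hY hXW (IsAlgSpace.yon_obj W) sX hft.1) _ hnW
    obtain ⟨T, t, hte, hts⟩ := hXW.atlas
    refine ⟨T, t, hte, hts, ?_⟩
    haveI : ∀ v : T.left, _root_.IsReduced (T.left.presheaf.stalk v) :=
      isReduced_stalk_chart hX hred (repWith_comp hte (repWith_baseChange sX.flip hqe))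
    exact isReduced_of_isReduced_stalk T.left
  have e := ((IsPullback.of_hasPullback νM j).map (Over.forget S)).flip
  exact (MorphismProperty.arrow_mk_iso_iff (P := @IsFinite)
    (Arrow.isoMk (e.isoIsPullback _ _ (isPullback_morphismRestrict νM.left O.1)) (Iso.refl _)
      ((e.isoIsPullback_hom_fst _ _ _).trans (Category.comp_id _).symm))).1 hfinW

end Groth.Agent.RelNorm

end
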