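import Groth.Agent.RelNorm.Dominant
import Groth.Agent.AlgSpLib.CodimZero
import Groth.Agent.S9672

/-!
# Generic points of normalizations
-/

set_option autoImplicit false
set_option backward.isDefEq.respectTransparency false
set_option backward.isDefEq.respectTransparency.types false
set_option linter.style.haveILetI false
universe u

open CategoryTheory CategoryTheory.Limits AlgebraicGeometry

noncomputable section

namespace Groth.Agent.RelNorm

open _root_.AlgSp Groth.Agent.AlgSpLib

variable {S : Scheme.{u}}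

theorem closure_mem_irreducibleComponents_iff {α : Type*} [TopologicalSpace α] [T0Space α] [QuasiSober α] (x : α) :
    closure {x} ∈ irreducibleComponents α ↔ SpQS.IsMaxPt x := by
  rw [← SpQS.component_generic_iff]
  exact ⟨fun h => ⟨_, h, rfl⟩, fun ⟨T, hT, hx⟩ => hx.def ▸ hT⟩

/-- a maximal point lifts along a surjective continuous map -/
theorem exists_isMaxPt_lift {α β : Type*} [TopologicalSpace α] [TopologicalSpace β] [T0Space α] [QuasiSober α]
    {c : α → β} (hc : Continuous c) (hs : Function.Surjective c) {m : β} (hm : SpQS.IsMaxPt m) :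
    ∃ z, SpQS.IsMaxPt z ∧ c z = m := by
  obtain ⟨z₀, rfl⟩ := hs m
  obtain ⟨z, hz, hzm⟩ := SpQS.exists_isMaxPt_specializes z₀
  exact ⟨z, hzm, hm _ (hz.map hc)⟩

/-- codimension zero points of the normalization come from codimension zero points -/
theorem exists_codimZero_lift {X Y Y' : Sp S} (hX : IsAlgSpace X) (hY : IsAlgSpace Y) (hY' : IsAlgSpace Y')
    {f : X ⟶ Y} (hqc : AlgSp.IsQuasiCompactMor f) (hqs : IsQuasiSeparatedMor f)
    {ν : Y' ⟶ Y} {f' : X ⟶ Y'} (hn : IsRelNormalization f ν f') (x : Points Y')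
    (hx : HasAt (fun U u => ringKrullDim ↥(U.presheaf.stalk u) = 0) Y' x) :
    ∃ y : Points X, HasAt (fun U u => ringKrullDim ↥(U.presheaf.stalk u) = 0) X y ∧ Points.map f' y = x := by
  obtain ⟨U, p, hpe, hps⟩ := hY.atlas
  have hν := (isIntegralMor_iff_repWith ν).1 hn.2.1
  obtain ⟨M, π, νM, sM, hνM⟩ := exists_repWith hν p
  have hπe : RepWith @Etale π := repWith_baseChange sM.flip hpe
  obtain ⟨U₀, a₀, u₀, ha₀, rfl, hu₀⟩ := hx
  obtain ⟨m, hm⟩ := ofPt_surjective (repWith_baseChange sM.flip hps) (Points.ofPt a₀ u₀)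
  obtain ⟨T, r₁, r₂, sqT⟩ := exists_pullback hY'.diag a₀ π
  obtain ⟨t, rfl, rfl⟩ := (ofPt_eq_iff sqT u₀ m).1 hm.symm
  haveI : Etale r₁.left := (repWith_yon_iff r₁).1 (repWith_baseChange sqT.flip hπe)
  haveI : Etale r₂.left := (repWith_yon_iff r₂).1 (repWith_baseChange sqT ha₀)
  haveI : LocallyQuasiFinite r₁.left := FpqcDescent.locallyQuasiFinite_of_etale _
  have hmax : SpQS.IsMaxPt (r₂.left t) :=
    isMaxPt_map_of_flat r₂.left (isMaxPt_of_map_etale r₁.left ((SpQS.stalk_dim_zero_iff _).1 hu₀))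
  -- an affine piece
  obtain ⟨_, ⟨O, hO, rfl⟩, hmO, -⟩ := U.left.isBasis_affineOpens.exists_subset_of_mem_open
    (Set.mem_univ (νM.left (r₂.left t))) isOpen_univ
  let W : Over S := Over.mk (Scheme.Opens.ι (X := U.left) O ≫ U.hom)
  let j : W ⟶ U := Over.homMk (Scheme.Opens.ι (X := U.left) O) rfl
  haveI : IsAffine W.left := hO
  let q : (yon S).obj W ⟶ Y := (yon S).map j ≫ p
  have hqe : RepWith @Etale q :=
    repWith_comp ((repWith_yon_iff (P := @Etale) j).2 (inferInstanceAs (Etale (Scheme.Opens.ι (X := U.left) O)))) hpe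
  have hsm : LocP @Smooth q := (locP_iff_repWith etST_smooth hY hqe.1).2
    (repWith_mono (fun _ _ r (hr : Etale r) => inferInstanceAs (Smooth r)) hqe)
  have sW := (IsPullback.of_hasPullback νM j).map (Over.forget S)
  have sMW : IsPullback ((yon S).map (pullback.fst νM j) ≫ π) ((yon S).map (pullback.snd νM j)) ν q :=
    ((IsPullback.of_hasPullback νM j).map (yon S)).paste_horiz sM
  have sX := IsPullback.of_hasPullback f q
  have hXW : IsAlgSpace (pullback f q) := isAlgSpace_of_isPullback_space hY hX (IsAlgSpace.yon_obj W) sX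
  let g : pullback f q ⟶ (yon S).obj (pullback νM j) :=
    sMW.lift (pullback.fst f q ≫ f') (pullback.snd f q) (by rw [Category.assoc, hn.1, pullback.condition])
  have hnW := isRelNormalization_baseChange hY (IsAlgSpace.yon_obj W) hX hY' sX hqc hqs hsm hn sMW g
    (sMW.lift_snd _ _ _) (sMW.lift_fst _ _ _)
  obtain ⟨A, hA, w, a, gA, c, hwe, -, -, hgA, hc₁, -, -, -, hcs⟩ := exists_dominant_chart hXW
    (fun Z Z' hZ hZq g fst snd sq => hqc hZ hZq _ _ _ (sq.paste_horiz sX)) (pullback.snd νM j) hnW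
  obtain ⟨m₀, hm₀, -⟩ := Scheme.exists_preimage_of_isPullback sW (r₂.left t) ⟨_, hmO⟩ rfl
  haveI : IsOpenImmersion (pullback.fst νM j).left :=
    MorphismProperty.of_isPullback (P := @IsOpenImmersion) sW.flip (inferInstanceAs (IsOpenImmersion (Scheme.Opens.ι (X := U.left) O)))
  have hm₀max : SpQS.IsMaxPt m₀ := fun y hy =>
    (pullback.fst νM j).left.isOpenEmbedding.injective
      ((hmax _ (by rw [← hm₀]; exact hy.map (pullback.fst νM j).left.continuous)).trans hm₀.symm)
  obtain ⟨z, hz, hcz⟩ := exists_isMaxPt_lift c.continuous hcs.surj hm₀max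
  obtain ⟨v, hv, hvz⟩ := S9672.result a.left z ((closure_mem_irreducibleComponents_iff z).2 hz)
  have hw' : RepWith @Etale (w ≫ pullback.fst f q) := repWith_comp hwe (repWith_baseChange sX.flip hqe)
  refine ⟨Points.ofPt (w ≫ pullback.fst f q) v, ⟨A, _, v, hw', rfl,
    (SpQS.stalk_dim_zero_iff v).2 ((closure_mem_irreducibleComponents_iff v).1 hv)⟩, ?_⟩
  rw [Points.map_ofPt, ← hm, Category.assoc, show pullback.fst f q ≫ f' = g ≫ (yon S).map (pullback.fst νM j) ≫ π
    from (sMW.lift_fst _ _ _).symm, ← Category.assoc, ← hgA, ← Category.assoc, ← Functor.map_comp, ofPt_comp]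
  congr 1
  show (gA.left ≫ (pullback.fst νM j).left) v = r₂.left t
  rw [← hc₁, Scheme.Hom.comp_apply, Scheme.Hom.comp_apply, show a.left.toNormalization v = z from hvz, hcz]
  exact hm₀

end Groth.Agent.RelNorm

end
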