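import Groth.Agent.RelNorm.Base
import Groth.Agent.AlgSpLib.Subspace
import Groth.Agent.S16833
import Mathlib.AlgebraicGeometry.ZariskisMainTheorem

/-!
# The normalization is etale locally an isomorphism at quasi-finite points
-/

set_option autoImplicit false
set_option backward.isDefEq.respectTransparency false
set_option backward.isDefEq.respectTransparency.types false
set_option linter.style.haveILetI false
universe u

open CategoryTheory CategoryTheory.Limits AlgebraicGeometry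

noncomputable section

namespace Groth.Agent.RelNorm

open _root_.AlgSp Groth.Agent.AlgSpLib

variable {S : Scheme.{u}}

/-- a morphism out of a scheme from two complementary opens -/
theorem exists_glue_compl {B : Over S} (O P : B.left.Opens) (h : IsCompl O P) {T : Over S}
    (a : Over.mk (O.ι ≫ B.hom) ⟶ T) (b : Over.mk (P.ι ≫ B.hom) ⟶ T) :
    ∃ k : B ⟶ T, (Over.homMk O.ι rfl : Over.mk (O.ι ≫ B.hom) ⟶ B) ≫ k = a ∧
      (Over.homMk P.ι rfl : Over.mk (P.ι ≫ B.hom) ⟶ B) ≫ k = b := by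
  obtain ⟨H⟩ := nonempty_isColimit_binaryCofanMk_of_isCompl O.ι P.ι (by simpa)
  obtain ⟨l, hl₁, hl₂⟩ := BinaryCofan.IsColimit.desc' H a.left b.left
  refine ⟨Over.homMk l (BinaryCofan.IsColimit.hom_ext H ?_ ?_), Over.OverMorphism.ext hl₁, Over.OverMorphism.ext hl₂⟩
  · exact ((reassoc_of% hl₁) T.hom).trans (Over.w a)
  · exact ((reassoc_of% hl₂) T.hom).trans (Over.w b)

theorem hom_ext_compl {B T : Over S} (O P : B.left.Opens) (h : IsCompl O P) {k k' : B ⟶ T}
    (h₁ : (Over.homMk O.ι rfl : Over.mk (O.ι ≫ B.hom) ⟶ B) ≫ k = (Over.homMk O.ι rfl : Over.mk (O.ι ≫ B.hom) ⟶ B) ≫ k')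
    (h₂ : (Over.homMk P.ι rfl : Over.mk (P.ι ≫ B.hom) ⟶ B) ≫ k = (Over.homMk P.ι rfl : Over.mk (P.ι ≫ B.hom) ⟶ B) ≫ k') :
    k = k' := by
  obtain ⟨H⟩ := nonempty_isColimit_binaryCofanMk_of_isCompl O.ι P.ι (by simpa)
  exact Over.OverMorphism.ext (BinaryCofan.IsColimit.hom_ext H (congrArg CommaMorphism.left h₁)
    (congrArg CommaMorphism.left h₂))

theorem repWith_finite_of_comp {X Y B : Sp S} (hY : IsAlgSpace Y) (f : X ⟶ Y) {p : X ⟶ B} (q : Y ⟶ B)
    (comm : f ≫ q = p) (hp : RepWith @IsFinite p) (hq : IsSeparatedMor q) : RepWith @IsFinite f :=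
  repWith_of_comp f p q comm hp
    (repWith_mono (fun _ _ r (hr : IsClosedImmersion r) => (inferInstance : IsFinite r)) hq)

theorem isClosed_range_of_finite {X Y : Sp S} (hX : IsAlgSpace X) (hY : IsAlgSpace Y) {f : X ⟶ Y}
    (hf : RepWith @IsFinite f) : IsClosed (Set.range (Points.map f)) := by
  obtain ⟨-, -, -, huc⟩ := (isFiniteMor_iff hX hY f).1 ((isFiniteMor_iff_repWith f).2 hf)
  rw [← Set.image_univ]
  exact huc hY (𝟙 _) (𝟙 X) f (IsPullback.of_horiz_isIso ⟨by simp⟩) _ isClosed_univ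

/-- near a quasi-finite point the map to the normalization is etale locally an isomorphism -/
theorem exists_iso_etale {X Y Y' : Sp S} (hX : IsAlgSpace X) (hY : IsAlgSpace Y) (hY' : IsAlgSpace Y')
    {f : X ⟶ Y} (hft : IsFiniteTypeMor f) (hsep : IsSeparatedMor f) {ν : Y' ⟶ Y} {f' : X ⟶ Y'}
    (hn : IsRelNormalization f ν f') {A W : Over S} [IsAffine A.left] [IsAffine W.left]
    {a : (yon S).obj A ⟶ X} {b : (yon S).obj W ⟶ Y} {h : A ⟶ W} (ha : RepWith @Etale a) (hb : RepWith @Etale b)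
    (hcomm : a ≫ f = (yon S).map h ≫ b) [LocallyQuasiFinite h.left] [LocallyOfFiniteType h.left] (u : A.left) :
    ∃ (T : Over S) (e : (yon S).obj T ⟶ Y') (t : T.left), RepWith @Etale e ∧
      Points.ofPt e t = Points.ofPt (a ≫ f') u ∧ IsIso (pullback.snd f' e) := by
  have hqs : IsQuasiSeparatedMor f :=
    repWith_mono (fun _ _ r (hr : IsClosedImmersion r) => (inferInstance : QuasiCompact r)) hsep
  have hν := (isIntegralMor_iff_repWith ν).1 hn.2.1
  obtain ⟨U₀, g, hge, hs, V, W', v, -, hVfin, hvu⟩ :=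
    exists_etale_isCompl_of_quasiFiniteAt h.left (x := u) rfl (h.left.quasiFiniteAt u)
  let U₁ : Over S := Over.mk (g ≫ W.hom)
  let gO : U₁ ⟶ W := Over.homMk g rfl
  let A₁ : Over S := Over.mk (pullback.fst h.left g ≫ A.hom)
  let pA : A₁ ⟶ A := Over.homMk (pullback.fst h.left g) rfl
  let pU : A₁ ⟶ U₁ := Over.homMk (pullback.snd h.left g) (by
    show pullback.snd h.left g ≫ g ≫ W.hom = pullback.fst h.left g ≫ A.hom
    rw [← Over.w h, pullback.condition_assoc])
  have sqA : IsPullback ((yon S).map pA) ((yon S).map pU) ((yon S).map h) ((yon S).map gO) :=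
    isPullback_yon_iff.2 (IsPullback.of_hasPullback h.left g)
  let q : (yon S).obj U₁ ⟶ Y := (yon S).map gO ≫ b
  have hqe : RepWith @Etale q := repWith_comp ((repWith_yon_iff (P := @Etale) gO).2 hge) hb
  have hsm : LocP @Smooth q := (locP_iff_repWith etST_smooth hY hqe.1).2
    (repWith_mono (fun _ _ r (hr : Etale r) => inferInstanceAs (Smooth r)) hqe)
  have sX := IsPullback.of_hasPullback f q
  let f₁ := pullback.snd f q
  have hY₁ : IsAlgSpace (pullback f q) := isAlgSpace_of_isPullback_space hY hX (IsAlgSpace.yon_obj U₁) sX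
  have hsep₁ : IsSeparatedMor f₁ := isSeparatedMor_baseChange sX hsep
  let w₁ : (yon S).obj A₁ ⟶ pullback f q := pullback.lift ((yon S).map pA ≫ a) ((yon S).map pU) (by
    rw [Category.assoc, hcomm, reassoc_of% sqA.w])
  have hpA : RepWith @Etale ((yon S).map pA) := (repWith_yon_iff (P := @Etale) pA).2
    (MorphismProperty.of_isPullback (P := @Etale) (IsPullback.of_hasPullback h.left g).flip hge)
  have hw₁ : RepWith @Etale w₁ :=
    repWith_etale_of_comp hY₁ hX (by rw [pullback.lift_fst]; exact repWith_comp hpA ha)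
      (isEtaleMor_of_repWith' (repWith_baseChange sX.flip hqe))
  -- the finite piece
  let Vo : Over S := Over.mk (V.ι ≫ A₁.hom)
  let jV : Vo ⟶ A₁ := Over.homMk V.ι rfl
  let iV : (yon S).obj Vo ⟶ pullback f q := (yon S).map jV ≫ w₁
  have hiVf : iV ≫ f₁ = (yon S).map (jV ≫ pU) := by
    rw [Category.assoc, pullback.lift_snd, Functor.map_comp]
  have hiVe : RepWith @Etale iV :=
    repWith_comp ((repWith_yon_iff (P := @Etale) jV).2 (inferInstanceAs (Etale V.ι))) hw₁
  have hVfin' : RepWith @IsFinite ((yon S).map (jV ≫ pU)) := (repWith_yon_iff (P := @IsFinite) _).2 hVfin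
  have hiVfin : RepWith @IsFinite iV := repWith_finite_of_comp hY₁ iV f₁ hiVf hVfin' hsep₁
  let Zs : Set (Points (pullback f q)) := Set.range (Points.map iV)
  have hZo : IsOpen Zs := by
    have hfl := (isEtaleMor_iff_locP hY₁).1 (isEtaleMor_of_repWith' hiVe)
    have := isOpenMap_map_of_flat_lfp (IsAlgSpace.yon_obj Vo) hY₁ iV
      (fun _ _ a b k ha hb e => etST_flat.of_etale _ (hfl a b k ha hb e))
      (fun _ _ a b k ha hb e => etST_lfp.of_etale _ (hfl a b k ha hb e)) _ isOpen_univ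
    rwa [Set.image_univ] at this
  have hZc : IsClosed Zs := isClosed_range_of_finite (IsAlgSpace.yon_obj Vo) hY₁ hiVfin
  -- the piece is a scheme finite over the chart
  let inc := subInc Zs
  have hincO : RepWith @IsOpenImmersion inc := repWith_subInc hZo
  have hZ : IsAlgSpace (subSheaf Zs) := isAlgSpace_subSheaf hY₁ hZo
  obtain ⟨v₀, hv₀⟩ := exists_factor_subInc (W := Zs) iV fun x => ⟨x, rfl⟩
  haveI : Mono inc := mono_of_repWith_immersion (repWith_mono (P := @IsOpenImmersion) (Q := @IsImmersion)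
    (fun _ _ r (hr : IsOpenImmersion r) => (inferInstance : IsImmersion r)) hincO)
  have hincsep : IsSeparatedMor inc := (isSeparatedMor_iff_repWith hZ hY₁ hincO.1).2
    (repWith_mono (fun _ _ r (hr : IsOpenImmersion r) => (inferInstance : IsSeparated r)) hincO)
  have hv₀e : RepWith @Etale v₀ := repWith_etale_of_comp hZ hY₁ (by rw [hv₀]; exact hiVe)
    (isEtaleMor_of_repWith' (repWith_mono (P := @IsOpenImmersion) (Q := @Etale)
      (fun _ _ r hr => have : IsOpenImmersion r := hr; inferInstance) hincO))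
  have hv₀s : IsSurjectiveMor v₀ := fun z => by
    obtain ⟨x, hx⟩ := map_subInc_mem z
    refine ⟨x, ?_⟩
    obtain ⟨r, h₁, h₂⟩ := exists_point_of_isPullback (IsKernelPair.id_of_mono inc) (Points.map v₀ x) z
      (by rw [← Points.map_comp, hv₀, hx])
    exact h₁.symm.trans h₂
  have hZfin : IsFiniteMor (inc ≫ f₁) :=
    S16833.result (U := ⟨_, IsAlgSpace.yon_obj Vo⟩) (X := ⟨_, hZ⟩) (Y := ⟨_, IsAlgSpace.yon_obj U₁⟩)
      (ObjectProperty.homMk v₀) (ObjectProperty.homMk (inc ≫ f₁)) (isEtaleMor_of_repWith' hv₀e) hv₀s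
      (isSeparatedMor_comp hincsep hsep₁) ((isFiniteMor_iff_repWith _).2 (by
        show RepWith @IsFinite (v₀ ≫ inc ≫ f₁)
        rw [reassoc_of% hv₀, hiVf]; exact hVfin'))
  obtain ⟨W₁, θ, w, sqW, hwfin⟩ := exists_repWith ((isFiniteMor_iff_repWith _).1 hZfin) (𝟙 _)
  haveI : IsIso θ := sqW.isIso_fst_of_isIso
  let iW : (yon S).obj W₁ ⟶ pullback f q := θ ≫ inc
  have hiWf : iW ≫ f₁ = (yon S).map w := by
    rw [Category.assoc]; exact sqW.w.trans (Category.comp_id _)
  have hfac : ∀ {T : Over S} (y : (yon S).obj T ⟶ pullback f q), (∀ t, Points.ofPt y t ∈ Zs) →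
      ∃ l : T ⟶ W₁, (yon S).map l ≫ iW = y := by
    intro T y hy
    obtain ⟨l₀, hl₀⟩ := exists_subInc_lift y hy
    obtain ⟨l, hl⟩ := exists_map_eq (l₀ ≫ inv θ)
    exact ⟨l, by rw [hl, Category.assoc, IsIso.inv_hom_id_assoc, hl₀]⟩
  have hiWmem : ∀ {T : Over S} (l : T ⟶ W₁) t, Points.ofPt ((yon S).map l ≫ iW) t ∈ Zs := fun l t => by
    rw [← Category.assoc]; exact ofPt_subInc_mem _ t
  haveI : Mono iW := mono_comp _ _
  -- the target of the idempotent
  let Q : Over S := Over.mk (coprod.desc W₁.hom U₁.hom)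
  let νQ : Q ⟶ U₁ := Over.homMk (coprod.desc w.left (𝟙 U₁.left))
    (coprod.hom_ext ((coprod.inl_desc_assoc _ _ _).trans ((Over.w w).trans (coprod.inl_desc _ _).symm))
      ((coprod.inr_desc_assoc _ _ _).trans ((Category.id_comp _).trans (coprod.inr_desc _ _).symm)))
  let ql : W₁ ⟶ Q := Over.homMk coprod.inl (coprod.inl_desc _ _)
  let qr : U₁ ⟶ Q := Over.homMk coprod.inr (coprod.inr_desc _ _)
  have hql : ql ≫ νQ = w := Over.OverMorphism.ext (coprod.inl_desc _ _)
  have hqr : qr ≫ νQ = 𝟙 _ := Over.OverMorphism.ext (coprod.inr_desc _ _)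
  haveI : IsFinite w.left := hwfin
  haveI : IsIntegralHom νQ.left := inferInstanceAs (IsIntegralHom (coprod.desc w.left (𝟙 U₁.left)))
  haveI : Mono ql := (Over.forget S).mono_of_mono_map (inferInstanceAs (Mono (coprod.inl (X := W₁.left) (Y := U₁.left))))
  -- the idempotent, on an atlas
  obtain ⟨B, wB, hwBe, hwBs⟩ := hY₁.atlas
  haveI := epi_of_etale_cover wB hwBe hwBs
  let OZ : B.left.Opens := ⟨Points.ofPt wB ⁻¹' Zs, hZo.preimage (Points.continuous_ofPt wB)⟩
  let OC : B.left.Opens := ⟨Points.ofPt wB ⁻¹' Zsᶜ, hZc.isOpen_compl.preimage (Points.continuous_ofPt wB)⟩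
  have hOC : IsCompl OZ OC := by
    constructor
    · rw [disjoint_iff]
      exact TopologicalSpace.Opens.ext (Set.inter_compl_self _)
    · rw [codisjoint_iff]
      exact TopologicalSpace.Opens.ext (Set.union_compl_self _)
  let jZ : Over.mk (OZ.ι ≫ B.hom) ⟶ B := Over.homMk OZ.ι rfl
  let jC : Over.mk (OC.ι ≫ B.hom) ⟶ B := Over.homMk OC.ι rfl
  obtain ⟨lZ, hlZ⟩ := hfac ((yon S).map jZ ≫ wB) (fun t => by
    rw [ofPt_comp]
    exact t.2)
  obtain ⟨fB, hfB⟩ := exists_map_eq (wB ≫ f₁)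
  obtain ⟨hB, hhB₁, hhB₂⟩ := exists_glue_compl OZ OC hOC (lZ ≫ ql) (jC ≫ fB ≫ qr)
  have hBν : hB ≫ νQ = fB := hom_ext_compl OZ OC hOC
    (by
      rw [reassoc_of% hhB₁, hql]
      exact (yon S).map_injective (by
        rw [Functor.map_comp, Functor.map_comp, hfB, ← hiWf, reassoc_of% hlZ]))
    (by rw [reassoc_of% hhB₂, hqr, Category.comp_id])
  -- descent of the idempotent
  have hBval : ∀ {T : Over S} (c : T ⟶ B),
      ((∀ t, Points.ofPt ((yon S).map c ≫ wB) t ∈ Zs) →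
        ∃ l : T ⟶ W₁, (yon S).map l ≫ iW = (yon S).map c ≫ wB ∧ c ≫ hB = l ≫ ql) ∧
      ((∀ t, Points.ofPt ((yon S).map c ≫ wB) t ∉ Zs) → c ≫ hB = c ≫ fB ≫ qr) := by
    intro T c
    have fact : ∀ (O : B.left.Opens), (∀ t, c.left t ∈ O) →
        ∃ c₀ : T ⟶ Over.mk (O.ι ≫ B.hom), c₀ ≫ (Over.homMk O.ι rfl : Over.mk (O.ι ≫ B.hom) ⟶ B) = c := by
      intro O hO
      have hr : Set.range c.left ⊆ Set.range O.ι := by
        rintro _ ⟨t, rfl⟩
        rw [Scheme.Opens.range_ι]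
        exact hO t
      refine ⟨Over.homMk (IsOpenImmersion.lift O.ι c.left hr) ?_, Over.OverMorphism.ext
        (IsOpenImmersion.lift_fac _ _ _)⟩
      show _ ≫ O.ι ≫ B.hom = T.hom
      rw [IsOpenImmersion.lift_fac_assoc, Over.w c]
    constructor
    · intro hc
      obtain ⟨c₀, rfl⟩ := fact OZ fun t => by
        have := hc t
        rwa [ofPt_comp] at this
      exact ⟨c₀ ≫ lZ, by rw [Functor.map_comp, Category.assoc, hlZ, Functor.map_comp, Category.assoc],
        by rw [Category.assoc, hhB₁, Category.assoc]⟩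
    · intro hc
      obtain ⟨c₀, rfl⟩ := fact OC fun t => by
        have := hc t
        rw [ofPt_comp] at this
        exact this
      simp only [Category.assoc]
      rw [hhB₂]
  obtain ⟨hh, hhh, -⟩ := exists_desc_epi wB ((yon S).map hB) (by
    obtain ⟨R, r₁, r₂, sqR⟩ := exists_pullback hY₁.diag wB wB
    have hR : r₁ ≫ hB = r₂ ≫ hB := by
      let y := (yon S).map r₁ ≫ wB
      let O₁ : R.left.Opens := ⟨Points.ofPt y ⁻¹' Zs, hZo.preimage (Points.continuous_ofPt y)⟩
      let O₂ : R.left.Opens := ⟨Points.ofPt y ⁻¹' Zsᶜ, hZc.isOpen_compl.preimage (Points.continuous_ofPt y)⟩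
      have hc : IsCompl O₁ O₂ := by
        constructor
        · rw [disjoint_iff]; exact TopologicalSpace.Opens.ext (Set.inter_compl_self _)
        · rw [codisjoint_iff]; exact TopologicalSpace.Opens.ext (Set.union_compl_self _)
      refine hom_ext_compl O₁ O₂ hc ?_ ?_
      · let j : Over.mk (O₁.ι ≫ R.hom) ⟶ R := Over.homMk O₁.ι rfl
        show j ≫ r₁ ≫ hB = j ≫ r₂ ≫ hB
        have hm : ∀ t, Points.ofPt ((yon S).map (j ≫ r₁) ≫ wB) t ∈ Zs := fun t => by
          rw [Functor.map_comp, Category.assoc, ofPt_comp]; exact t.2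
        have hm' : ∀ t, Points.ofPt ((yon S).map (j ≫ r₂) ≫ wB) t ∈ Zs := fun t => by
          rw [Functor.map_comp, Category.assoc, ← sqR.w, ← Category.assoc, ← Functor.map_comp]; exact hm t
        obtain ⟨l, hl, el⟩ := (hBval (j ≫ r₁)).1 hm
        obtain ⟨l', hl', el'⟩ := (hBval (j ≫ r₂)).1 hm'
        rw [← Category.assoc, el, ← Category.assoc, el', (yon S).map_injective ((cancel_mono iW).1 (hl.trans
          (Eq.trans (by rw [Functor.map_comp, Functor.map_comp, Category.assoc, Category.assoc, sqR.w]) hl'.symm)))]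
      · let j : Over.mk (O₂.ι ≫ R.hom) ⟶ R := Over.homMk O₂.ι rfl
        show j ≫ r₁ ≫ hB = j ≫ r₂ ≫ hB
        have hm : ∀ t, Points.ofPt ((yon S).map (j ≫ r₁) ≫ wB) t ∉ Zs := fun t => by
          rw [Functor.map_comp, Category.assoc, ofPt_comp]; exact t.2
        have hm' : ∀ t, Points.ofPt ((yon S).map (j ≫ r₂) ≫ wB) t ∉ Zs := fun t => by
          rw [Functor.map_comp, Category.assoc, ← sqR.w, ← Category.assoc, ← Functor.map_comp]; exact hm t
        rw [← Category.assoc, (hBval (j ≫ r₁)).2 hm, ← Category.assoc j r₂, (hBval (j ≫ r₂)).2 hm']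
        have hf12 : r₁ ≫ fB = r₂ ≫ fB := (yon S).map_injective (by
          rw [Functor.map_comp, Functor.map_comp, hfB, reassoc_of% sqR.w])
        simp only [Category.assoc, reassoc_of% hf12]
    refine (cancel_epi sqR.isoPullback.hom).1 ?_
    rw [sqR.isoPullback_hom_fst_assoc, sqR.isoPullback_hom_snd_assoc, ← Functor.map_comp, ← Functor.map_comp, hR])
  have hhν : hh ≫ (yon S).map νQ = f₁ := by
    rw [← cancel_epi wB, reassoc_of% hhh, ← Functor.map_comp, hBν, hfB]
  have hiWh : iW ≫ hh = (yon S).map ql := by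
    obtain ⟨D, d₁, d₂, sqD⟩ := exists_pullback hY₁.diag iW wB
    haveI := epi_of_etale_cover ((yon S).map d₁) (repWith_baseChange sqD.flip hwBe) (repWith_baseChange sqD.flip hwBs)
    obtain ⟨l, hl, el⟩ := (hBval d₂).1 fun t => by rw [← sqD.w]; exact hiWmem d₁ t
    rw [← cancel_epi ((yon S).map d₁), reassoc_of% sqD.w, hhh, ← Functor.map_comp, el,
      (yon S).map_injective ((cancel_mono iW).1 (sqD.w.trans hl.symm)), Functor.map_comp]
  -- the normalization over the chart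
  obtain ⟨N, πN, νN, sN, -⟩ := exists_repWith hν q
  have hπNe : RepWith @Etale πN := repWith_baseChange sN.flip hqe
  let g₁ : pullback f q ⟶ (yon S).obj N :=
    sN.lift (pullback.fst f q ≫ f') f₁ (by rw [Category.assoc, hn.1, pullback.condition])
  have hn₁ := isRelNormalization_baseChange hY (IsAlgSpace.yon_obj U₁) hX hY' sX hft.2 hqs hsm hn sN g₁
    (sN.lift_snd _ _ _) (sN.lift_fst _ _ _)
  have sQ : IsIntegralMor ((yon S).map νQ) :=
    (isIntegralMor_iff_repWith _).2 ((repWith_yon_iff (P := @IsIntegralHom) νQ).2 ‹_›)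
  obtain ⟨k, ⟨hk₁, hk₂⟩, -⟩ := hn₁.2.2 (IsAlgSpace.yon_obj Q) _ hh sQ hhν
  obtain ⟨k, rfl⟩ := exists_map_eq k
  let N₁ : N.left.Opens := k.left ⁻¹ᵁ (coprod.inl : W₁.left ⟶ W₁.left ⨿ U₁.left).opensRange
  let N₂ : N.left.Opens := k.left ⁻¹ᵁ (coprod.inr : U₁.left ⟶ W₁.left ⨿ U₁.left).opensRange
  have hN₁₂ : IsCompl N₁ N₂ := by
    obtain ⟨h₁, h₂⟩ := isCompl_range_inl_inr W₁.left U₁.left
    constructor
    · rw [disjoint_iff]
      refine TopologicalSpace.Opens.ext ?_
      exact Set.disjoint_iff_inter_eq_empty.1 (h₁.preimage k.left)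
    · rw [codisjoint_iff]
      refine TopologicalSpace.Opens.ext ?_
      exact (congrArg (fun s => k.left ⁻¹' s) (codisjoint_iff.1 h₂)).trans Set.preimage_univ
  let T : Over S := Over.mk (N₁.ι ≫ N.hom)
  let ιT : T ⟶ N := Over.homMk N₁.ι rfl
  obtain ⟨κ, hκ⟩ : ∃ κ : T ⟶ W₁, κ ≫ ql = ιT ≫ k := by
    have hr : Set.range (N₁.ι ≫ k.left) ⊆ Set.range (coprod.inl : W₁.left ⟶ W₁.left ⨿ U₁.left) := by
      rintro _ ⟨t, rfl⟩
      exact t.2
    refine ⟨Over.homMk (IsOpenImmersion.lift _ _ hr) ?_, Over.OverMorphism.ext (IsOpenImmersion.lift_fac _ _ _)⟩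
    show _ ≫ W₁.hom = N₁.ι ≫ N.hom
    rw [← Over.w k, ← Category.assoc N₁.ι k.left]
    conv_rhs => rw [← IsOpenImmersion.lift_fac _ _ hr, Category.assoc]
    exact congrArg _ (coprod.inl_desc W₁.hom U₁.hom).symm
  obtain ⟨gW, hgW⟩ := exists_map_eq (iW ≫ g₁)
  -- the section
  obtain ⟨Φ, hΦ₁, hΦ₂⟩ := exists_glue_compl N₁ N₂ hN₁₂ (κ ≫ gW) (Over.homMk N₂.ι rfl : Over.mk (N₂.ι ≫ N.hom) ⟶ N)
  have hgWν : gW ≫ νN = w := (yon S).map_injective (by
    rw [Functor.map_comp, hgW, Category.assoc, sN.lift_snd, hiWf])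
  have hgWk : gW ≫ k = ql := (yon S).map_injective (by
    rw [Functor.map_comp, hgW, Category.assoc, hk₁, hiWh])
  have hkν : k ≫ νQ = νN := (yon S).map_injective (by rw [Functor.map_comp, hk₂])
  have hΦν : Φ ≫ νN = νN := hom_ext_compl N₁ N₂ hN₁₂
    (by
      rw [reassoc_of% hΦ₁, hgWν]
      calc κ ≫ w = κ ≫ ql ≫ νQ := by rw [hql]
        _ = ιT ≫ νN := by rw [reassoc_of% hκ, hkν])
    (by rw [reassoc_of% hΦ₂])
  obtain ⟨gB, hgB⟩ := exists_map_eq (wB ≫ g₁)
  have hgBk : gB ≫ k = hB := (yon S).map_injective (by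
    rw [Functor.map_comp, hgB, Category.assoc, hk₁, hhh])
  have hΦg : gB ≫ Φ = gB := by
    refine hom_ext_compl OZ OC hOC ?_ ?_
    · show jZ ≫ gB ≫ Φ = jZ ≫ gB
      have e : jZ ≫ gB = lZ ≫ gW := (yon S).map_injective (by
        rw [Functor.map_comp, Functor.map_comp, hgB, hgW, ← reassoc_of% hlZ])
      have e' : gW ≫ Φ = gW := by
        have hr : Set.range gW.left ⊆ Set.range N₁.ι := by
          rintro _ ⟨t, rfl⟩
          rw [Scheme.Opens.range_ι]
          refine ⟨t, ?_⟩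
          exact (congrArg (fun r : W₁.left ⟶ W₁.left ⨿ U₁.left => r t) (congrArg CommaMorphism.left hgWk)).symm
        let g₀ : W₁ ⟶ T := Over.homMk (IsOpenImmersion.lift N₁.ι gW.left hr) (by
          show _ ≫ N₁.ι ≫ N.hom = W₁.hom
          rw [IsOpenImmersion.lift_fac_assoc, Over.w gW])
        have hg₀ : g₀ ≫ ιT = gW := Over.OverMorphism.ext (IsOpenImmersion.lift_fac _ _ _)
        have hg₀κ : g₀ ≫ κ = 𝟙 _ := (cancel_mono ql).1 (by
          rw [Category.assoc, hκ, reassoc_of% hg₀, hgWk, Category.id_comp])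
        rw [← hg₀, Category.assoc, hΦ₁, reassoc_of% hg₀κ, hg₀]
      rw [reassoc_of% e, e', e]
    · show jC ≫ gB ≫ Φ = jC ≫ gB
      have hr : Set.range (jC ≫ gB).left ⊆ Set.range N₂.ι := by
        rintro _ ⟨t, rfl⟩
        rw [Scheme.Opens.range_ι]
        refine ⟨(jC ≫ fB).left t, ?_⟩
        have e : jC ≫ gB ≫ k = (jC ≫ fB) ≫ qr := by rw [hgBk, hhB₂, Category.assoc]
        exact (congrArg (fun r : _ ⟶ W₁.left ⨿ U₁.left => r t) (congrArg CommaMorphism.left e)).symm
      let g₀ : Over.mk (OC.ι ≫ B.hom) ⟶ Over.mk (N₂.ι ≫ N.hom) :=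
        Over.homMk (IsOpenImmersion.lift N₂.ι (jC ≫ gB).left hr) (by
          show _ ≫ N₂.ι ≫ N.hom = OC.ι ≫ B.hom
          rw [IsOpenImmersion.lift_fac_assoc, Over.w (jC ≫ gB)]
          rfl)
      have hg₀ : g₀ ≫ (Over.homMk N₂.ι rfl : Over.mk (N₂.ι ≫ N.hom) ⟶ N) = jC ≫ gB :=
        Over.OverMorphism.ext (IsOpenImmersion.lift_fac _ _ _)
      rw [← Category.assoc, ← hg₀, Category.assoc, hΦ₂]
  have hΦid : Φ = 𝟙 N := (yon S).map_injective
    ((hn₁.2.2 (IsAlgSpace.yon_obj N) _ g₁ hn₁.2.1 hn₁.1).unique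
      ⟨by rw [← cancel_epi wB, reassoc_of% hgB.symm, ← Functor.map_comp, hΦg, hgB], by rw [← Functor.map_comp, hΦν]⟩
      ⟨by rw [CategoryTheory.Functor.map_id, Category.comp_id],
        by rw [CategoryTheory.Functor.map_id, Category.id_comp]⟩)
  have hκg : κ ≫ gW = ιT := by rw [← hΦ₁, hΦid, Category.comp_id]
  let σ : (yon S).obj T ⟶ pullback f q := (yon S).map κ ≫ iW
  have hσ : σ ≫ g₁ = (yon S).map ιT := by rw [Category.assoc, ← hgW, ← Functor.map_comp, hκg]
  -- the cartesian square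
  have sT : IsPullback σ (𝟙 _) g₁ ((yon S).map ιT) := by
    refine isPullback_of_points (by rw [hσ, Category.id_comp]) fun T' y n hyn => ?_
    obtain ⟨n, rfl⟩ := exists_map_eq n
    refine ⟨(yon S).map n, ⟨?_, Category.comp_id _⟩, fun c hc => by rw [← hc.2, Category.comp_id]⟩
    have hmem : ∀ t, Points.ofPt y t ∈ Zs := fun t => by
      by_contra hnot
      obtain ⟨bb, hbb⟩ := ofPt_surjective hwBs (Points.ofPt y t)
      have hbC : bb ∈ OC := by
        show Points.ofPt wB bb ∈ Zsᶜ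
        rw [hbb]; exact hnot
      have e₁ : Points.ofPt (y ≫ hh) t = Points.ofPt (wB ≫ hh) bb := by
        rw [← Points.map_ofPt, ← Points.map_ofPt, hbb]
      rw [← hk₁, reassoc_of% hyn, hk₁, hhh, ← Functor.map_comp, ← Functor.map_comp, ← Category.assoc,
        ← Category.comp_id ((yon S).map (_ ≫ k)), ← Category.comp_id ((yon S).map hB), ofPt_comp, ofPt_comp] at e₁
      have e₂ : ((n ≫ ιT) ≫ k).left t = hB.left bb := (Points.schemeEquiv Q).injective e₁
      have h₁ : ((n ≫ ιT) ≫ k).left t ∈ Set.range (coprod.inl : W₁.left ⟶ W₁.left ⨿ U₁.left) :=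
        (n.left t).2
      have h₂ : hB.left bb ∈ Set.range (coprod.inr : U₁.left ⟶ W₁.left ⨿ U₁.left) :=
        ⟨(jC ≫ fB).left (⟨bb, hbC⟩ : ↥OC), (congrArg (fun r : OC.toScheme ⟶ W₁.left ⨿ U₁.left => r ⟨bb, hbC⟩)
          (congrArg CommaMorphism.left (hhB₂.trans (Category.assoc _ _ _).symm))).symm⟩
      rw [e₂] at h₁
      exact Set.disjoint_iff_forall_ne.mp (isCompl_range_inl_inr W₁.left U₁.left).1 h₁ h₂ rfl
    obtain ⟨l, hl⟩ := hfac y hmem
    have : l = n ≫ κ := (cancel_mono ql).1 ((yon S).map_injective (by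
      rw [Functor.map_comp, ← hiWh, reassoc_of% hl, ← hk₁, reassoc_of% hyn, ← Functor.map_comp, ← Functor.map_comp,
        Category.assoc, hκ]))
    rw [← hl, this, Functor.map_comp, Category.assoc]
  have sg : IsPullback (pullback.fst f q) g₁ f' πN := by
    refine IsPullback.of_bot ?_ (sN.lift_fst _ _ _).symm sN
    rw [hn.1, sN.lift_snd]
    exact sX
  have sE := sT.paste_horiz sg
  let e : (yon S).obj T ⟶ Y' := (yon S).map ιT ≫ πN
  obtain ⟨lv, hlv⟩ := hfac iV fun t => ⟨Points.ofScheme Vo t, (Points.ofPt_eq_map_ofScheme iV t).symm⟩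
  have hr : Set.range (lv ≫ gW).left ⊆ Set.range N₁.ι := by
    rintro _ ⟨t, rfl⟩
    rw [Scheme.Opens.range_ι]
    refine ⟨lv.left t, ?_⟩
    exact (congrArg (fun r : W₁.left ⟶ W₁.left ⨿ U₁.left => r (lv.left t)) (congrArg CommaMorphism.left hgWk)).symm
  refine ⟨T, e, IsOpenImmersion.lift N₁.ι (lv ≫ gW).left hr v,
    repWith_comp ((repWith_yon_iff (P := @Etale) ιT).2 (inferInstanceAs (Etale N₁.ι))) hπNe, ?_, ?_⟩
  · have e₁ : Points.ofPt (a ≫ f') u = Points.ofPt ((yon S).map (jV ≫ pA) ≫ a ≫ f') v := by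
      rw [ofPt_comp ((jV ≫ pA))]
      exact congrArg _ hvu.symm
    have e₂ : (yon S).map (jV ≫ pA) ≫ a ≫ f' = (yon S).map (lv ≫ gW) ≫ πN := by
      rw [(yon S).map_comp lv gW, hgW]; simp only [Category.assoc]; rw [reassoc_of% hlv, sN.lift_fst, Category.assoc,
        pullback.lift_fst_assoc, Functor.map_comp, Category.assoc, Category.assoc]
    rw [e₁, e₂, ofPt_comp, ofPt_comp]
    congr 1
    exact congrArg (fun r : Vo.left ⟶ N.left => r v) (IsOpenImmersion.lift_fac N₁.ι (lv ≫ gW).left hr)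
  · rw [← sE.isoPullback_inv_snd]
    infer_instance

end Groth.Agent.RelNorm

end
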