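import Groth.Agent.RelNorm.QFLocal
import Groth.Agent.AlgSpLib.SourceDesc

/-!
# The open subspace over which the map to the normalization is an isomorphism
-/

set_option autoImplicit false
set_option backward.isDefEq.respectTransparency false
set_option backward.isDefEq.respectTransparency.types false
set_option linter.style.haveILetI false
universe u

open CategoryTheory CategoryTheory.Limits AlgebraicGeometry

noncomputable section

namespace Groth.Agent.RelNorm

open _root_.AlgSp Groth.Agent.AlgSpLib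

variable {S : Scheme.{u}}

theorem isIso_pullback_snd_comp {F G : Sp S} (f : F ⟶ G) {T R : Sp S} (e : T ⟶ G) (h : R ⟶ T)
    [IsIso (pullback.snd f e)] : IsIso (pullback.snd f (h ≫ e)) := by
  let l : pullback f (h ≫ e) ⟶ pullback f e := pullback.lift (pullback.fst _ _) (pullback.snd _ _ ≫ h)
    (by rw [Category.assoc, pullback.condition])
  have sq : IsPullback l (pullback.snd f (h ≫ e)) (pullback.snd f e) h := by
    refine IsPullback.of_right ?_ (pullback.lift_snd _ _ _) (IsPullback.of_hasPullback f e)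
    rw [pullback.lift_fst]
    exact IsPullback.of_hasPullback f (h ≫ e)
  exact MorphismProperty.of_isPullback (P := MorphismProperty.isomorphisms (Sp S)) sq ‹IsIso (pullback.snd f e)›

/-- being an isomorphism is etale local on the target -/
theorem isIso_snd_of_local {F G Z P : Sp S} (f : F ⟶ G) (j : Z ⟶ G) {fst : P ⟶ F} {snd : P ⟶ Z}
    (sq : IsPullback fst snd f j)
    (hloc : ∀ ⦃T : Over S⦄ (ξ : (yon S).obj T ⟶ Z) (t : T.left), ∃ (T' : Over S) (g : T' ⟶ T),
      Etale g.left ∧ t ∈ Set.range g.left ∧ IsIso (pullback.snd f (((yon S).map g ≫ ξ) ≫ j))) : IsIso snd := by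
  haveI : Mono snd := mono_of_points snd fun T a b e => by
    choose T' g hg hgt hiso using fun t => hloc (a ≫ snd) t
    have hR : Presieve.ofArrows (fun t => (T' t).left) (fun t => (g t).left) ∈
        Scheme.fppfPrecoverage T.left := by
      rw [Scheme.fppfPrecoverage, Scheme.ofArrows_mem_precoverage_iff]
      exact ⟨fun t => ⟨t, hgt t⟩, fun t => flat_lfp_of_etale _ (hg t)⟩
    refine hom_ext_cover hR ?_
    rintro _ _ ⟨t⟩
    haveI := hiso t
    let e₀ : Over.mk ((g t).left ≫ T.hom) ⟶ T' t := Over.homMk (𝟙 _)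
      ((Category.id_comp _).trans (Over.w (g t)).symm)
    have he₀ : (Over.homMk (g t).left rfl : Over.mk ((g t).left ≫ T.hom) ⟶ T) = e₀ ≫ g t :=
      Over.OverMorphism.ext (Category.id_comp _).symm
    rw [he₀, Functor.map_comp, Category.assoc, Category.assoc]
    congr 1
    refine sq.hom_ext ?_ (by rw [Category.assoc, Category.assoc, e])
    let c : ∀ x : (yon S).obj T ⟶ P, x ≫ snd = a ≫ snd → ((yon S).obj (T' t) ⟶
        pullback f (((yon S).map (g t) ≫ a ≫ snd) ≫ j)) := fun x hx =>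
      pullback.lift ((yon S).map (g t) ≫ x ≫ fst) (𝟙 _) (by
        simp only [Category.assoc, Category.id_comp]
        rw [sq.w, reassoc_of% hx])
    have : c a rfl = c b e.symm :=
      (cancel_mono (pullback.snd f (((yon S).map (g t) ≫ a ≫ snd) ≫ j))).1 (by simp [c])
    simpa [c] using congrArg (fun k => k ≫ pullback.fst _ _) this
  haveI : Sheaf.IsLocallySurjective snd := Bootstrap.isLocallySurjective_of_lifts snd fun T ξ => by
    choose T' g hg hgt hiso using fun t => hloc ξ t
    have hl : ∀ t, ∃ l : (yon S).obj (Over.mk ((g t).left ≫ T.hom)) ⟶ P,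
        l ≫ snd = (yon S).map (Over.homMk (g t).left rfl : Over.mk ((g t).left ≫ T.hom) ⟶ T) ≫ ξ := fun t => by
      haveI := hiso t
      let x := inv (pullback.snd f (((yon S).map (g t) ≫ ξ) ≫ j)) ≫ pullback.fst _ _
      let e₀ : Over.mk ((g t).left ≫ T.hom) ⟶ T' t := Over.homMk (𝟙 _)
        ((Category.id_comp _).trans (Over.w (g t)).symm)
      have he₀ : (Over.homMk (g t).left rfl : Over.mk ((g t).left ≫ T.hom) ⟶ T) = e₀ ≫ g t :=
        Over.OverMorphism.ext (Category.id_comp _).symm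
      refine ⟨(yon S).map e₀ ≫ sq.lift x ((yon S).map (g t) ≫ ξ) ?_, ?_⟩
      · rw [Category.assoc, pullback.condition, IsIso.inv_hom_id_assoc]
      · rw [Category.assoc, sq.lift_snd, he₀, Functor.map_comp, Category.assoc]
    choose l hl using hl
    obtain ⟨L, hL⟩ := exists_sigma_hom (fun t => (g t).left ≫ T.hom) l
    let G₀ : Over.mk (Sigma.desc fun t => (g t).left ≫ T.hom) ⟶ T :=
      Over.homMk (Sigma.desc fun t => (g t).left) (Sigma.hom_ext _ _ fun t =>
        (Sigma.ι_desc_assoc _ _ _).trans (Sigma.ι_desc (fun t => (g t).left ≫ T.hom) t).symm)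
    have hι : ∀ t, Sigma.ι (fun t => (T' t).left) t ≫ G₀.left = (g t).left := fun t => Sigma.ι_desc _ _
    have hG : Etale G₀.left := (IsZariskiLocalAtSource.iff_of_openCover (P := @Etale)
      (sigmaOpenCover fun t => (T' t).left)).2 fun t => by
        rw [show (sigmaOpenCover fun t => (T' t).left).f t = Sigma.ι (fun t => (T' t).left) t from rfl, hι]
        exact hg t
    refine ⟨_, G₀, L, (flat_lfp_of_etale _ hG).1, ⟨fun x => ?_⟩, (flat_lfp_of_etale _ hG).2, ?_⟩
    · obtain ⟨z, hz⟩ := hgt x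
      exact ⟨Sigma.ι (fun t => (T' t).left) x z, (congr($(hι x) z)).trans hz⟩
    · refine hom_ext_cover (R := Presieve.ofArrows (fun t => (T' t).left) (Sigma.ι fun t => (T' t).left))
        (Scheme.zariskiPrecoverage_le_fppfPrecoverage _ (sigmaOpenCover fun t => (T' t).left).mem₀) ?_
      rintro _ _ ⟨t⟩
      let e : Over.mk (Sigma.ι (fun t => (T' t).left) t ≫ Sigma.desc fun t => (g t).left ≫ T.hom) ⟶
          Over.mk ((g t).left ≫ T.hom) :=
        Over.homMk (𝟙 _) ((Category.id_comp _).trans (Sigma.ι_desc (fun t => (g t).left ≫ T.hom) t).symm)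
      have he : (Over.homMk (Sigma.ι (fun t => (T' t).left) t) rfl :
          Over.mk (Sigma.ι (fun t => (T' t).left) t ≫ Sigma.desc fun t => (g t).left ≫ T.hom) ⟶
            Over.mk (Sigma.desc fun t => (g t).left ≫ T.hom)) =
          e ≫ (Over.homMk (Sigma.ι (fun t => (T' t).left) t) (Sigma.ι_desc (fun t => (g t).left ≫ T.hom) t) :
            Over.mk ((g t).left ≫ T.hom) ⟶ Over.mk (Sigma.desc fun t => (g t).left ≫ T.hom)) :=
        Over.OverMorphism.ext (Category.id_comp _).symm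
      have hG₀ : (Over.homMk (Sigma.ι (fun t => (T' t).left) t) (Sigma.ι_desc (fun t => (g t).left ≫ T.hom) t) :
            Over.mk ((g t).left ≫ T.hom) ⟶ Over.mk (Sigma.desc fun t => (g t).left ≫ T.hom)) ≫ G₀ =
          (Over.homMk (g t).left rfl : Over.mk ((g t).left ≫ T.hom) ⟶ T) := Over.OverMorphism.ext (hι t)
      rw [he, Functor.map_comp, Category.assoc, Category.assoc]
      congr 1
      rw [reassoc_of% hL t, hl, ← Functor.map_comp_assoc, hG₀]
  exact isIso_of_mono_of_epi snd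

/-- a scheme which is etale over an open of an integral scheme and of finite type over the base is
quasi-finite over it -/
theorem exists_lqf_nhd {R M U : Scheme.{u}} (r : R ⟶ M) [Etale r] (ν : M ⟶ U) [IsIntegralHom ν]
    [LocallyOfFiniteType (r ≫ ν)] (x : R) : ∃ W : R.Opens, x ∈ W ∧ LocallyQuasiFinite (W.ι ≫ r ≫ ν) := by
  let M₀ : M.Opens := ⟨Set.range r, r.isOpenMap.isOpen_range⟩
  let r₀ : R ⟶ M₀ := IsOpenImmersion.lift M₀.ι r (by rw [Scheme.Opens.range_ι]; rfl)
  have hr₀ : r₀ ≫ M₀.ι = r := IsOpenImmersion.lift_fac _ _ _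
  haveI : Surjective r₀ := ⟨fun y => by
    obtain ⟨z, hz⟩ := y.2
    refine ⟨z, M₀.ι.isOpenEmbedding.injective ?_⟩
    rw [← Scheme.Hom.comp_apply, hr₀]
    exact hz⟩
  haveI : Etale (r₀ ≫ M₀.ι) := by rw [hr₀]; infer_instance
  haveI : Etale r₀ := Etale.of_comp r₀ M₀.ι
  haveI : LocallyOfFiniteType (r₀ ≫ M₀.ι ≫ ν) := by rw [reassoc_of% hr₀]; infer_instance
  haveI hlft : LocallyOfFiniteType (M₀.ι ≫ ν) := SrcDesc.lft r₀ (M₀.ι ≫ ν)
  obtain ⟨_, ⟨O, hO, rfl⟩, hxO, -⟩ := U.isBasis_affineOpens.exists_subset_of_mem_open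
    (Set.mem_univ (ν (r x))) isOpen_univ
  have hV : IsAffineOpen (ν ⁻¹ᵁ O) := hO.preimage ν
  obtain ⟨s, hsle, hxs⟩ := hV.exists_basicOpen_le (V := M₀) ⟨r x, ⟨x, rfl⟩⟩ hxO
  have hD : IsAffineOpen (M.basicOpen s) := hV.basicOpen s
  have hle : M.basicOpen s ≤ ν ⁻¹ᵁ O := M.basicOpen_le s
  have hfac : hD.isoSpec.hom ≫ Spec.map (ν.appLE O (M.basicOpen s) hle) ≫ hO.fromSpec =
      (M.basicOpen s).ι ≫ ν := by
    rw [IsAffineOpen.SpecMap_appLE_fromSpec ν hO hD hle, hD.isoSpec_hom_fromSpec_assoc]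
  haveI : LocallyOfFiniteType ((M.basicOpen s).ι ≫ ν) := by
    rw [← Scheme.homOfLE_ι M hsle, Category.assoc]
    infer_instance
  have hft : (ν.appLE O (M.basicOpen s) hle).hom.FiniteType := by
    have : LocallyOfFiniteType (hD.isoSpec.hom ≫ Spec.map (ν.appLE O (M.basicOpen s) hle) ≫ hO.fromSpec) := by
      rw [hfac]; infer_instance
    have h₂ : LocallyOfFiniteType (Spec.map (ν.appLE O (M.basicOpen s) hle) ≫ hO.fromSpec) :=
      (MorphismProperty.cancel_left_of_respectsIso (P := @LocallyOfFiniteType) _ _).1 this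
    haveI := h₂
    exact HasRingHomProperty.Spec_iff.1 (locallyOfFiniteType_of_comp _ hO.fromSpec)
  have hint : (ν.app O).hom.IsIntegral := IsIntegralHom.isIntegral_app (f := ν) O hO
  have hq : (ν.appLE O (M.basicOpen s) hle).hom.QuasiFinite := by
    letI := (ν.app O).hom.toAlgebra
    letI := (ν.appLE O (M.basicOpen s) hle).hom.toAlgebra
    haveI : IsLocalization.Away s Γ(M, M.basicOpen s) := hV.isLocalization_basicOpen s
    haveI : IsScalarTower Γ(U, O) Γ(M, ν ⁻¹ᵁ O) Γ(M, M.basicOpen s) := IsScalarTower.of_algebraMap_eq fun z => by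
      rfl
    haveI : Algebra.IsIntegral Γ(U, O) Γ(M, ν ⁻¹ᵁ O) := ⟨hint⟩
    haveI : Algebra.FiniteType Γ(U, O) Γ(M, M.basicOpen s) := hft
    exact Algebra.QuasiFinite.of_isIntegral_of_finiteType (S := Γ(M, ν ⁻¹ᵁ O)) s
  haveI : LocallyQuasiFinite ((M.basicOpen s).ι ≫ ν) := by
    haveI : LocallyQuasiFinite (Spec.map (ν.appLE O (M.basicOpen s) hle)) := HasRingHomProperty.Spec_iff.2 hq
    rw [← hfac]; infer_instance
  refine ⟨r ⁻¹ᵁ M.basicOpen s, hxs, ?_⟩
  haveI : Etale (r ∣_ M.basicOpen s) := IsZariskiLocalAtTarget.restrict ‹Etale r› _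
  haveI : LocallyQuasiFinite (r ∣_ M.basicOpen s) := FpqcDescent.locallyQuasiFinite_of_etale _
  rw [← morphismRestrict_ι_assoc]
  infer_instance

/-- the open subspace of the normalization over the quasi-finite locus -/
theorem exists_qfLocus_subspace {X Y Y' : Sp S} (hX : IsAlgSpace X) (hY : IsAlgSpace Y) (hY' : IsAlgSpace Y')
    {f : X ⟶ Y} (hft : IsFiniteTypeMor f) (hsep : IsSeparatedMor f) {ν : Y' ⟶ Y} {f' : X ⟶ Y'}
    (hn : IsRelNormalization f ν f') :
    ∃ (G : Set (Points Y')) (_ : IsOpen G), ∀ ⦃P : Sp S⦄ (fst : P ⟶ X) (snd : P ⟶ subSheaf G),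
      IsPullback fst snd f' (subInc G) → IsIso snd ∧
        Set.range (Points.map fst) = {x | HasAtMor (fun U _ h u => ∃ W : U.Opens, u ∈ W ∧
          LocallyQuasiFinite (W.ι ≫ h) ∧ LocallyOfFiniteType (W.ι ≫ h)) f x} := by
  let G : Set (Points Y') := {y | ∃ (T : Over S) (e : (yon S).obj T ⟶ Y') (t : T.left),
    RepWith @Etale e ∧ Points.ofPt e t = y ∧ IsIso (pullback.snd f' e)}
  have hG : IsOpen G := by
    refine isOpen_iff_forall_mem_open.2 fun y => ?_
    rintro ⟨T, e, t, he, rfl, hiso⟩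
    refine ⟨Set.range (Points.ofPt e), ?_, ?_, ⟨t, rfl⟩⟩
    · rintro _ ⟨t', rfl⟩
      exact ⟨T, e, t', he, rfl, hiso⟩
    · have hfl := (isEtaleMor_iff_locP hY').1 (isEtaleMor_of_repWith' he)
      have := isOpenMap_map_of_flat_lfp (IsAlgSpace.yon_obj T) hY' e
        (fun _ _ a b k ha hb c => etST_flat.of_etale _ (hfl a b k ha hb c))
        (fun _ _ a b k ha hb c => etST_lfp.of_etale _ (hfl a b k ha hb c)) _ isOpen_univ
      rw [Set.image_univ] at this
      convert this using 1
      ext z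
      constructor
      · rintro ⟨t', rfl⟩; exact ⟨Points.ofScheme T t', (Points.ofPt_eq_map_ofScheme e t').symm⟩
      · rintro ⟨p, rfl⟩
        obtain ⟨t', rfl⟩ := (Points.schemeEquiv T).surjective p
        exact ⟨t', Points.ofPt_eq_map_ofScheme e t'⟩
  have hν := (isIntegralMor_iff_repWith ν).1 hn.2.1
  refine ⟨G, hG, fun P fst snd sq => ⟨?_, ?_⟩⟩
  · refine isIso_snd_of_local f' (subInc G) sq fun T ξ t => ?_
    have hy : Points.ofPt (ξ ≫ subInc G) t ∈ G := ofPt_subInc_mem ξ t
    obtain ⟨T₀, e, t₀, he, het, hiso⟩ := hy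
    obtain ⟨R, r₁, r₂, sqR⟩ := exists_pullback hY'.diag (ξ ≫ subInc G) e
    haveI : Etale r₁.left := (repWith_yon_iff r₁).1 (repWith_baseChange sqR.flip he)
    obtain ⟨w, hw₁, -⟩ := (ofPt_eq_iff sqR t t₀).1 het.symm
    refine ⟨R, r₁, ‹_›, ⟨w, hw₁⟩, ?_⟩
    have key : ∀ {k : (yon S).obj R ⟶ Y'}, k = (yon S).map r₂ ≫ e → IsIso (pullback.snd f' k) := by
      rintro k rfl
      exact isIso_pullback_snd_comp f' e _
    exact key ((Category.assoc _ _ _).trans sqR.w)
  have hrange : Set.range (Points.map fst) = {x | Points.map f' x ∈ G} := by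
    ext x
    constructor
    · rintro ⟨p, rfl⟩
      show Points.map f' (Points.map fst p) ∈ G
      rw [← Points.map_comp, sq.w, Points.map_comp]
      exact map_subInc_mem _
    · intro hx
      obtain ⟨z, hz⟩ : Points.map f' x ∈ Set.range (Points.map (subInc G)) := by rwa [range_subInc]
      obtain ⟨p, hp, -⟩ := exists_point_of_isPullback sq x z hz.symm
      exact ⟨p, hp⟩
  rw [hrange]
  ext x
  constructor
  · rintro ⟨T, e, t, he, het, hiso⟩
    obtain ⟨xT, hxT, hxT'⟩ := exists_point_of_isPullback (IsPullback.of_hasPullback f' e) x (Points.ofScheme T t)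
      (het.symm.trans (Points.ofPt_eq_map_ofScheme e t))
    let a : (yon S).obj T ⟶ X := inv (pullback.snd f' e) ≫ pullback.fst f' e
    have hae : a ≫ f' = e := by rw [Category.assoc, pullback.condition, IsIso.inv_hom_id_assoc]
    have ha : RepWith @Etale a := repWith_comp (repWith_of_isIso _)
      (repWith_baseChange (IsPullback.of_hasPullback f' e).flip he)
    have hax : Points.ofPt a t = x := by
      rw [Points.ofPt_eq_map_ofScheme, ← hxT', ← Points.map_comp, IsIso.hom_inv_id_assoc, hxT]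
    obtain ⟨U, p, hpe, hps⟩ := hY.atlas
    obtain ⟨M, π, νM, sM, hνM⟩ := exists_repWith hν p
    obtain ⟨R, rT, rM, sqR⟩ := exists_pullback hY'.diag e π
    haveI : Surjective rT.left :=
      (repWith_yon_iff rT).1 (repWith_baseChange sqR.flip (repWith_baseChange sM.flip hps))
    haveI : Etale rM.left := (repWith_yon_iff rM).1 (repWith_baseChange sqR he)
    obtain ⟨w, hw⟩ := rT.left.surjective t
    have hrTe : RepWith @Etale ((yon S).map rT) := repWith_baseChange sqR.flip (repWith_baseChange sM.flip hpe)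
    have hcomm : ((yon S).map rT ≫ a) ≫ f = (yon S).map (rM ≫ νM) ≫ p := by
      rw [← hn.1, Category.assoc, reassoc_of% hae, reassoc_of% sqR.w, Functor.map_comp, Category.assoc, sM.w]
    have haR : RepWith @Etale ((yon S).map rT ≫ a) := repWith_comp hrTe ha
    have hlft : LocallyOfFiniteType (rM ≫ νM).left := hft.1 _ p (rM ≫ νM) haR hpe hcomm
    haveI : IsIntegralHom νM.left := hνM
    haveI : LocallyOfFiniteType (rM.left ≫ νM.left) := hlft
    obtain ⟨W, hwW, hW⟩ := exists_lqf_nhd rM.left νM.left w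
    refine ⟨R, U, (yon S).map rT ≫ a, p, rM ≫ νM, w, haR, hpe, hcomm, ?_, W, hwW, hW, ?_⟩
    · rw [ofPt_comp, hw, hax]
    · haveI := hlft
      infer_instance
  · rintro ⟨A₀, V₀, a, b, h, u, ha, hb, hcomm, rfl, O, huO, hlqf, hlft⟩
    obtain ⟨_, ⟨B, hB, rfl⟩, huB, -⟩ := V₀.left.isBasis_affineOpens.exists_subset_of_mem_open
      (Set.mem_univ (h.left u)) isOpen_univ
    obtain ⟨_, ⟨A, hA, rfl⟩, huA, hle⟩ := A₀.left.isBasis_affineOpens.exists_subset_of_mem_open
      (show u ∈ ((O ⊓ h.left ⁻¹ᵁ B : A₀.left.Opens) : Set A₀.left) from ⟨huO, huB⟩) (O ⊓ h.left ⁻¹ᵁ B).2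
    let A' : Over S := Over.mk (Scheme.Opens.ι (X := A₀.left) A ≫ A₀.hom)
    let B' : Over S := Over.mk (Scheme.Opens.ι (X := V₀.left) B ≫ V₀.hom)
    let jA : A' ⟶ A₀ := Over.homMk (Scheme.Opens.ι (X := A₀.left) A) rfl
    let jB : B' ⟶ V₀ := Over.homMk (Scheme.Opens.ι (X := V₀.left) B) rfl
    haveI : IsAffine A'.left := hA
    haveI : IsAffine B'.left := hB
    have hr : Set.range (jA ≫ h).left ⊆ Set.range jB.left := by
      rintro _ ⟨t, rfl⟩
      exact ⟨⟨_, (hle t.2).2⟩, rfl⟩
    haveI : IsOpenImmersion jB.left := inferInstanceAs (IsOpenImmersion (Scheme.Opens.ι (X := V₀.left) B))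
    let h' : A' ⟶ B' := Over.homMk (IsOpenImmersion.lift jB.left (jA ≫ h).left hr) (by
      show _ ≫ jB.left ≫ V₀.hom = _
      rw [IsOpenImmersion.lift_fac_assoc, Over.w (jA ≫ h)])
    have hh' : h' ≫ jB = jA ≫ h := Over.OverMorphism.ext (IsOpenImmersion.lift_fac _ _ _)
    have hAO : A ≤ O := fun z hz => (hle hz).1
    haveI : LocallyQuasiFinite (h'.left ≫ jB.left) := by
      rw [show h'.left ≫ jB.left = jA.left ≫ h.left from IsOpenImmersion.lift_fac _ _ _,
        show jA.left = Scheme.Opens.ι (X := A₀.left) A from rfl, ← Scheme.homOfLE_ι A₀.left hAO, Category.assoc]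
      haveI := hlqf
      infer_instance
    haveI : LocallyOfFiniteType (h'.left ≫ jB.left) := by
      rw [show h'.left ≫ jB.left = jA.left ≫ h.left from IsOpenImmersion.lift_fac _ _ _,
        show jA.left = Scheme.Opens.ι (X := A₀.left) A from rfl, ← Scheme.homOfLE_ι A₀.left hAO, Category.assoc]
      haveI := hlft
      infer_instance
    haveI : LocallyQuasiFinite h'.left := LocallyQuasiFinite.of_comp h'.left jB.left
    haveI : LocallyOfFiniteType h'.left := locallyOfFiniteType_of_comp h'.left jB.left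
    obtain ⟨T, e, t, he, het, hiso⟩ := exists_iso_etale hX hY hY' hft hsep hn
      (A := A') (W := B') (a := (yon S).map jA ≫ a) (b := (yon S).map jB ≫ b) (h := h')
      (repWith_comp ((repWith_yon_iff (P := @Etale) jA).2
        (inferInstanceAs (Etale (Scheme.Opens.ι (X := A₀.left) A)))) ha)
      (repWith_comp ((repWith_yon_iff (P := @Etale) jB).2
        (inferInstanceAs (Etale (Scheme.Opens.ι (X := V₀.left) B)))) hb)
      (by rw [Category.assoc, hcomm, ← Functor.map_comp_assoc, ← Functor.map_comp_assoc, hh'])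
      (⟨u, huA⟩ : ↥(show A₀.left.Opens from A))
    refine ⟨T, e, t, he, het.trans ?_, hiso⟩
    rw [Points.map_ofPt, Category.assoc, ofPt_comp]
    rfl

end Groth.Agent.RelNorm

end
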