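import Groth.Agent.RelNorm.Local

/-!
# Comparisons between base changes of a normalization over a chart
-/

set_option autoImplicit false
set_option backward.isDefEq.respectTransparency false
set_option backward.isDefEq.respectTransparency.types false
set_option linter.style.haveILetI false
universe u

open CategoryTheory CategoryTheory.Limits AlgebraicGeometry

noncomputable section

namespace Groth.Agent.RelNorm

open _root_.AlgSp Groth.Agent.AlgSpLib

variable {S : Scheme.{u}} {X Y : Sp S} {f : Y ⟶ X} {U N : Over S} {p : (yon S).obj U ⟶ X} {ν : N ⟶ U}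
  {gU : pullback f p ⟶ (yon S).obj N} (hgU : gU ≫ (yon S).map ν = pullback.snd f p)

/-- the comparison of the base change to a scheme over the chart -/
def gW {W : Over S} (a : W ⟶ U) (q : (yon S).obj W ⟶ X) (e : (yon S).map a ≫ p = q) :
    pullback f q ⟶ (yon S).obj (pullback ν a) :=
  ((IsPullback.of_hasPullback ν a).map (yon S)).lift
    (pullback.lift (pullback.fst f q) (pullback.snd f q ≫ (yon S).map a)
      (by rw [Category.assoc, e, pullback.condition]) ≫ gU)
    (pullback.snd f q) (by rw [Category.assoc, hgU, pullback.lift_snd])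

@[reassoc (attr := simp)]
theorem gW_fst {W : Over S} (a : W ⟶ U) (q : (yon S).obj W ⟶ X) (e : (yon S).map a ≫ p = q) :
    gW hgU a q e ≫ (yon S).map (pullback.fst ν a) =
      pullback.lift (pullback.fst f q) (pullback.snd f q ≫ (yon S).map a)
        (by rw [Category.assoc, e, pullback.condition]) ≫ gU :=
  IsPullback.lift_fst _ _ _ _

@[reassoc (attr := simp)]
theorem gW_snd {W : Over S} (a : W ⟶ U) (q : (yon S).obj W ⟶ X) (e : (yon S).map a ≫ p = q) :
    gW hgU a q e ≫ (yon S).map (pullback.snd ν a) = pullback.snd f q :=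
  IsPullback.lift_snd _ _ _ _

variable (H : SmNorm (pullback.snd f p) ((yon S).map ν) gU hgU)

include H in
theorem isNormOver_gW {W : Over S} (a : W ⟶ U) [Smooth a.left] (q : (yon S).obj W ⟶ X)
    (e : (yon S).map a ≫ p = q) :
    IsNormOver (pullback.snd f q) ((yon S).map (pullback.snd ν a)) (gW hgU a q e) := by
  have hs : LocP @Smooth ((yon S).map a) :=
    (locP_iff_repWith etST_smooth (IsAlgSpace.yon_obj U) (AlgSp.representable_yon_map a)).2
      ((repWith_yon_iff a).2 ‹_›)
  have sY : IsPullback (pullback.lift (pullback.fst f q) (pullback.snd f q ≫ (yon S).map a)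
      (by rw [Category.assoc, e, pullback.condition])) (pullback.snd f q) (pullback.snd f p) ((yon S).map a) := by
    refine IsPullback.of_right ?_ (pullback.lift_snd _ _ _) (IsPullback.of_hasPullback f p)
    rw [pullback.lift_fst, e]
    exact IsPullback.of_hasPullback f q
  exact (normAt_iff (f := pullback.snd f p) (ν := (yon S).map ν) (g := gU) hgU sY
    ((IsPullback.of_hasPullback ν a).map (yon S)) _ (gW_fst hgU a q e) (gW_snd hgU a q e)).2 (H _ hs)

variable (hν : IsIntegralHom ν.left)

include H hν in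
/-- the comparison of two base changes -/
theorem exists_trans {W : Over S} (a b : W ⟶ U) [Smooth a.left] (q : (yon S).obj W ⟶ X)
    (ea : (yon S).map a ≫ p = q) (eb : (yon S).map b ≫ p = q) :
    ∃! m : pullback ν a ⟶ pullback ν b, m ≫ pullback.snd ν b = pullback.snd ν a ∧
      gW hgU a q ea ≫ (yon S).map m = gW hgU b q eb := by
  have : IsIntegralHom (pullback.snd ν b).left :=
    MorphismProperty.of_isPullback (P := @IsIntegralHom)
      ((IsPullback.of_hasPullback ν b).map (Over.forget S)) hν
  obtain ⟨k, ⟨hk₁, hk₂⟩, hk⟩ := isNormOver_gW hgU H a q ea (pullback.snd ν b) (gW hgU b q eb) (gW_snd hgU b q eb)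
  obtain ⟨m, rfl⟩ := exists_map_eq k
  refine ⟨m, ⟨(yon S).map_injective (by rw [Functor.map_comp, hk₁]), hk₂⟩, fun m' hm' => (yon S).map_injective ?_⟩
  exact hk _ ⟨by rw [← Functor.map_comp, hm'.1], hm'.2⟩

/-- the comparison map -/
def trans {W : Over S} (a b : W ⟶ U) [Smooth a.left] (q : (yon S).obj W ⟶ X)
    (ea : (yon S).map a ≫ p = q) (eb : (yon S).map b ≫ p = q) : pullback ν a ⟶ pullback ν b :=
  (exists_trans hgU H hν a b q ea eb).exists.choose

@[reassoc (attr := simp)]
theorem trans_snd {W : Over S} (a b : W ⟶ U) [Smooth a.left] (q : (yon S).obj W ⟶ X)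
    (ea : (yon S).map a ≫ p = q) (eb : (yon S).map b ≫ p = q) :
    trans hgU H hν a b q ea eb ≫ pullback.snd ν b = pullback.snd ν a :=
  (exists_trans hgU H hν a b q ea eb).exists.choose_spec.1

@[reassoc]
theorem gW_trans {W : Over S} (a b : W ⟶ U) [Smooth a.left] (q : (yon S).obj W ⟶ X)
    (ea : (yon S).map a ≫ p = q) (eb : (yon S).map b ≫ p = q) :
    gW hgU a q ea ≫ (yon S).map (trans hgU H hν a b q ea eb) = gW hgU b q eb :=
  (exists_trans hgU H hν a b q ea eb).exists.choose_spec.2

theorem trans_eq {W : Over S} (a b : W ⟶ U) [Smooth a.left] (q : (yon S).obj W ⟶ X)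
    (ea : (yon S).map a ≫ p = q) (eb : (yon S).map b ≫ p = q) (m : pullback ν a ⟶ pullback ν b)
    (h₁ : m ≫ pullback.snd ν b = pullback.snd ν a) (h₂ : gW hgU a q ea ≫ (yon S).map m = gW hgU b q eb) :
    trans hgU H hν a b q ea eb = m :=
  (exists_trans hgU H hν a b q ea eb).unique ⟨trans_snd .., gW_trans ..⟩ ⟨h₁, h₂⟩

theorem trans_self {W : Over S} (a : W ⟶ U) [Smooth a.left] (q : (yon S).obj W ⟶ X)
    (ea : (yon S).map a ≫ p = q) : trans hgU H hν a a q ea ea = 𝟙 _ :=
  trans_eq _ _ _ _ _ _ _ _ _ (Category.id_comp _) (by rw [CategoryTheory.Functor.map_id, Category.comp_id])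

theorem trans_comp {W : Over S} (a b c : W ⟶ U) [Smooth a.left] [Smooth b.left] (q : (yon S).obj W ⟶ X)
    (ea : (yon S).map a ≫ p = q) (eb : (yon S).map b ≫ p = q) (ec : (yon S).map c ≫ p = q) :
    trans hgU H hν a b q ea eb ≫ trans hgU H hν b c q eb ec = trans hgU H hν a c q ea ec :=
  (trans_eq _ _ _ _ _ _ _ _ _ (by rw [Category.assoc, trans_snd, trans_snd])
    (by rw [Functor.map_comp, gW_trans_assoc, gW_trans])).symm

/-- the base change of a base change -/
def mapN {W W' : Over S} (v : W' ⟶ W) {a : W ⟶ U} {a' : W' ⟶ U} (h : v ≫ a = a') :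
    pullback ν a' ⟶ pullback ν a :=
  pullback.lift (pullback.fst ν a') (pullback.snd ν a' ≫ v) (by rw [pullback.condition, Category.assoc, h])

theorem trans_natural {W W' : Over S} (v : W' ⟶ W) (a b : W ⟶ U) [Smooth a.left] (a' b' : W' ⟶ U)
    [Smooth a'.left] (ha : v ≫ a = a') (hb : v ≫ b = b') (q : (yon S).obj W ⟶ X)
    (ea : (yon S).map a ≫ p = q) (eb : (yon S).map b ≫ p = q) (q' : (yon S).obj W' ⟶ X)
    (hq : (yon S).map v ≫ q = q') (ea' : (yon S).map a' ≫ p = q') (eb' : (yon S).map b' ≫ p = q') :
    mapN v ha ≫ trans hgU H hν a b q ea eb = trans hgU H hν a' b' q' ea' eb' ≫ mapN v hb := by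
  let M := mapN v ha ≫ trans hgU H hν a b q ea eb
  have hM : M ≫ pullback.snd ν b = pullback.snd ν a' ≫ v := by
    simp [M, mapN]
  let m : pullback ν a' ⟶ pullback ν b' := pullback.lift (M ≫ pullback.fst ν b) (pullback.snd ν a') (by
    rw [Category.assoc, pullback.condition, reassoc_of% hM, hb])
  have hm : m ≫ mapN v hb = M := by
    apply pullback.hom_ext
    · simp [m, mapN]
    · simp [m, mapN, hM]
  rw [trans_eq hgU H hν a' b' _ _ _ m (pullback.lift_snd _ _ _) ?_, hm]
  refine ((IsPullback.of_hasPullback ν b').map (yon S)).hom_ext ?_ ?_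
  · rw [Category.assoc, ← (yon S).map_comp m, gW_fst, show m ≫ pullback.fst ν b' = _ from pullback.lift_fst _ _ _]
    simp only [M, Category.assoc, Functor.map_comp]
    let c : pullback f q' ⟶ pullback f q :=
      pullback.lift (pullback.fst _ _) (pullback.snd _ _ ≫ (yon S).map v) (by rw [Category.assoc, hq, pullback.condition])
    have e₁ : gW hgU a' q' ea' ≫
        (yon S).map (mapN v ha) = c ≫ gW hgU a q ea := by
      refine ((IsPullback.of_hasPullback ν a).map (yon S)).hom_ext ?_ ?_
      · rw [Category.assoc, ← (yon S).map_comp (mapN v ha), show mapN v ha ≫ pullback.fst ν a = _ from pullback.lift_fst _ _ _,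
          gW_fst]
        simp only [Category.assoc, gW_fst]
        rw [← Category.assoc c]
        congr 1
        apply pullback.hom_ext
        · simp [c]
        · simp [c, ← ha, Functor.map_comp]
      · rw [Category.assoc, ← (yon S).map_comp (mapN v ha), show mapN v ha ≫ pullback.snd ν a = _ from pullback.lift_snd _ _ _,
          Functor.map_comp, gW_snd_assoc, Category.assoc, gW_snd, pullback.lift_snd]
    rw [reassoc_of% e₁, gW_trans_assoc, gW_fst, ← Category.assoc c]
    congr 1
    apply pullback.hom_ext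
    · simp [c]
    · simp [c, ← hb, Functor.map_comp]
  · rw [Category.assoc, ← (yon S).map_comp m, show m ≫ pullback.snd ν b' = _ from pullback.lift_snd _ _ _, gW_snd,
      gW_snd]

end Groth.Agent.RelNorm

end
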