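import Groth.Agent.RelNorm.Zmt
import Groth.Agent.SpQS.ConfStrat
import Groth.Agent.AlgSpLib.Glue
import Groth.Agent.AlgSpLib.ChartMisc

/-!
# Normalizations along full families of sheets

Where all the sheets of an etale chart `π : W ⟶ X` are given by maps from a scheme `T` over `X`, the
normalization of `X` in `T` is a scheme which maps Zariski locally to `W`.
-/

set_option autoImplicit false
set_option backward.isDefEq.respectTransparency false
set_option backward.isDefEq.respectTransparency.types false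
set_option linter.style.haveILetI false
universe u

open CategoryTheory CategoryTheory.Limits AlgebraicGeometry IsLocalRing

noncomputable section

namespace Groth.Agent.RelNorm

open _root_.AlgSp Groth.Agent.AlgSpLib

variable {S : Scheme.{u}}

/-- a morphism maps Zariski locally to a chart -/
def LocFac {X : Sp S} {W : Over S} (π : (yon S).obj W ⟶ X) {Y : Over S} (g : (yon S).obj Y ⟶ X) : Prop :=
  ∀ y : ↥Y.left, ∃ (O : Y.left.Opens) (c : Over.mk (O.ι ≫ Y.hom) ⟶ W), y ∈ O ∧
    (yon S).map c ≫ π = (yon S).map (Over.homMk O.ι rfl : Over.mk (O.ι ≫ Y.hom) ⟶ Y) ≫ g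

/-- integral schemes over a space covered by the normalizations of the sheets -/
theorem exists_normalization_of_sheets {X : Sp S} (hX : IsAlgSpace X) {W : Over S} [IsAffine W.left]
    {π : (yon S).obj W ⟶ X} (hπe : RepWith @Etale π) (hπs : RepWith @Surjective π)
    (hπq : RepWith @QuasiCompact π) {T : Over S} {ι : Type} [Finite ι]
    (m : ι → (T ⟶ W)) {g : (yon S).obj T ⟶ X} (hgq : RepWith @QuasiCompact g) (hgs : RepWith @QuasiSeparated g)
    (hm : ∀ i, (yon S).map (m i) ≫ π = g) (hne : ∀ i j, i ≠ j → SpQS.NeverEq (m i).left (m j).left)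
    (hall : ∀ (Ω : Type u) [Field Ω] [IsAlgClosed Ω] {K : Over S} (_ : Spec (CommRingCat.of Ω) ≅ K.left)
      (k : K ⟶ T) (a : K ⟶ W), (yon S).map a ≫ π = (yon S).map k ≫ g → ∃ i, a = k ≫ m i) :
    ∃ (Y : Over S) (gY : (yon S).obj Y ⟶ X) (f' : (yon S).obj T ⟶ (yon S).obj Y),
      IsRelNormalization g gY f' ∧ RepWith @IsIntegralHom gY ∧ LocFac π gY ∧
      Set.range (Points.ofPt g) ⊆ Set.range (Points.ofPt gY) ∧
      Set.range (Points.ofPt gY) ⊆ closure (Set.range (Points.ofPt g)) := by
  have hTA := IsAlgSpace.yon_obj (S := S) T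
  have hgc : AlgSp.IsQuasiCompactMor g := (isQuasiCompactMor_iff_repWith hTA hX hgq.1).2 hgq
  have hgqs : IsQuasiSeparatedMor g := (isQuasiSeparatedMor_iff_repWith hTA hX hgs.1).2 hgs
  obtain ⟨Y₀, ν, f', hf, hY₀, hint, H⟩ := exists_smNorm hTA hX g hgc hgqs
  have hn := isRelNormalization_of_smNorm hX hf hint H
  have hν := (isIntegralMor_iff_repWith ν).1 hint
  have hsm : LocP @Smooth π := (locP_iff_repWith etST_smooth hX hπe.1).2
    (repWith_mono (fun _ _ r (hr : Etale r) => inferInstanceAs (Smooth r)) hπe)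
  have hπsep : RepWith @IsSeparated π := (isSeparated_chart hX π hπe.1).1
  -- the normalization over the chart
  obtain ⟨R, pT, pW, sR, hpWq⟩ := exists_repWith hgq π
  obtain ⟨pT, rfl⟩ := exists_map_eq pT
  have : QuasiCompact pW.left := hpWq
  have : QuasiSeparated pW.left := hgs.2 π _ pW sR
  have : Etale pT.left := (repWith_yon_iff pT).1 (repWith_baseChange sR.flip hπe)
  have : IsSeparated pT.left := (repWith_yon_iff pT).1 (repWith_baseChange sR.flip hπsep)
  obtain ⟨N, πN, νN, sN, hνN⟩ := exists_repWith hν π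
  have : IsIntegralHom νN.left := hνN
  obtain ⟨g₁, hg₁⟩ := exists_map_eq (sN.lift ((yon S).map pT ≫ f') ((yon S).map pW)
    (by rw [Category.assoc, hf, sR.w]))
  have hg₁ν : (yon S).map g₁ ≫ (yon S).map νN = (yon S).map pW := by rw [hg₁, sN.lift_snd]
  have hg₁π : (yon S).map g₁ ≫ πN = (yon S).map pT ≫ f' := by rw [hg₁, sN.lift_fst]
  obtain ⟨eN, heN, heNν⟩ := exists_iso_normalization_over pW g₁ νN
    (isRelNormalization_baseChange hX (IsAlgSpace.yon_obj W) hTA hY₀ sR hgc hgqs hsm hn sN _ hg₁ν hg₁π)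
  have hg₁d : IsDominant g₁.left := by
    rw [(Iso.eq_comp_inv eN).2 heN]
    infer_instance
  have hg₁νl : g₁.left ≫ νN.left = pW.left :=
    congrArg CommaMorphism.left ((yon S).map_injective (((yon S).map_comp g₁ νN).trans hg₁ν))
  -- the sections
  have hsec : ∀ i, ∃ σ : T ⟶ R, σ ≫ pT = 𝟙 T ∧ σ ≫ pW = m i := fun i => by
    obtain ⟨σ, hσ⟩ := exists_map_eq (sR.lift (𝟙 _) ((yon S).map (m i)) (by rw [Category.id_comp, hm]))
    exact ⟨σ, (yon S).map_injective (by rw [Functor.map_comp, hσ, sR.lift_fst, CategoryTheory.Functor.map_id]),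
      (yon S).map_injective (by rw [Functor.map_comp, hσ, sR.lift_snd])⟩
  choose σ hσT hσW using hsec
  have hσl : ∀ i, (σ i).left ≫ pT.left = 𝟙 _ := fun i => congrArg CommaMorphism.left (hσT i)
  have hσo : ∀ i, IsOpenImmersion (σ i).left := fun i =>
    EtaleSections.isOpenImmersion_section pT.left _ (hσl i)
  have hσc : ∀ i, IsClosedImmersion (σ i).left := fun i => by
    have : IsClosedImmersion ((σ i).left ≫ pT.left) := by rw [hσl i]; infer_instance
    exact IsClosedImmersion.of_comp (σ i).left pT.left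
  have hcover : ∀ r : R.left, ∃ i, r ∈ Set.range (σ i).left := fun r => by
    obtain ⟨Ω, _, _, k, hk⟩ := SpQS.exists_geomPoint r
    let K : Over S := Over.mk (k ≫ R.hom)
    let k' : K ⟶ R := Over.homMk k rfl
    obtain ⟨i, hi⟩ := hall Ω (Iso.refl _ : Spec (CommRingCat.of Ω) ≅ K.left) (k' ≫ pT) (k' ≫ pW)
      (by rw [Functor.map_comp, Functor.map_comp, Category.assoc, Category.assoc, sR.w])
    have e : k' = k' ≫ pT ≫ σ i := (yon S).map_injective (sR.hom_ext
      (by rw [← Functor.map_comp, ← Functor.map_comp, Category.assoc, Category.assoc, hσT, Category.comp_id])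
      (by rw [← Functor.map_comp, ← Functor.map_comp, Category.assoc, Category.assoc, hσW, hi, Category.assoc]))
    refine ⟨i, pT.left (k (closedPoint Ω)), ?_⟩
    rw [← hk]
    exact (congrArg (fun l : K ⟶ R => l.left (closedPoint Ω)) e).symm
  -- the pieces
  have hpiece : ∀ i, ∃ (V : Over S) (e : (yon S).obj V ⟶ Y₀) (c : V ⟶ W) (j : V ⟶ N),
      RepWith @IsOpenImmersion e ∧ (yon S).map c ≫ π = e ≫ ν ∧ (yon S).map j ≫ πN = e ∧
      IsClosed (Set.range j.left) ∧ Set.range ((σ i).left ≫ g₁.left) ⊆ Set.range j.left := by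
    intro i
    haveI := hσo i
    haveI := hσc i
    let P : R.left.Opens := ⟨(Set.range (σ i).left)ᶜ, (σ i).left.isClosedEmbedding.isClosed_range.isOpen_compl⟩
    have hPc : IsClosed (P : Set R.left) := (σ i).left.isOpenEmbedding.isOpen_range.isClosed_compl
    have : IsClosedImmersion P.ι := by
      refine IsClosedImmersion.of_isPreimmersion _ ?_
      rw [Scheme.Opens.range_ι]
      exact hPc
    have hcompl : IsCompl (σ i).left.opensRange P.ι.opensRange := by
      rw [Scheme.Opens.opensRange_ι]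
      constructor
      · rw [disjoint_iff]; exact TopologicalSpace.Opens.ext (Set.inter_compl_self _)
      · rw [codisjoint_iff]; exact TopologicalSpace.Opens.ext (Set.union_compl_self _)
    obtain ⟨hcol⟩ := nonempty_isColimit_binaryCofanMk_of_isCompl (σ i).left P.ι hcompl
    let f₁ : T.left ⟶ W.left := (σ i).left ≫ pW.left
    let jl : f₁.normalization ⟶ N.left :=
      coprod.inl ≫ (pW.left.normalizationCoprodIso hcol).hom ≫ eN.inv
    let V : Over S := Over.mk (jl ≫ N.hom)
    let j : V ⟶ N := Over.homMk jl rfl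
    have hjν : jl ≫ νN.left = f₁.fromNormalization := by
      have : eN.inv ≫ νN.left = pW.left.fromNormalization := (Iso.inv_comp_eq eN).2 heNν.symm
      rw [Category.assoc, Category.assoc, this, Scheme.Hom.inl_normalizationCoprodIso_hom_fromNormalization]
    have hjo : IsOpenImmersion jl := inferInstanceAs (IsOpenImmersion (coprod.inl ≫ _ ≫ _))
    have hσj : f₁.toNormalization ≫ jl = (σ i).left ≫ g₁.left := by
      rw [(Iso.eq_comp_inv eN).2 heN]
      simp only [jl, ← Category.assoc]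
      congr 1
      simp only [Category.assoc]
      exact Scheme.Hom.toNormalization_inl_normalizationCoprodIso_hom pW.left hcol
    let t : T ⟶ V := Over.homMk f₁.toNormalization (by
      show f₁.toNormalization ≫ jl ≫ N.hom = T.hom
      rw [reassoc_of% hσj, Over.w g₁, Over.w (σ i)])
    have ht : t ≫ j = σ i ≫ g₁ := Over.OverMorphism.ext hσj
    let e : (yon S).obj V ⟶ Y₀ := (yon S).map j ≫ πN
    have hte : (yon S).map t ≫ e = f' := by
      show (yon S).map t ≫ (yon S).map j ≫ πN = f'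
      rw [← Category.assoc, ← Functor.map_comp, ht, Functor.map_comp, Category.assoc, hg₁π, ← Category.assoc,
        ← Functor.map_comp, hσT, CategoryTheory.Functor.map_id, Category.id_comp]
    have he : RepWith @Etale e :=
      repWith_comp ((repWith_yon_iff (P := @Etale) j).2 (inferInstanceAs (Etale jl))) (repWith_baseChange sN.flip hπe)
    have heq : RepWith @QuasiCompact e := by
      have : IsIntegralHom (jl ≫ νN.left) := by rw [hjν]; infer_instance
      have : IsIntegralHom jl := IsIntegralHom.of_comp jl νN.left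
      exact repWith_comp ((repWith_yon_iff (P := @QuasiCompact) j).2 (inferInstanceAs (QuasiCompact jl)))
        (repWith_baseChange sN.flip hπq)
    have hes : RepWith @IsSeparated e :=
      repWith_comp ((repWith_yon_iff (P := @IsSeparated) j).2 (inferInstanceAs (IsSeparated jl)))
        (repWith_baseChange sN.flip hπsep)
    have hVA := IsAlgSpace.yon_obj (S := S) V
    have heνW : (yon S).map (j ≫ νN) ≫ π = e ≫ ν := by
      rw [Functor.map_comp, Category.assoc, ← sN.w, Category.assoc]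
    -- nothing integral lies between the piece and the normalization
    have hid : IsRelNormalization e (𝟙 Y₀) e := by
      refine ⟨Category.comp_id _, (isIntegralMor_iff_repWith _).2 (repWith_of_isIso _), fun Z hZ p h hp hh => ?_⟩
      have hpν : IsIntegralMor (p ≫ ν) :=
        (isIntegralMor_iff_repWith _).2 (repWith_comp ((isIntegralMor_iff_repWith p).1 hp) hν)
      obtain ⟨k, ⟨hk₁, hk₂⟩, -⟩ := hn.2.2 hZ (p ≫ ν) ((yon S).map t ≫ h) hpν
        (by rw [Category.assoc, reassoc_of% hh, reassoc_of% hte, hf])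
      have hsect : k ≫ p = 𝟙 _ := (hn.2.2 hY₀ ν f' hint hf).unique
        ⟨by rw [reassoc_of% hk₁, hh, hte], by rw [Category.assoc, hk₂]⟩
        ⟨Category.comp_id _, Category.id_comp _⟩
      refine ⟨k, ⟨?_, hsect⟩, fun k' hk' => ?_⟩
      · obtain ⟨Zi, a, p', sZ, hp'⟩ := exists_repWith ((isIntegralMor_iff_repWith p).1 hp) e
        have : IsIntegralHom p'.left := hp'
        obtain ⟨l₁, hl₁⟩ := exists_map_eq (sZ.lift (e ≫ k) (𝟙 _) (by rw [Category.assoc, hsect, Category.comp_id, Category.id_comp]))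
        obtain ⟨l₂, hl₂⟩ := exists_map_eq (sZ.lift h (𝟙 _) (by rw [hh, Category.id_comp]))
        have h₁ : l₁ ≫ p' = 𝟙 _ := (yon S).map_injective (by
          rw [Functor.map_comp, hl₁, sZ.lift_snd, CategoryTheory.Functor.map_id])
        have h₂ : l₂ ≫ p' = 𝟙 _ := (yon S).map_injective (by
          rw [Functor.map_comp, hl₂, sZ.lift_snd, CategoryTheory.Functor.map_id])
        have h₁₂ : t ≫ l₁ = t ≫ l₂ := (yon S).map_injective (by
          rw [Functor.map_comp, Functor.map_comp, hl₁, hl₂]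
          refine sZ.hom_ext ?_ (by simp)
          simp only [Category.assoc, IsPullback.lift_fst]
          rw [reassoc_of% hte, hk₁])
        have : l₁ = l₂ := Over.OverMorphism.ext (Scheme.Hom.normalization.hom_ext (f := f₁) l₁.left l₂.left
          (p'.left ≫ f₁.fromNormalization) (congrArg CommaMorphism.left h₁₂)
          (by rw [← Category.assoc, ← Over.comp_left, h₁]; exact Category.id_comp _)
          (by rw [← Category.assoc, ← Over.comp_left, h₂]; exact Category.id_comp _))
        have := congrArg (fun l => l ≫ a) (hl₁.symm.trans (this ▸ hl₂))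
        simpa using this
      · refine (hn.2.2 hZ (p ≫ ν) ((yon S).map t ≫ h) hpν
          (by rw [Category.assoc, reassoc_of% hh, reassoc_of% hte, hf])).unique ⟨?_, ?_⟩ ⟨hk₁, hk₂⟩
        · rw [← hk'.1, reassoc_of% hte]
        · rw [reassoc_of% hk'.2]
    have hqf : LocP (@LocallyQuasiFinite ⊓ @LocallyOfFiniteType) e :=
      (locP_iff_repWith etST_lqf hY₀ he.1).2 (repWith_mono (fun _ _ r (hr : Etale r) =>
        ⟨UnivInjMor.lqf_of_unramified r, (inferInstance : LocallyOfFiniteType r)⟩) he)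
    refine ⟨V, e, j ≫ νN, j, (openImmersion_normalization hVA hY₀ hY₀ e hqf
      ((isQuasiCompactMor_iff_repWith hVA hY₀ he.1).2 heq) ((isSeparatedMor_iff_repWith hVA hY₀ he.1).2 hes) hid).1,
      heνW, rfl, ?_, ?_⟩
    · have : IsIntegralHom (jl ≫ νN.left) := by rw [hjν]; infer_instance
      have : IsIntegralHom jl := IsIntegralHom.of_comp jl νN.left
      exact jl.isClosedMap.isClosed_range
    · rw [← hσj]
      rintro _ ⟨x, rfl⟩
      exact ⟨f₁.toNormalization x, rfl⟩
  choose V e c j heo hcπ hje hjc hjσ using hpiece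
  -- the pieces cover
  have hNcov : ∀ n : N.left, ∃ i, n ∈ Set.range (j i).left := by
    have hc : IsClosed (⋃ i, Set.range (j i).left) := isClosed_iUnion_of_finite hjc
    have hd : Set.range g₁.left ⊆ ⋃ i, Set.range (j i).left := by
      rintro _ ⟨r, rfl⟩
      obtain ⟨i, x, rfl⟩ := hcover r
      exact Set.mem_iUnion.2 ⟨i, hjσ i ⟨x, rfl⟩⟩
    intro n
    have := hc.closure_subset_iff.2 hd (by rw [hg₁d.denseRange.closure_range]; trivial : n ∈ closure (Set.range g₁.left))
    exact Set.mem_iUnion.1 this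
  have hπNs : RepWith @Surjective πN := repWith_baseChange sN.flip hπs
  obtain ⟨Y, ⟨θ⟩⟩ := exists_iso_yon_of_open_cover hY₀ (ι := ULift.{u} ι) (fun i => V i.down) (fun i => e i.down)
    (fun i => heo i.down) fun x => by
      obtain ⟨n, rfl⟩ := ofPt_surjective hπNs x
      obtain ⟨i, v, rfl⟩ := hNcov n
      refine ⟨⟨i⟩, Points.ofScheme (V i) v, ?_⟩
      rw [← Points.ofPt_eq_map_ofScheme, ← hje i, ofPt_comp]
  have hYA := IsAlgSpace.yon_obj (S := S) Y
  have hnY : IsRelNormalization g (θ.inv ≫ ν) (f' ≫ θ.hom) := by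
    refine ⟨by rw [Category.assoc, Iso.hom_inv_id_assoc, hf],
      (isIntegralMor_iff_repWith _).2 ((repWith_iso_comp_iff θ.inv ν).2 hν), fun Z hZ p h hp hh => ?_⟩
    obtain ⟨k, ⟨hk₁, hk₂⟩, huniq⟩ := hn.2.2 hZ p h hp hh
    refine ⟨θ.inv ≫ k, ⟨by rw [Category.assoc, Iso.hom_inv_id_assoc, hk₁], by rw [Category.assoc, hk₂]⟩,
      fun k' hk' => ?_⟩
    rw [← huniq (θ.hom ≫ k') ⟨by rw [← Category.assoc, hk'.1], by rw [Category.assoc, hk'.2, Iso.hom_inv_id_assoc]⟩,
      Iso.inv_hom_id_assoc]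
  refine ⟨Y, θ.inv ≫ ν, f' ≫ θ.hom, hnY, (repWith_iso_comp_iff θ.inv ν).2 hν, fun y => ?_, ?_, ?_⟩
  rotate_left
  · rintro _ ⟨z, rfl⟩
    obtain ⟨a, ha⟩ := exists_map_eq (f' ≫ θ.hom)
    exact ⟨a.left z, by rw [← ofPt_comp, ha, Category.assoc, Iso.hom_inv_id_assoc, hf]⟩
  · rintro _ ⟨y, rfl⟩
    obtain ⟨n, hn'⟩ := ofPt_surjective hπNs (Points.ofPt θ.inv y)
    rw [← Points.map_ofPt, ← hn', Points.map_ofPt]
    have hcl : n ∈ closure (Set.range g₁.left) := by rw [hg₁d.denseRange.closure_range]; trivial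
    refine map_mem_closure (Points.continuous_ofPt (πN ≫ ν)) hcl ?_
    rintro _ ⟨r, rfl⟩
    refine ⟨pT.left r, ?_⟩
    rw [← ofPt_comp, ← ofPt_comp, ← Category.assoc, hg₁π, Category.assoc, hf]
  · obtain ⟨n, hn'⟩ := ofPt_surjective hπNs (Points.ofPt θ.inv y)
    obtain ⟨i, v, rfl⟩ := hNcov n
    obtain ⟨f, hfe⟩ := exists_map_eq (e i ≫ θ.hom)
    have hfo : IsOpenImmersion f.left := (repWith_yon_iff (P := @IsOpenImmersion) f).1 (by
      rw [hfe]; exact repWith_comp (heo i) (repWith_of_isIso _))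
    have hy : f.left v = y := by
      rw [← ofPt_comp, hje] at hn'
      have h := congrArg (Points.map θ.hom) hn'
      rw [Points.map_ofPt, Points.map_ofPt, ← hfe, Iso.inv_hom_id, ← Category.comp_id ((yon S).map f), ofPt_comp] at h
      exact (Points.schemeEquiv Y).injective h
    let l : Over.mk (f.left.opensRange.ι ≫ Y.hom) ⟶ V i := Over.homMk f.left.isoOpensRange.inv (by
      show f.left.isoOpensRange.inv ≫ (V i).hom = f.left.opensRange.ι ≫ Y.hom
      rw [← Over.w f, Scheme.Hom.isoOpensRange_inv_comp_assoc])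
    refine ⟨f.left.opensRange, l ≫ c i, ⟨v, hy⟩, ?_⟩
    have hl : l ≫ f = (Over.homMk f.left.opensRange.ι rfl : Over.mk (f.left.opensRange.ι ≫ Y.hom) ⟶ Y) :=
      Over.OverMorphism.ext (Scheme.Hom.isoOpensRange_inv_comp f.left)
    rw [← hl, Functor.map_comp, Functor.map_comp, Category.assoc, Category.assoc, hfe, hcπ, Category.assoc,
      Iso.hom_inv_id_assoc]

/-- integral schemes over a space covered by the normalizations of the sheets -/
theorem exists_integral_of_sheets {X : Sp S} (hX : IsAlgSpace X) {W : Over S} [IsAffine W.left]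
    {π : (yon S).obj W ⟶ X} (hπe : RepWith @Etale π) (hπs : RepWith @Surjective π)
    (hπq : RepWith @QuasiCompact π) {T : Over S} {ι : Type} [Finite ι]
    (m : ι → (T ⟶ W)) {g : (yon S).obj T ⟶ X} (hgq : RepWith @QuasiCompact g) (hgs : RepWith @QuasiSeparated g)
    (hm : ∀ i, (yon S).map (m i) ≫ π = g) (hne : ∀ i j, i ≠ j → SpQS.NeverEq (m i).left (m j).left)
    (hall : ∀ (Ω : Type u) [Field Ω] [IsAlgClosed Ω] {K : Over S} (_ : Spec (CommRingCat.of Ω) ≅ K.left)
      (k : K ⟶ T) (a : K ⟶ W), (yon S).map a ≫ π = (yon S).map k ≫ g → ∃ i, a = k ≫ m i) :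
    ∃ (Y : Over S) (gY : (yon S).obj Y ⟶ X), RepWith @IsIntegralHom gY ∧
      Set.range (Points.ofPt g) ⊆ Set.range (Points.ofPt gY) ∧ LocFac π gY := by
  obtain ⟨Y, gY, -, -, h₁, h₂, h₃, -⟩ := exists_normalization_of_sheets hX hπe hπs hπq m hgq hgs hm hne hall
  exact ⟨Y, gY, h₁, h₃, h₂⟩

/-- a normalization of an integral morphism followed by a quasi-compact open immersion -/
theorem isPullback_of_normalization {V Y Y' Z : Sp S} (hV : IsAlgSpace V) (hY : IsAlgSpace Y) (hZ : IsAlgSpace Z)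
    (hY' : IsAlgSpace Y') (j : V ⟶ Y) (hj : RepWith @IsOpenImmersion j) (π : Z ⟶ V) (hπ : IsIntegralMor π)
    {g : Z ⟶ Y} (hg : π ≫ j = g) (hqc : AlgSp.IsQuasiCompactMor g) (hqs : IsQuasiSeparatedMor g)
    {ν : Y' ⟶ Y} {f' : Z ⟶ Y'} (hn : IsRelNormalization g ν f') : IsPullback f' π ν j := by
  subst hg
  haveI : Mono j := mono_of_repWith_immersion (repWith_mono (P := @IsOpenImmersion) (Q := @IsImmersion)
    (fun _ _ r (hr : IsOpenImmersion r) => (inferInstance : IsImmersion r)) hj)
  have sj : IsPullback (𝟙 V) (𝟙 V) j j := IsKernelPair.id_of_mono j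
  have sZ : IsPullback (𝟙 Z) π (π ≫ j) j := by
    have := (IsPullback.of_horiz_isIso (fst := 𝟙 Z) (snd := π) (f := π) (g := 𝟙 V) ⟨by simp⟩).paste_vert sj
    simpa using this
  have hsm : LocP @Smooth j := (locP_iff_repWith etST_smooth hY hj.1).2
    (repWith_mono (fun _ _ r (hr : IsOpenImmersion r) => (inferInstance : Smooth r)) hj)
  have sN := IsPullback.of_hasPullback ν j
  let g := sN.lift f' π hn.1
  have hn₁ := isRelNormalization_baseChange hY hV hZ hY' sZ hqc hqs hsm hn sN g (sN.lift_snd _ _ _)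
    ((sN.lift_fst _ _ _).trans (Category.id_comp _).symm)
  have hW : IsAlgSpace (pullback ν j) := isAlgSpace_of_isPullback_space hY hY' hV sN
  obtain ⟨b, hb₁, hb₂⟩ := (hn₁.2.2 hZ π (𝟙 Z) hπ (Category.id_comp _)).exists
  have e : b ≫ g = 𝟙 _ := (hn₁.2.2 hW _ g hn₁.2.1 hn₁.1).unique
    ⟨by rw [reassoc_of% hb₁], by rw [Category.assoc, sN.lift_snd, hb₂]⟩ ⟨Category.comp_id _, Category.id_comp _⟩
  haveI : IsIso g := ⟨b, hb₁, e⟩
  exact IsPullback.of_iso_pullback ⟨hn.1⟩ (asIso g) (sN.lift_fst _ _ _) (sN.lift_snd _ _ _)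

end Groth.Agent.RelNorm

end
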