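import Groth.Agent.RelNorm.SigmaInt
import Groth.Agent.SpQS.ConfStrat
import Groth.Agent.AlgSpLib.ChartMisc
import Groth.Agent.AlgSpLib.Cover

/-!
# Configurations are finite etale over the open strata
-/

set_option autoImplicit false
set_option backward.isDefEq.respectTransparency false
set_option backward.isDefEq.respectTransparency.types false
set_option linter.style.haveILetI false
universe u

open CategoryTheory CategoryTheory.Limits AlgebraicGeometry IsLocalRing Topology TopologicalSpace

noncomputable section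

namespace Groth.Agent.RelNorm

open _root_.AlgSp Groth.Agent.AlgSpLib

variable {S : Scheme.{u}}

/-- configurations with no further sheet form a finite etale cover -/
theorem exists_finite_etale_of_stratum {X : Sp S} (hX : IsAlgSpace X) {W : Over S} [IsAffine W.left]
    {π : (yon S).obj W ⟶ X} (hπe : RepWith @Etale π)
    {p : ℕ} (c : SpQS.Conf π p) (c' : SpQS.Conf π (p + 1)) {O : Set (Points X)} (hO : IsOpen O)
    (hOc : O ⊆ c.pts) (hOc' : Disjoint O c'.pts)
    (hqO : ∀ (T : Over S) (a : (yon S).obj T ⟶ X), CompactSpace ↥T.left → RepWith @QuasiCompact a)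
    (hc : CompactSpace ↥c.C.left) (hOq : RepWith @QuasiCompact (subInc O)) :
    ∃ (T : Over S) (ι' : T ⟶ c.C) (e : (yon S).obj T ⟶ subSheaf O), CompactSpace ↥T.left ∧
      IsOpenImmersion ι'.left ∧ RepWith @IsFinite e ∧ RepWith @Etale e ∧ RepWith @Surjective e ∧
      e ≫ subInc O = (yon S).map ι' ≫ (yon S).map (c.pr 0) ≫ π := by
  let G := (yon S).map (c.pr 0) ≫ π
  let V : c.C.left.Opens := ⟨Points.ofPt G ⁻¹' O, hO.preimage (Points.continuous_ofPt G)⟩
  let T : Over S := Over.mk (V.ι ≫ c.C.hom)
  let ι' : T ⟶ c.C := Over.homMk V.ι rfl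
  let g : (yon S).obj T ⟶ X := (yon S).map ι' ≫ G
  have hmem : ∀ t, Points.ofPt g t ∈ O := fun t => by
    rw [ofPt_comp]
    exact t.2
  obtain ⟨e, he⟩ := exists_subInc_lift g hmem
  have hA := isAlgSpace_subSheaf hX hO
  have hincO : RepWith @IsOpenImmersion (subInc O) := repWith_subInc hO
  have hGe : RepWith @Etale G := repWith_comp ((repWith_yon_iff (P := @Etale) (c.pr 0)).2 c.etale) hπe
  have hge : RepWith @Etale g :=
    repWith_comp ((repWith_yon_iff (P := @Etale) ι').2 (inferInstanceAs (Etale V.ι))) hGe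
  have hee : RepWith @Etale e := repWith_etale_of_comp hA hX (g := subInc O) (by rwa [he])
    (isEtaleMor_of_repWith' (repWith_mono (P := @IsOpenImmersion) (Q := @Etale)
      (fun _ _ r hr => have : IsOpenImmersion r := hr; inferInstance) hincO))
  have hGs : RepWith @IsSeparated G :=
    repWith_comp ((repWith_yon_iff (P := @IsSeparated) (c.pr 0)).2 c.sep) (isSeparated_chart hX π hπe.1).1
  have hgs : RepWith @IsSeparated g :=
    repWith_comp ((repWith_yon_iff (P := @IsSeparated) ι').2 (inferInstanceAs (IsSeparated V.ι))) hGs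
  have hes : RepWith @Surjective e := repWith_surjective_of_isSurjectiveMor hee.1
    (isSurjectiveMor_of_ofPt_surjective fun x => by
      obtain ⟨z, hz⟩ := hOc (map_subInc_mem x)
      have hzV : z ∈ V := show Points.ofPt G z ∈ O by rw [hz]; exact map_subInc_mem x
      refine ⟨⟨z, hzV⟩, ?_⟩
      have : Points.map (subInc O) (Points.ofPt e ⟨z, hzV⟩) = Points.map (subInc O) x := by
        rw [Points.map_ofPt, he, ofPt_comp, ← hz]
        rfl
      obtain ⟨r, h₁, h₂⟩ := exists_point_of_isPullback (IsKernelPair.id_of_mono (subInc O))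
        (Points.ofPt e ⟨z, hzV⟩) x this
      exact h₁.symm.trans h₂)
  have hT : CompactSpace ↥T.left := by
    obtain ⟨P, a, w, sq, hw⟩ := exists_repWith hOq G
    have : CompactSpace ↥c.C.left := hc
    have : QuasiCompact w.left := hw
    have : CompactSpace ↥P.left := QuasiCompact.compactSpace_of_compactSpace w.left
    have hV : (V : Set c.C.left) = Set.range w.left := by
      ext z
      constructor
      · intro hz
        obtain ⟨b, hb⟩ := exists_subInc_lift g hmem
        obtain ⟨l, hl⟩ := exists_map_eq (sq.lift b ((yon S).map ι') hb)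
        have : l ≫ w = ι' := (yon S).map_injective (by rw [Functor.map_comp, hl, sq.lift_snd])
        exact ⟨l.left ⟨z, hz⟩, congrArg (fun k : T ⟶ c.C => k.left ⟨z, hz⟩) this⟩
      · rintro ⟨r, rfl⟩
        show Points.ofPt G (w.left r) ∈ O
        rw [← ofPt_comp, ← sq.w]
        exact ofPt_subInc_mem a r
    exact isCompact_iff_compactSpace.1 (hV ▸ isCompact_range w.left.continuous)
  refine ⟨T, ι', e, hT, inferInstanceAs (IsOpenImmersion V.ι), ?_, hee, hes, he⟩
  -- the kernel pair splits into permutations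
  obtain ⟨R, r₁, r₂, sR⟩ := exists_pullback hX.diag g g
  have : Etale r₂.left := (repWith_yon_iff r₂).1 (repWith_baseChange sR hge)
  have : IsSeparated r₂.left := (repWith_yon_iff r₂).1 (repWith_baseChange sR hgs)
  choose a ha using fun σ : Equiv.Perm (Fin (p + 1)) => c.desc (fun i => ι' ≫ c.pr (σ i))
    (fun i => by rw [Functor.map_comp, Functor.map_comp, Category.assoc, Category.assoc, c.comm, c.comm (σ 0)])
    (fun i j h => (c.ne _ _ (fun e => h (σ.injective e))).comp V.ι)
  have haG : ∀ σ, (yon S).map (a σ) ≫ G = g := fun σ => by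
    show (yon S).map (a σ) ≫ (yon S).map (c.pr 0) ≫ π = g
    rw [← Category.assoc, ← Functor.map_comp, ha, Functor.map_comp, Category.assoc, c.comm]
  have haV : ∀ σ, ∃ a' : T ⟶ T, a' ≫ ι' = a σ := fun σ => by
    have hr : Set.range (a σ).left ⊆ Set.range V.ι := by
      rintro _ ⟨t, rfl⟩
      rw [Scheme.Opens.range_ι]
      show Points.ofPt G ((a σ).left t) ∈ O
      rw [← ofPt_comp, haG]
      exact hmem t
    refine ⟨Over.homMk (IsOpenImmersion.lift V.ι (a σ).left hr) ?_,
      Over.OverMorphism.ext (IsOpenImmersion.lift_fac _ _ _)⟩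
    show _ ≫ V.ι ≫ c.C.hom = T.hom
    rw [IsOpenImmersion.lift_fac_assoc, Over.w (a σ)]
  choose a' ha' using haV
  have hsec : ∀ σ, ∃ s : T ⟶ R, s ≫ r₁ = a' σ ∧ s ≫ r₂ = 𝟙 T := fun σ => by
    obtain ⟨s, hs⟩ := exists_map_eq (sR.lift ((yon S).map (a' σ)) (𝟙 _) (by
      rw [Category.id_comp, ← Category.assoc, ← Functor.map_comp, ha', haG]))
    exact ⟨s, (yon S).map_injective (by rw [Functor.map_comp, hs, sR.lift_fst]),
      (yon S).map_injective (by rw [Functor.map_comp, hs, sR.lift_snd, CategoryTheory.Functor.map_id])⟩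
  choose s hs₁ hs₂ using hsec
  have hsl : ∀ σ, (s σ).left ≫ r₂.left = 𝟙 _ := fun σ => congrArg CommaMorphism.left (hs₂ σ)
  have hso : ∀ σ, IsOpenImmersion (s σ).left := fun σ =>
    EtaleSections.isOpenImmersion_section r₂.left _ (hsl σ)
  have hpt : ∀ r : R.left, ∃ (Ω : Type u) (_ : Field Ω) (_ : IsAlgClosed Ω) (K : Over S)
      (e : Spec (CommRingCat.of Ω) ≅ K.left) (k : K ⟶ R), k.left (e.hom (closedPoint Ω)) = r := fun r => by
    obtain ⟨Ω, _, _, k, hk⟩ := SpQS.exists_geomPoint r
    exact ⟨Ω, inferInstance, inferInstance, Over.mk (k ≫ R.hom), Iso.refl _, Over.homMk k rfl, hk⟩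
  have key : ∀ σ {K : Over S} (k : K ⟶ T) i, k ≫ s σ ≫ r₁ ≫ ι' ≫ c.pr i = k ≫ ι' ≫ c.pr (σ i) :=
    fun σ K k i => by rw [reassoc_of% hs₁ σ, reassoc_of% ha' σ, ha]
  haveI := Groth.Agent.AlgSpLib.isLocallySurjective_of_atlas hee hes
  refine repWith_of_isLocallySurjective hee.1 (b := e) (b' := (yon S).map r₁) (a' := (yon S).map r₂) ?_ ?_
  rotate_left
  · refine (repWith_yon_iff (P := @IsFinite) r₂).2 ?_
    show IsFinite r₂.left
    have : IsIntegralHom r₂.left := by
      refine isIntegralHom_of_pieces' _ (fun σ : ULift.{u} (Equiv.Perm (Fin (p + 1))) =>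
        haveI := hso σ.down; (s σ.down).left.opensRange) (fun σ τ hστ => ?_) (fun r => ?_) fun σ => ?_
      · change Disjoint _ _
        rw [disjoint_iff]
        refine TopologicalSpace.Opens.ext (Set.eq_empty_iff_forall_notMem.2 fun r hr => ?_)
        obtain ⟨⟨x, hx⟩, ⟨y, hy⟩⟩ := hr
        have hxy : x = y := by
          have h := congrArg r₂.left (hx.trans hy.symm)
          rwa [← Scheme.Hom.comp_apply, ← Scheme.Hom.comp_apply, hsl, hsl] at h
        subst hxy
        obtain ⟨i, hi⟩ : ∃ i, σ.down i ≠ τ.down i := by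
          by_contra hall
          push Not at hall
          exact hστ (ULift.ext _ _ (Equiv.ext hall))
        obtain ⟨Ω, _, _, K, ee, k, hk⟩ := hpt ((s σ.down).left x)
        have hk' : ∀ ρ : ULift.{u} (Equiv.Perm (Fin (p + 1))), (s ρ.down).left x = (s σ.down).left x →
            k = (k ≫ r₂) ≫ s ρ.down := fun ρ hρ => by
          haveI := hso ρ.down
          have hsub : Subsingleton ↥K.left := ((Scheme.forget.mapIso ee).toEquiv.subsingleton_congr).1
            (inferInstanceAs (Subsingleton (PrimeSpectrum Ω)))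
          have hr : Set.range k.left ⊆ Set.range (s ρ.down).left := by
            rintro _ ⟨z, rfl⟩
            exact ⟨x, by rw [Subsingleton.elim z (ee.hom (closedPoint Ω)), hk, hρ]⟩
          have el := IsOpenImmersion.lift_fac (s ρ.down).left k.left hr
          refine Over.OverMorphism.ext ?_
          show k.left = (k.left ≫ r₂.left) ≫ (s ρ.down).left
          rw [← el]
          simp only [Category.assoc, reassoc_of% (hsl ρ.down)]
        have e1 := key σ.down (k ≫ r₂) i
        have e2 := key τ.down (k ≫ r₂) i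
        rw [← Category.assoc (k ≫ r₂), ← hk' σ rfl] at e1
        rw [← Category.assoc (k ≫ r₂), ← hk' τ (hy.trans hx.symm)] at e2
        exact c.ne _ _ hi Ω (ee.hom ≫ (k ≫ r₂ ≫ ι').left) (by
          have := congrArg (fun l : K ⟶ W => ee.hom ≫ l.left) (e1.symm.trans e2)
          simpa using this)
      · obtain ⟨Ω, _, _, K, ee, k, hk⟩ := hpt r
        obtain ⟨σ, hσ⟩ := c.exists_perm c' ee (k ≫ r₂ ≫ ι') (k ≫ r₁ ≫ ι') (by
          simp only [Functor.map_comp, Category.assoc]
          show _ ≫ _ ≫ g = _ ≫ _ ≫ g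
          rw [sR.w]) (fun z hz => by
          refine Set.disjoint_left.1 hOc' ?_ hz
          simp only [Functor.map_comp, Category.assoc]
          rw [show (yon S).map ι' ≫ (yon S).map (c.pr 0) ≫ π = g from rfl, ofPt_comp, ofPt_comp]
          exact hmem _)
        haveI := hso σ
        refine ⟨⟨σ⟩, r₂.left r, ?_⟩
        have : k ≫ r₁ ≫ ι' = k ≫ r₂ ≫ s σ ≫ r₁ ≫ ι' := c.ext _ _ fun i => by
          simp only [Category.assoc] at hσ ⊢
          rw [hσ, ← Category.assoc k r₂ (s σ ≫ _), key, Category.assoc]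
        have e' : k = k ≫ r₂ ≫ s σ := (yon S).map_injective (sR.hom_ext
          (by
            rw [← Functor.map_comp, ← Functor.map_comp]
            refine congrArg _ (Over.OverMorphism.ext ((cancel_mono V.ι).1 ?_))
            show _ = _
            simpa [ι'] using congrArg CommaMorphism.left this)
          (by rw [← Functor.map_comp, ← Functor.map_comp]; simp [hs₂]))
        rw [← hk]
        exact (congrArg (fun l : K ⟶ R => l.left (ee.hom (closedPoint Ω))) e').symm
      · haveI := hso σ.down
        rw [← MorphismProperty.cancel_left_of_respectsIso @IsIntegralHom (s σ.down).left.isoOpensRange.hom,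
          Scheme.Hom.isoOpensRange_hom_ι_assoc, hsl]
        infer_instance
    exact (IsFinite.iff_isIntegralHom_and_locallyOfFiniteType _).2 ⟨this, inferInstance⟩
  · have w : (yon S).map r₁ ≫ e = (yon S).map r₂ ≫ e := (cancel_mono (subInc O)).1 (by
      rw [Category.assoc, Category.assoc, he]; exact sR.w)
    exact ⟨⟨w⟩, ⟨PullbackCone.IsLimit.mk w
      (fun cn => sR.lift cn.fst cn.snd (by show _ ≫ g = _ ≫ g; rw [← he, reassoc_of% cn.condition]))
      (fun cn => sR.lift_fst _ _ _) (fun cn => sR.lift_snd _ _ _)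
      (fun cn m h₁ h₂ => sR.hom_ext (h₁.trans (sR.lift_fst _ _ _).symm) (h₂.trans (sR.lift_snd _ _ _).symm))⟩⟩

end Groth.Agent.RelNorm

end
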