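import Groth.Agent.RelNorm.SheetsStrata
import Groth.Agent.RelNorm.SheetsTorsor
import Groth.Agent.SpQS.Spectral
import Groth.Agent.AlgSpLib.PointMisc

/-!
# Integral scheme covers which are finite etale over a dense open
-/

set_option autoImplicit false
set_option backward.isDefEq.respectTransparency false
set_option backward.isDefEq.respectTransparency.types false
set_option linter.style.haveILetI false
universe u

open CategoryTheory CategoryTheory.Limits AlgebraicGeometry IsLocalRing Topology TopologicalSpace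

noncomputable section

namespace Groth.Agent.RelNorm

open _root_.AlgSp Groth.Agent.AlgSpLib

variable {S : Scheme.{u}}

/-- open pieces of the strata with dense union -/
theorem exists_dense_strata {α : Type*} [TopologicalSpace α] [PrespectralSpace α]
    (hirr : (irreducibleComponents α).Finite) (P : ℕ → Set α) (n : ℕ) (hP0 : P 0 = Set.univ) (hPn : P n = ∅)
    (hPo : ∀ q, IsOpen (P q)) :
    ∃ O : Fin n → Set α, (∀ q, IsOpen (O q) ∧ IsCompact (O q) ∧ O q ⊆ P q ∧ Disjoint (O q) (P (q + 1))) ∧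
      Dense (⋃ q, O q) := by
  classical
  have hV : ∀ Z ∈ irreducibleComponents α, ∃ (q : Fin n) (V : Set α), IsOpen V ∧ IsCompact V ∧
      V ⊆ P q ∧ Disjoint V (P (q + 1)) ∧ (V ∩ Z).Nonempty := by
    intro Z hZ
    let C : Set α := ⋃ Z' ∈ irreducibleComponents α \ {Z}, Z'
    have hCc : IsClosed C := (hirr.diff).isClosed_biUnion fun Z' h =>
      isClosed_of_mem_irreducibleComponents Z' h.1
    have hne : ¬ Z ⊆ C := fun h => by
      obtain ⟨Z', hZ', hsub⟩ := isIrreducible_iff_sUnion_isClosed.1 hZ.1 hirr.diff.toFinset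
        (fun z hz => isClosed_of_mem_irreducibleComponents z ((Set.Finite.mem_toFinset _).1 hz).1)
        (by rw [Set.Finite.coe_toFinset, Set.sUnion_eq_biUnion]; exact h)
      rw [Set.Finite.mem_toFinset] at hZ'
      exact hZ'.2 (hZ.2 hZ'.1.1 hsub |>.antisymm hsub)
    have hex : ∃ q, ¬ ((P q ∩ Cᶜ).Nonempty) := ⟨n, by rw [hPn]; simp⟩
    obtain ⟨x₀, hx₀, hx₀C⟩ := Set.not_subset.1 hne
    have h0 : Nat.find hex ≠ 0 := fun h => (h ▸ Nat.find_spec hex) ⟨x₀, by rw [hP0]; trivial, hx₀C⟩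
    obtain ⟨q, hq⟩ : ∃ q, Nat.find hex = q + 1 := ⟨Nat.find hex - 1, by omega⟩
    have hqn : q < n := by
      have := Nat.find_min' hex (show ¬ ((P n ∩ Cᶜ).Nonempty) by rw [hPn]; simp)
      omega
    obtain ⟨x, hx⟩ := not_not.1 (Nat.find_min hex (by omega : q < Nat.find hex))
    obtain ⟨V, ⟨hVo, hVc⟩, hxV, hVP⟩ := (PrespectralSpace.isTopologicalBasis (X := α)).exists_subset_of_mem_open hx
      ((hPo q).inter hCc.isOpen_compl)
    refine ⟨⟨q, hqn⟩, V, hVo, hVc, fun y hy => (hVP hy).1, Set.disjoint_left.2 fun y hy hy' => ?_, x, hxV, ?_⟩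
    · exact (hq ▸ Nat.find_spec hex) ⟨y, hy', (hVP hy).2⟩
    · have hZ' := irreducibleComponent_mem_irreducibleComponents x
      have hxZ' := mem_irreducibleComponent (x := x)
      by_contra hxZ
      exact hx.2 (Set.mem_biUnion (show irreducibleComponent x ∈ irreducibleComponents α \ {Z} from ⟨hZ', fun e => hxZ (e ▸ hxZ')⟩) hxZ')
  choose qZ V hVo hVc hVP hVd hVZ using hV
  refine ⟨fun q => ⋃ Z : {Z // Z ∈ irreducibleComponents α}, ⋃ _ : qZ Z.1 Z.2 = q, V Z.1 Z.2, fun q => ⟨?_, ?_, ?_, ?_⟩, ?_⟩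
  · exact isOpen_iUnion fun Z => isOpen_iUnion fun _ => hVo _ _
  · haveI : Finite {Z // Z ∈ irreducibleComponents α} := hirr.to_subtype
    exact isCompact_iUnion fun Z => isCompact_iUnion fun _ => hVc _ _
  · exact Set.iUnion_subset fun Z => Set.iUnion_subset fun h => h ▸ hVP _ _
  · simp only [Set.disjoint_iUnion_left]
    exact fun Z h => h ▸ hVd _ _
  · intro x
    obtain ⟨Z, hZ, hxZ⟩ : ∃ Z ∈ irreducibleComponents α, x ∈ Z :=
      ⟨_, irreducibleComponent_mem_irreducibleComponents x, mem_irreducibleComponent⟩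
    have := subset_closure_inter_of_isPreirreducible_of_isOpen hZ.1.2 (hVo Z hZ) ((hVZ Z hZ).mono fun y hy => ⟨hy.2, hy.1⟩)
    refine closure_mono ?_ (this hxZ)
    rintro y ⟨-, hy⟩
    exact Set.mem_iUnion.2 ⟨qZ Z hZ, Set.mem_iUnion₂.2 ⟨⟨Z, hZ⟩, rfl, hy⟩⟩

/-- inclusions of quasi-compact opens -/
theorem repWith_qc_subInc [QuasiSeparatedSpace ↥S] {X : Sp S} (hX : IsAlgSpace X) (hqs : IsQuasiSeparatedSp X)
    {O : Set (Points X)} (hO : IsOpen O) (hOc : IsCompact O) :
    RepWith @QuasiCompact (subInc O) ∧ IsQuasiCompactSp (subSheaf O) := by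
  have hA := isAlgSpace_subSheaf hX hO
  have hemb := (immersion_topology hX (repWith_mono (P := @IsOpenImmersion) (Q := @IsImmersion)
    (fun _ _ r (hr : IsOpenImmersion r) => (inferInstance : IsImmersion r)) (repWith_subInc hO))).1
  haveI : CompactSpace (Points (subSheaf O)) :=
    ⟨by rw [hemb.isCompact_iff, Set.image_univ, range_subInc]; exact hOc⟩
  have hq := isQuasiCompactSp_of_compactSpace hA
  exact ⟨(isQuasiCompactMor_iff_repWith hA hX (repWith_subInc hO).1).1
    (SpQS.isQuasiCompactMor_of_qc_qs hA hX _ hq hqs), hq⟩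

/-- relatively clopen open subspaces are closed subspaces -/
theorem exists_closedImmersion_incl {X : Sp S} {O U : Set (Points X)} (hO : IsOpen O) (hOU : O ⊆ U)
    {O' : Set (Points X)} (hO' : IsOpen O') (hU : U ⊆ O ∪ O') (hd : Disjoint O O') :
    ∃ i : subSheaf O ⟶ subSheaf U, i ≫ subInc U = subInc O ∧ RepWith @IsClosedImmersion i ∧
      RepWith @IsOpenImmersion i := by
  obtain ⟨i, hi⟩ := exists_factor_subInc (W := U) (subInc O) fun x => hOU (map_subInc_mem x)
  have key : ∀ ⦃T : Over S⦄ (ξ : (yon S).obj T ⟶ subSheaf U), ∃ (V : Over S) (j : V ⟶ T) (a : (yon S).obj V ⟶ subSheaf O),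
      IsPullback a ((yon S).map j) i ξ ∧ IsOpenImmersion j.left ∧ IsClosedImmersion j.left := by
    intro T ξ
    let B : T.left.Opens := ⟨Points.ofPt (ξ ≫ subInc U) ⁻¹' O, hO.preimage (Points.continuous_ofPt _)⟩
    let V : Over S := Over.mk (B.ι ≫ T.hom)
    let j : V ⟶ T := Over.homMk B.ι rfl
    obtain ⟨a, ha⟩ := exists_subInc_lift ((yon S).map j ≫ ξ ≫ subInc U) fun v => by
      rw [ofPt_comp]; exact v.2
    have w : a ≫ i = (yon S).map j ≫ ξ := by
      rw [← cancel_mono (subInc U), Category.assoc, hi, ha, Category.assoc]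
    haveI : Mono i := mono_of_mono_fac hi
    refine ⟨V, j, a, isPullback_of_points w fun T' y z hyz => ?_, inferInstanceAs (IsOpenImmersion B.ι), ?_⟩
    · obtain ⟨z, rfl⟩ := exists_map_eq z
      have hr : Set.range z.left ⊆ Set.range B.ι := by
        rintro _ ⟨t, rfl⟩
        rw [Scheme.Opens.range_ι]
        show Points.ofPt (ξ ≫ subInc U) (z.left t) ∈ O
        rw [← ofPt_comp, ← Category.assoc, ← hyz, Category.assoc, hi]
        exact ofPt_subInc_mem y t
      let l : T' ⟶ V := Over.homMk (IsOpenImmersion.lift B.ι z.left hr) (by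
        show _ ≫ B.ι ≫ T.hom = T'.hom
        rw [IsOpenImmersion.lift_fac_assoc, Over.w z])
      have hl : l ≫ j = z := Over.OverMorphism.ext (IsOpenImmersion.lift_fac _ _ _)
      refine ⟨(yon S).map l, ⟨?_, by rw [← Functor.map_comp, hl]⟩, fun l' hl' => ?_⟩
      · rw [← cancel_mono i, Category.assoc, w, ← Functor.map_comp_assoc, hl, hyz]
      · obtain ⟨l', rfl⟩ := exists_map_eq l'
        refine congrArg _ (Over.OverMorphism.ext ((cancel_mono B.ι).1 ?_))
        exact (congrArg CommaMorphism.left ((yon S).map_injective (((yon S).map_comp _ _).trans hl'.2))).trans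
          (congrArg CommaMorphism.left hl).symm
    · refine IsClosedImmersion.of_isPreimmersion (f := B.ι) ?_
      have : (B : Set T.left) = (Points.ofPt (ξ ≫ subInc U) ⁻¹' O')ᶜ := by
        ext t
        exact ⟨fun h h' => Set.disjoint_left.1 hd h h',
          fun h => (hU (ofPt_subInc_mem ξ t)).resolve_right h⟩
      rw [Scheme.Opens.range_ι, this]
      exact (hO'.preimage (Points.continuous_ofPt _)).isClosed_compl
  refine ⟨i, hi, repWith_of_exists fun T ξ => ?_, repWith_of_exists fun T ξ => ?_⟩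
  · obtain ⟨V, j, a, sq, -, hj⟩ := key ξ
    exact ⟨V, a, j, sq, hj⟩
  · obtain ⟨V, j, a, sq, hj, -⟩ := key ξ
    exact ⟨V, a, j, sq, hj⟩

/-- a morphism from the empty space is finite and etale -/
theorem repWith_finite_etale_of_isEmpty {P V : Sp S} (snd : P ⟶ V) (hrep : Representable snd)
    (he : ∀ (T : Over S) (_ : (yon S).obj T ⟶ P), IsEmpty T.left) :
    RepWith @IsFinite snd ∧ RepWith @Etale snd := by
  refine ⟨⟨hrep, fun U T ξ a b sq => ?_⟩, ⟨hrep, fun U T ξ a b sq => ?_⟩⟩
  · haveI := he T a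
    haveI : IsClosedImmersion b.left :=
      IsClosedImmersion.of_isPreimmersion b.left (by rw [Set.range_eq_empty]; exact isClosed_empty)
    exact (inferInstance : IsFinite b.left)
  · haveI := he T a
    haveI : IsOpenImmersion b.left := isOpenImmersion_of_isEmpty _
    exact (inferInstance : Etale b.left)

/-- integral scheme covers which are finite etale over a dense quasi-compact open -/
theorem exists_integral_cover_etale [QuasiSeparatedSpace ↥S] (X : Space S) (hqc : IsQuasiCompactSp X.obj)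
    (hqs : IsQuasiSeparatedSp X.obj) (hirr : (irreducibleComponents (Points X.obj)).Finite)
    {U : Over S} (b : (yon S).obj U ⟶ X.obj) (hb : RepWith @Etale b) (hbs : RepWith @Surjective b) :
    ∃ (Y : Over S) (g : (yon S).obj Y ⟶ X.obj) (Ω : Set (Points X.obj)), IsOpen Ω ∧
      IsQuasiCompactSp (subSheaf Ω) ∧ Dense Ω ∧ RepWith @IsIntegralHom g ∧ RepWith @Surjective g ∧
      (∀ (P : Sp S) (fst : P ⟶ (yon S).obj Y) (snd : P ⟶ subSheaf Ω), IsPullback fst snd g (subInc Ω) →
        RepWith @IsFinite snd ∧ RepWith @Etale snd) ∧ LocFac b g := by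
  classical
  obtain ⟨hA⟩ : Nonempty (IsAlgSpace X.obj) := ⟨X.property⟩
  haveI := compactSpace_of_isQuasiCompactSp hqc
  haveI := SpQS.spectralSpace_points hA hqc hqs
  obtain ⟨W, c₀, hW, hπe, hπs⟩ := exists_affine_chart_over hb hbs
  let π := (yon S).map c₀ ≫ b
  have hqX : ∀ (T : Over S) (a : (yon S).obj T ⟶ X.obj), CompactSpace ↥T.left → RepWith @QuasiCompact a :=
    fun T a hT => (isQuasiCompactMor_iff_repWith (IsAlgSpace.yon_obj T) hA
      (Functor.relativelyRepresentable.of_diag hA.diag a)).1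
      (SpQS.isQuasiCompactMor_of_qc_qs (IsAlgSpace.yon_obj T) hA a (isQuasiCompactSp_yon T) hqs)
  have hπq : RepWith @QuasiCompact π := hqX W π inferInstance
  let cs : ∀ p, SpQS.Conf π p := fun p => (SpQS.exists_conf hA hπe p).some
  obtain ⟨n, hn⟩ := exists_pts_bound hA hπe hπs hπq hqX cs
  obtain ⟨O, hO, hOd⟩ := exists_dense_strata hirr (fun q => (cs q).pts) n ((cs 0).pts_zero hπs) hn
    (fun q => (cs q).isOpen_pts hπe)
  let Ω := ⋃ q, O q
  have hΩo : IsOpen Ω := isOpen_iUnion fun q => (hO q).1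
  have hΩc : IsCompact Ω := isCompact_iUnion fun q => (hO q).2.1
  obtain ⟨hΩq, hΩs⟩ := repWith_qc_subInc hA hqs hΩo hΩc
  have hΩA := isAlgSpace_subSheaf hA hΩo
  have hsub : ∀ {a b}, a ≤ b → (cs b).pts ⊆ (cs a).pts := fun {a b} h => by
    induction h with
    | refl => exact subset_rfl
    | @step m _ ih => exact ((cs m).pts_mono (cs (m + 1))).trans ih
  have hOdisj : ∀ q q' : Fin n, q.1 < q'.1 → Disjoint (O q) (O q') := fun q q' h =>
    (hO q).2.2.2.mono_right ((hO q').2.2.1.trans (hsub h))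
  -- the closed pieces away from the dense open
  have hA' : ∀ q : Fin n, ∃ (Y : Over S) (gY : (yon S).obj Y ⟶ X.obj), RepWith @IsIntegralHom gY ∧
      LocFac π gY ∧ ((cs q).pts \ (cs (q + 1)).pts) \ Ω ⊆ Set.range (Points.ofPt gY) ∧
      Set.range (Points.ofPt gY) ⊆ Ωᶜ := by
    intro q
    let c := cs q
    let G := (yon S).map (c.pr 0) ≫ π
    let D : Set c.C.left := Points.ofPt G ⁻¹' ((cs (q + 1)).pts ∪ Ω)ᶜ
    have hD : IsClosed D :=
      (((cs (q + 1)).isOpen_pts hπe).union hΩo).isClosed_compl.preimage (Points.continuous_ofPt _)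
    let I := Scheme.IdealSheafData.vanishingIdeal (⟨D, hD⟩ : Closeds c.C.left)
    have hrange : Set.range I.subschemeι = D := by
      rw [I.range_subschemeι, Scheme.IdealSheafData.coe_support_vanishingIdeal]
      rfl
    let T : Over S := Over.mk (I.subschemeι ≫ c.C.hom)
    let ι' : T ⟶ c.C := Over.homMk I.subschemeι rfl
    let g : (yon S).obj T ⟶ X.obj := (yon S).map ι' ≫ G
    haveI := c.compact hπq
    haveI := c.sep
    haveI : CompactSpace ↥T.left := QuasiCompact.compactSpace_of_compactSpace I.subschemeι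
    have hgD : ∀ t, Points.ofPt g t ∈ ((cs (q + 1)).pts ∪ Ω)ᶜ := fun t => by
      rw [ofPt_comp]
      exact hrange.subset ⟨t, rfl⟩
    have hsep : RepWith @IsSeparated g := by
      refine repWith_comp ((repWith_yon_iff (P := @IsSeparated) ι').2 (inferInstanceAs (IsSeparated I.subschemeι)))
        (repWith_comp ((repWith_yon_iff (P := @IsSeparated) (c.pr 0)).2 c.sep) (isSeparated_chart hA π hπe.1).1)
    have hcomm : ∀ i, (yon S).map (ι' ≫ c.pr i) ≫ π = g := fun i => by
      rw [Functor.map_comp, Category.assoc, c.comm i]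
    obtain ⟨Y, gY, f', -, hint, hloc, hsup, hcl⟩ := exists_normalization_of_sheets hA hπe hπs hπq
      (fun i => ι' ≫ c.pr i) (g := g) (hqX T g inferInstance)
      (repWith_mono (fun _ _ r (hr : IsSeparated r) => (inferInstance : QuasiSeparated r)) hsep) hcomm
      (fun i j h => (c.ne i j h).comp I.subschemeι)
      (all_sheets c (cs (q + 1)) ι' hcomm fun t h => hgD t (Or.inl h))
    refine ⟨Y, gY, hint, hloc, ?_, hcl.trans (closure_minimal ?_ hΩo.isClosed_compl)⟩
    · rintro x ⟨⟨⟨z, rfl⟩, hx⟩, hx'⟩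
      obtain ⟨t, rfl⟩ := hrange.symm.subset (show z ∈ D from fun h => h.elim hx hx')
      exact hsup ⟨t, ofPt_comp ι' _ t⟩
    · rintro _ ⟨t, rfl⟩ h
      exact hgD t (Or.inr h)
  -- the finite etale pieces
  have hB' : ∀ q : Fin n, ∃ (Y : Over S) (gY : (yon S).obj Y ⟶ X.obj), RepWith @IsIntegralHom gY ∧
      LocFac π gY ∧ O q ⊆ Set.range (Points.ofPt gY) ∧
      ∀ (P : Sp S) (fst : P ⟶ (yon S).obj Y) (snd : P ⟶ subSheaf Ω), IsPullback fst snd gY (subInc Ω) →
        RepWith @IsFinite snd ∧ RepWith @Etale snd := by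
    intro q
    obtain ⟨hqo, hqcq, hqP, hqd⟩ := hO q
    haveI hcc := (cs q).compact hπq
    obtain ⟨T, ι', e, hT, hιo, hef, hee, hes, hfac⟩ := exists_finite_etale_of_stratum hA hπe (cs q) (cs (q + 1))
      hqo hqP hqd hqX hcc (repWith_qc_subInc hA hqs hqo hqcq).1
    let O' : Set (Points X.obj) := ⋃ q' : {q' : Fin n // q' ≠ q}, O q'
    obtain ⟨i, hi, hicl, hiop⟩ := exists_closedImmersion_incl (U := Ω) hqo (Set.subset_iUnion O q)
      (O' := O') (isOpen_iUnion fun q' => (hO q').1)
      (Set.iUnion_subset fun q' => by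
        rcases eq_or_ne q' q with rfl | h
        · exact Set.subset_union_left
        · exact (Set.subset_iUnion (fun q'' : {q' : Fin n // q' ≠ q} => O q'') ⟨q', h⟩).trans Set.subset_union_right)
      (Set.disjoint_iUnion_right.2 fun q' => by
        rcases lt_or_gt_of_ne (fun h => q'.2 (Fin.ext h) : (q'.1.1 ≠ q.1)) with h | h
        · exact (hOdisj _ _ h).symm
        · exact hOdisj _ _ h)
    let g : (yon S).obj T ⟶ X.obj := e ≫ subInc (O q)
    have hgq : RepWith @QuasiCompact g := hqX T g hT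
    have hsep : RepWith @IsSeparated g :=
      repWith_comp (repWith_mono (fun _ _ r (hr : IsFinite r) => (inferInstance : IsSeparated r)) hef)
        (repWith_mono (fun _ _ r (hr : IsOpenImmersion r) => (inferInstance : IsSeparated r)) (repWith_subInc hqo))
    have hqsep := repWith_mono (fun _ _ r (hr : IsSeparated r) => (inferInstance : QuasiSeparated r)) hsep
    have hcomm : ∀ i, (yon S).map (ι' ≫ (cs q).pr i) ≫ π = g := fun i => by
      rw [Functor.map_comp, Category.assoc, (cs q).comm i, ← hfac]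
    haveI := hιo
    obtain ⟨Y, gY, f', hn, hint, hloc, hsup, -⟩ := exists_normalization_of_sheets hA hπe hπs hπq
      (fun i => ι' ≫ (cs q).pr i) (g := g) hgq hqsep hcomm
      (fun i j h => ((cs q).ne i j h).comp ι'.left)
      (all_sheets (cs q) (cs (q + 1)) ι' hcomm fun t h => Set.disjoint_left.1 hqd (ofPt_subInc_mem e t) h)
    refine ⟨Y, gY, hint, hloc, fun x hx => hsup ?_, fun P fst snd sq => ?_⟩
    · obtain ⟨x', rfl⟩ := (range_subInc (O q)).symm.subset hx
      obtain ⟨t, rfl⟩ := ofPt_surjective hes x'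
      exact ⟨t, (Points.map_ofPt _ _ _).symm⟩
    · have heU : RepWith @IsFinite (e ≫ i) :=
        repWith_comp hef (repWith_mono (fun _ _ r (hr : IsClosedImmersion r) => (inferInstance : IsFinite r)) hicl)
      have heE : RepWith @Etale (e ≫ i) :=
        repWith_comp hee (repWith_mono (fun _ _ r (hr : IsOpenImmersion r) => (inferInstance : Etale r)) hiop)
      have sT := isPullback_of_normalization hΩA hA (IsAlgSpace.yon_obj T) (IsAlgSpace.yon_obj Y) (subInc Ω)
        (repWith_subInc hΩo) (e ≫ i)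
        ((isIntegralMor_iff_repWith _).2 (repWith_mono (fun _ _ r (hr : IsFinite r) => (inferInstance : IsIntegralHom r)) heU))
        (g := g) (by rw [Category.assoc, hi])
        ((isQuasiCompactMor_iff_repWith (IsAlgSpace.yon_obj T) hA hgq.1).2 hgq)
        ((isQuasiSeparatedMor_iff_repWith (IsAlgSpace.yon_obj T) hA hsep.1).2 hqsep) hn
      rw [← sq.isoIsPullback_hom_snd _ _ sT]
      exact ⟨(repWith_iso_comp_iff _ _).2 heU, (repWith_iso_comp_iff _ _).2 heE⟩
  choose Ya ga hga hla hsa hda using hA'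
  choose Yb gb hgb hlb hsb hfb using hB'
  let ι := ULift.{u} (Fin n ⊕ Fin n)
  let Yc : ι → Over S := fun i => Sum.elim Ya Yb i.down
  let gc : ∀ i : ι, (yon S).obj (Yc i) ⟶ X.obj := fun i => match i with
    | ⟨.inl q⟩ => ga q
    | ⟨.inr q⟩ => gb q
  obtain ⟨Y, g, j, hg, hjo, hjg, hjcov⟩ := exists_sigma_integral hA Yc gc (fun i => by
    rcases i with ⟨q | q⟩
    · exact hga q
    · exact hgb q)
  refine ⟨Y, g, Ω, hΩo, hΩs, hOd, hg, repWith_surjective_of_isSurjectiveMor hg.1
    (isSurjectiveMor_of_ofPt_surjective fun x => ?_),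
    fun P fst snd sq => repWith_finite_etale_of_pieces (subInc Ω) hg.1 hg j hjo hjcov ?_ sq, fun y => ?_⟩
  · have hmk : ∀ (i : ι), x ∈ Set.range (Points.ofPt (gc i)) → x ∈ Set.range (Points.ofPt g) := by
      rintro i ⟨v, rfl⟩
      exact ⟨(j i).left v, by rw [← ofPt_comp, hjg]⟩
    by_cases hx : x ∈ Ω
    · obtain ⟨q, hq⟩ := Set.mem_iUnion.1 hx
      exact hmk ⟨.inr q⟩ (hsb q hq)
    · have hex : ∃ q, x ∉ (cs q).pts := ⟨n, by rw [hn]; exact id⟩
      have h0 : Nat.find hex ≠ 0 := fun h => (h ▸ Nat.find_spec hex) (by rw [(cs 0).pts_zero hπs]; trivial)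
      obtain ⟨q, hq⟩ : ∃ q, Nat.find hex = q + 1 := ⟨Nat.find hex - 1, by omega⟩
      have hqn : q < n := by
        have := Nat.find_min' hex (show x ∉ (cs n).pts by rw [hn]; exact id)
        omega
      exact hmk ⟨.inl ⟨q, hqn⟩⟩ (hsa ⟨q, hqn⟩
        ⟨⟨not_not.1 (Nat.find_min hex (by omega : q < Nat.find hex)), hq ▸ Nat.find_spec hex⟩, hx⟩)
  · intro i
    rw [hjg i]
    rcases i with ⟨q | q⟩
    · intro P fst snd sq
      refine repWith_finite_etale_of_isEmpty snd (repWith_baseChange sq (hga q)).1 fun T z => ⟨fun t => ?_⟩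
      obtain ⟨l, hl⟩ : ∃ l : T ⟶ Ya q, (yon S).map l = z ≫ fst := exists_map_eq _
      apply hda q ⟨l.left t, rfl⟩
      rw [← ofPt_comp, hl]
      have e : (z ≫ fst) ≫ ga q = (z ≫ snd) ≫ subInc Ω := by
        rw [Category.assoc, Category.assoc]; exact congrArg (z ≫ ·) sq.w
      rw [e]
      exact ofPt_subInc_mem _ t
    · exact hfb q
  · obtain ⟨i, v, rfl⟩ := hjcov y
    have hloc : LocFac π (gc i) := by
      rcases i with ⟨q | q⟩
      · exact hla q
      · exact hlb q
    obtain ⟨B, k, hv, hk⟩ := hloc v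
    haveI := hjo i
    let B' : Y.left.Opens := (j i).left ''ᵁ B
    let q : Over.mk (B'.ι ≫ Y.hom) ⟶ Over.mk (B.ι ≫ (Yc i).hom) :=
      Over.homMk ((j i).left.isoImage B).inv (by
        show ((j i).left.isoImage B).inv ≫ B.ι ≫ (Yc i).hom = B'.ι ≫ Y.hom
        rw [← Over.w (j i), Scheme.Hom.isoImage_inv_ι_assoc])
    have hq : q ≫ (Over.homMk B.ι rfl : Over.mk (B.ι ≫ (Yc i).hom) ⟶ Yc i) ≫ j i =
        (Over.homMk B'.ι rfl : Over.mk (B'.ι ≫ Y.hom) ⟶ Y) :=
      Over.OverMorphism.ext (Scheme.Hom.isoImage_inv_ι (j i).left B)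
    refine ⟨B', q ≫ k ≫ c₀, ⟨v, hv, rfl⟩, ?_⟩
    rw [← hq]
    simp only [Functor.map_comp, Category.assoc]
    rw [hjg i, ← hk]

end Groth.Agent.RelNorm

end
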