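import Groth.Agent.RelNorm.Affine

/-!
# Relative normalization over a disjoint union of affine schemes
-/

set_option autoImplicit false
set_option backward.isDefEq.respectTransparency false
set_option backward.isDefEq.respectTransparency.types false
set_option linter.style.haveILetI false
universe u

open CategoryTheory CategoryTheory.Limits AlgebraicGeometry

noncomputable section

namespace Groth.Agent.RelNorm

open _root_.AlgSp Groth.Agent.AlgSpLib

variable {S : Scheme.{u}}

theorem exists_norm_sigma {ι : Type u} (V : ι → Scheme.{u}) [∀ i, IsAffine (V i)] (q : (∐ V) ⟶ S) {Y : Sp S}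
    (hY : IsAlgSpace Y) (f : Y ⟶ (yon S).obj (Over.mk q)) (hqc : AlgSp.IsQuasiCompactMor f)
    (hqs : IsQuasiSeparatedMor f) :
    ∃ (N : Over S) (ν : N ⟶ Over.mk q) (g : Y ⟶ (yon S).obj N) (hg : g ≫ (yon S).map ν = f),
      IsIntegralHom ν.left ∧ SmNorm f ((yon S).map ν) g hg := by
  let U : Over S := Over.mk q
  let Ui : ι → Over S := fun i => Over.mk (Sigma.ι V i ≫ q)
  let κ : ∀ i, Ui i ⟶ U := fun i => Over.homMk (Sigma.ι V i) rfl
  have hκ : ∀ i, IsOpenImmersion (κ i).left := fun i => inferInstanceAs (IsOpenImmersion (Sigma.ι V i))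
  have hUi : ∀ i, IsAffine (Ui i).left := fun i => inferInstanceAs (IsAffine (V i))
  have hPi : ∀ i, IsAlgSpace (pullback f ((yon S).map (κ i))) := fun i =>
    isAlgSpace_of_isPullback_space (IsAlgSpace.yon_obj _) hY (IsAlgSpace.yon_obj _) (IsPullback.of_hasPullback _ _)
  have hqci : ∀ i, AlgSp.IsQuasiCompactMor (pullback.snd f ((yon S).map (κ i))) :=
    fun i Z Z' hZ hZq g fst snd sq =>
      hqc hZ hZq _ _ _ (sq.paste_horiz (IsPullback.of_hasPullback f ((yon S).map (κ i))))
  choose Ni νi gi hgi hνi Hi using fun i =>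
    haveI := hUi i
    exists_norm_affine_sp (hPi i) (pullback.snd f ((yon S).map (κ i))) (hqci i)
      (isQuasiSeparatedMor_baseChange (IsPullback.of_hasPullback _ _) hqs)
  let N : Over S := Over.mk (Sigma.desc fun i => (Ni i).hom)
  let νl : N.left ⟶ ∐ V := Limits.Sigma.map fun i => (νi i).left
  have hνl : νl ≫ q = N.hom := by
    refine Sigma.hom_ext _ _ fun i => ?_
    rw [show Sigma.ι _ i ≫ N.hom = (Ni i).hom from Sigma.ι_desc _ _, Limits.Sigma.ι_map_assoc]
    exact Over.w (νi i)
  let ν : N ⟶ U := Over.homMk νl hνl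
  let κN : ∀ i, Ni i ⟶ N := fun i => Over.homMk (Sigma.ι (fun i => (Ni i).left) i) (Sigma.ι_desc _ _)
  have sql : ∀ i, IsPullback (κN i).left (νi i).left ν.left (κ i).left := fun i => by
    show IsPullback (Sigma.ι (fun i => (Ni i).left) i) (νi i).left νl (Sigma.ι V i)
    refine (IsOpenImmersion.isPullback (νi i).left (Sigma.ι (fun i => (Ni i).left) i) (Sigma.ι V i) νl
      (Limits.Sigma.ι_map _ _) ?_).flip
    ext x
    constructor
    · rintro ⟨y, hy⟩
      obtain ⟨k, z, rfl⟩ : ∃ (k : ι) (z : (Ni k).left), Sigma.ι (fun i => (Ni i).left) k z = x :=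
        (sigmaOpenCover fun i => (Ni i).left).exists_eq x
      have hk : Sigma.ι V k ((νi k).left z) = Sigma.ι V i y := by
        refine Eq.trans ?_ hy.symm
        refine ((Scheme.Hom.comp_apply _ _ z).symm.trans ?_).trans (Scheme.Hom.comp_apply _ _ z)
        exact congrArg (fun h : (Ni k).left ⟶ ∐ V => h z) (Limits.Sigma.ι_map (fun i => (νi i).left) k).symm
      obtain ⟨rfl⟩ := (sigmaι_eq_iff _ _ _ _ _).1 hk
      exact ⟨z, rfl⟩
    · rintro ⟨z, rfl⟩
      exact ⟨(νi i).left z, by rw [← Scheme.Hom.comp_apply, ← Scheme.Hom.comp_apply, Limits.Sigma.ι_map]⟩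
  have sqN : ∀ i, IsPullback (κN i) (νi i) ν (κ i) := fun i =>
    IsPullback.of_map_of_faithful (Over.forget S) (sql i)
  have hcov : Presieve.ofArrows (fun i => (Ui i).left) (fun i => (κ i).left) ∈ Scheme.zariskiPrecoverage U.left :=
    (sigmaOpenCover V).mem₀
  obtain ⟨g, hg, -⟩ := exists_glue f κ (fun i => gi i ≫ (yon S).map (κN i)) hcov
    (fun i i' T a b e => by
      by_cases hii : i = i'
      · subst hii
        haveI : Mono (κ i) := (Over.forget S).mono_of_mono_map (inferInstanceAs (Mono (κ i).left))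
        have : a = b := pullback.hom_ext e ((cancel_mono ((yon S).map (κ i))).1 (by
          rw [Category.assoc, Category.assoc, ← pullback.condition, reassoc_of% e]))
        rw [this]
      · obtain ⟨a', ha'⟩ := exists_map_eq (a ≫ pullback.snd f ((yon S).map (κ i)))
        obtain ⟨b', hb'⟩ := exists_map_eq (b ≫ pullback.snd f ((yon S).map (κ i')))
        have h : a' ≫ κ i = b' ≫ κ i' := (yon S).map_injective (by
          rw [Functor.map_comp, Functor.map_comp, ha', hb', Category.assoc, Category.assoc, ← pullback.condition,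
            ← pullback.condition, reassoc_of% e])
        have : IsEmpty T.left := isEmpty_of_commSq_sigmaι_of_ne (g := V) ⟨congrArg CommaMorphism.left h⟩ hii
        exact (subsingleton_hom_of_isEmpty (W := T)).elim _ _)
  have hgν : g ≫ (yon S).map ν = f := hom_ext_pieces f κ hcov fun i => by
    rw [reassoc_of% hg i, ← Functor.map_comp, (sqN i).w, Functor.map_comp, reassoc_of% hgi i, pullback.condition]
  have hint : IsIntegralHom ν.left := by
    show IsIntegralHom νl
    rw [IsZariskiLocalAtTarget.iff_of_openCover (P := @IsIntegralHom) (sigmaOpenCover V)]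
    intro (i : ι)
    show IsIntegralHom (pullback.snd νl (Sigma.ι V i))
    have sqi : IsPullback (κN i).left (νi i).left νl (Sigma.ι V i) := sql i
    exact ((MorphismProperty.cancel_left_of_respectsIso (P := @IsIntegralHom) sqi.isoPullback.hom _).1 (by
      rw [IsPullback.isoPullback_hom_snd]; exact hνi i))
  refine ⟨N, ν, g, hgν, hint, smNorm_of_local hgν (IsAlgSpace.yon_obj U) fun U' u hu x => ?_⟩
  obtain ⟨u', hu'⟩ := exists_map_eq u
  obtain ⟨i, y, hy⟩ : ∃ (i : ι) (y : V i), Sigma.ι V i y = u'.left x :=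
    (sigmaOpenCover V).exists_eq (u'.left x)
  let O : U'.left.Opens := u'.left ⁻¹ᵁ (Sigma.ι V i).opensRange
  let W : Over S := Over.mk (Scheme.Opens.ι O ≫ U'.hom)
  let j : W ⟶ U' := Over.homMk (Scheme.Opens.ι O) rfl
  have hrange : Set.range (Scheme.Opens.ι O ≫ u'.left) ⊆ Set.range (Sigma.ι V i) := by
    rintro _ ⟨w, rfl⟩
    exact w.2
  let vl : W.left ⟶ V i := IsOpenImmersion.lift (Sigma.ι V i) (Scheme.Opens.ι O ≫ u'.left) hrange
  have hvl : vl ≫ Sigma.ι V i = Scheme.Opens.ι O ≫ u'.left := IsOpenImmersion.lift_fac _ _ _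
  let v : W ⟶ Ui i := Over.homMk vl (by
    show vl ≫ Sigma.ι V i ≫ q = Scheme.Opens.ι O ≫ U'.hom
    rw [reassoc_of% hvl]
    congr 1
    exact Over.w u')
  have hvj : v ≫ κ i = j ≫ u' := Over.OverMorphism.ext hvl
  refine ⟨W, j, inferInstanceAs (IsOpenImmersion (Scheme.Opens.ι O)), ⟨⟨x, ⟨y, hy⟩⟩, rfl⟩, ?_⟩
  have hju : LocP @Smooth ((yon S).map j ≫ u) :=
    smooth_comp_open (IsAlgSpace.yon_obj U) hu j (inferInstanceAs (IsOpenImmersion (Scheme.Opens.ι O)))
  rw [← hu', ← Functor.map_comp, ← hvj] at hju ⊢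
  have hv : LocP @Smooth ((yon S).map v) := by
    have h₁ : Smooth (v.left ≫ (κ i).left) :=
      (repWith_yon_iff (v ≫ κ i)).1
        ((locP_iff_repWith etST_smooth (IsAlgSpace.yon_obj U) (AlgSp.representable_yon_map _)).1 hju)
    have h₂ : Smooth v.left := MorphismProperty.of_isPullback (P := @Smooth)
      (IsPullback.of_horiz_isIso_mono ⟨(by simp : 𝟙 W.left ≫ v.left ≫ (κ i).left = v.left ≫ (κ i).left)⟩ :
        IsPullback (𝟙 W.left) v.left (v.left ≫ (κ i).left) (κ i).left) h₁
    exact (locP_iff_repWith etST_smooth (IsAlgSpace.yon_obj (Ui i)) (AlgSp.representable_yon_map v)).2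
      ((repWith_yon_iff v).2 h₂)
  rw [Functor.map_comp]
  exact (normAt_baseChange hgν (IsPullback.of_hasPullback f ((yon S).map (κ i))) ((sqN i).map (yon S)) (gi i) (hgi i)
    (hg i).symm ((yon S).map v)).1 (Hi i _ hv)

end Groth.Agent.RelNorm

end
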