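import Groth.Agent.RelNorm.Base

/-!
# Relative normalizations of schemes
-/

set_option autoImplicit false
set_option backward.isDefEq.respectTransparency false
set_option backward.isDefEq.respectTransparency.types false
set_option linter.style.haveILetI false
universe u

open CategoryTheory CategoryTheory.Limits AlgebraicGeometry

noncomputable section

namespace Groth.Agent.RelNorm

open _root_.AlgSp Groth.Agent.AlgSpLib

variable {S : Scheme.{u}}

/-- the relative normalization of schemes -/
theorem isRelNormalization_yon {V U N : Over S} (g : V ⟶ U) [QuasiCompact g.left] [QuasiSeparated g.left]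
    (f' : V ⟶ N) (ν : N ⟶ U) (e : N.left ≅ g.left.normalization) (he1 : f'.left ≫ e.hom = g.left.toNormalization)
    (he2 : e.hom ≫ g.left.fromNormalization = ν.left) :
    IsRelNormalization ((yon S).map g) ((yon S).map ν) ((yon S).map f') := by
  have hfν : f' ≫ ν = g := Over.OverMorphism.ext (by
    rw [Over.comp_left, ← he2, reassoc_of% he1, Scheme.Hom.toNormalization_fromNormalization])
  have hν : IsIntegralHom ν.left := by rw [← he2]; infer_instance
  refine isRelNormalization_of_smNorm (IsAlgSpace.yon_obj U) (by rw [← Functor.map_comp, hfν])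
    ((isIntegralMor_iff_repWith _).2 ((repWith_yon_iff ν).2 hν)) fun U' u hu => ?_
  obtain ⟨w, rfl⟩ := exists_map_eq u
  have hw : Smooth w.left :=
    (repWith_yon_iff w).1 ((locP_iff_repWith etST_smooth (IsAlgSpace.yon_obj U) (AlgSp.representable_yon_map w)).1 hu)
  have sN := (IsPullback.of_hasPullback ν w).map (yon S)
  have sY := (IsPullback.of_hasPullback g w).map (yon S)
  let d : pullback g w ⟶ pullback ν w :=
    pullback.lift (pullback.fst g w ≫ f') (pullback.snd g w) (by rw [Category.assoc, hfν, pullback.condition])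
  refine (normAt_iff (f := (yon S).map g) (ν := (yon S).map ν) (g := (yon S).map f')
    (by rw [← Functor.map_comp, hfν]) sY sN ((yon S).map d)
    (by rw [← Functor.map_comp, ← Functor.map_comp, pullback.lift_fst])
    (by rw [← Functor.map_comp, pullback.lift_snd])).1 fun Z π _ h hh => ?_
  obtain ⟨h, rfl⟩ := exists_map_eq h
  rw [← Functor.map_comp] at hh
  have hh' := (yon S).map_injective hh
  -- schemes
  have sY₀ : IsPullback (pullback.snd g w).left (pullback.fst g w).left w.left g.left :=
    ((IsPullback.of_hasPullback g w).map (Over.forget S)).flip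
  have sN₀ : IsPullback (pullback.snd ν w).left ((pullback.fst ν w).left ≫ e.hom) w.left
      g.left.fromNormalization :=
    (((IsPullback.of_hasPullback ν w).map (Over.forget S)).flip).of_iso (Iso.refl _) (Iso.refl _) e (Iso.refl _)
      (by simp) (by simp) (by simp) (by simp [he2])
  let iY := sY₀.isoPullback
  let iN := sN₀.isoPullback
  have hd : d.left ≫ iN.hom =
      iY.hom ≫ bc w.left g.left.toNormalization g.left.toNormalization_fromNormalization := by
    apply pullback.hom_ext
    · rw [Category.assoc, sN₀.isoPullback_hom_fst, Category.assoc, bc_fst, sY₀.isoPullback_hom_fst,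
        ← Over.comp_left, pullback.lift_snd]
    · rw [Category.assoc, sN₀.isoPullback_hom_snd, Category.assoc, bc_snd, sY₀.isoPullback_hom_snd_assoc,
        ← Category.assoc, ← Over.comp_left, pullback.lift_fst, Over.comp_left, Category.assoc, he1]
  obtain ⟨k, ⟨hk₁, hk₂⟩, hk⟩ := norm_univ g.left w.left π.left (iY.inv ≫ h.left) (by
    rw [Category.assoc, ← Over.comp_left, hh', sY₀.isoPullback_inv_fst])
  let k' : pullback ν w ⟶ Z := Over.homMk (iN.hom ≫ k) (by
    rw [← Over.w π, Category.assoc, reassoc_of% hk₁, sN₀.isoPullback_hom_fst_assoc]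
    exact Over.w (pullback.snd ν w))
  have hk'π : k' ≫ π = pullback.snd ν w := Over.OverMorphism.ext (by
    show (iN.hom ≫ k) ≫ π.left = (pullback.snd ν w).left
    rw [Category.assoc, hk₁, sN₀.isoPullback_hom_fst])
  have hdk' : d ≫ k' = h := Over.OverMorphism.ext (by
    show d.left ≫ iN.hom ≫ k = h.left
    rw [reassoc_of% hd, hk₂, Iso.hom_inv_id_assoc])
  refine ⟨(yon S).map k', ⟨by rw [← Functor.map_comp, hk'π], by rw [← Functor.map_comp, hdk']⟩, fun m hm => ?_⟩
  obtain ⟨m, rfl⟩ := exists_map_eq m
  rw [← Functor.map_comp, ← Functor.map_comp] at hm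
  have h₁ := congrArg CommaMorphism.left ((yon S).map_injective hm.1)
  have h₂ := congrArg CommaMorphism.left ((yon S).map_injective hm.2)
  congr 1
  apply Over.OverMorphism.ext
  show m.left = iN.hom ≫ k
  rw [← hk (iN.inv ≫ m.left) ⟨?_, ?_⟩, Iso.hom_inv_id_assoc]
  · rw [Category.assoc, ← Over.comp_left, show (m ≫ π).left = _ from h₁, sN₀.isoPullback_inv_fst]
  · rw [← cancel_epi iY.hom, ← reassoc_of% hd, Iso.hom_inv_id_assoc, Iso.hom_inv_id_assoc]
    exact h₂

end Groth.Agent.RelNorm

end
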