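import Groth.Agent.RelNorm.Yon
import Groth.Agent.LqfRep.Main

/-!
# Zariski main theorem for algebraic spaces
-/

set_option autoImplicit false
set_option backward.isDefEq.respectTransparency false
set_option backward.isDefEq.respectTransparency.types false
set_option linter.style.haveILetI false
universe u

open CategoryTheory CategoryTheory.Limits AlgebraicGeometry

noncomputable section

namespace Groth.Agent.RelNorm

open _root_.AlgSp Groth.Agent.AlgSpLib

variable {S : Scheme.{u}}

theorem qaMor_of_isAffineHom {A B : Scheme.{u}} (q : A ⟶ B) [IsAffineHom q] : qaMor q := by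
  refine ⟨inferInstance, fun V hV => ?_⟩
  have : IsAffine (q ⁻¹ᵁ V).toScheme := hV.preimage q
  infer_instance

instance : (qaMor.{u}).IsStableUnderComposition where
  comp_mem _ _ hf hg := QA.comp hf hg

/-- relative normalizations of schemes are unique -/
theorem exists_iso_normalization_over {V U M : Over S} (g : V ⟶ U) [QuasiCompact g.left] [QuasiSeparated g.left]
    (g' : V ⟶ M) (ν : M ⟶ U) (hn : IsRelNormalization ((yon S).map g) ((yon S).map ν) ((yon S).map g')) :
    ∃ e : M.left ≅ g.left.normalization, g'.left ≫ e.hom = g.left.toNormalization ∧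
      e.hom ≫ g.left.fromNormalization = ν.left := by
  let N : Over S := Over.mk (g.left.fromNormalization ≫ U.hom)
  let νN : N ⟶ U := Over.homMk g.left.fromNormalization rfl
  let gN : V ⟶ N := Over.homMk g.left.toNormalization (by
    show g.left.toNormalization ≫ g.left.fromNormalization ≫ U.hom = V.hom
    rw [Scheme.Hom.toNormalization_fromNormalization_assoc]
    exact Over.w g)
  have hn' := isRelNormalization_yon g gN νN (Iso.refl _) (Category.comp_id _) (Category.id_comp _)
  obtain ⟨a, ha₁, ha₂⟩ := (hn.2.2 (IsAlgSpace.yon_obj N) _ _ hn'.2.1 hn'.1).exists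
  obtain ⟨b, hb₁, hb₂⟩ := (hn'.2.2 (IsAlgSpace.yon_obj M) _ _ hn.2.1 hn.1).exists
  obtain ⟨a', rfl⟩ := exists_map_eq a
  obtain ⟨b', rfl⟩ := exists_map_eq b
  have e₁ : (yon S).map a' ≫ (yon S).map b' = 𝟙 _ := (hn.2.2 (IsAlgSpace.yon_obj M) _ _ hn.2.1 hn.1).unique
    ⟨by rw [reassoc_of% ha₁, hb₁], by rw [Category.assoc, hb₂, ha₂]⟩ ⟨Category.comp_id _, Category.id_comp _⟩
  have e₂ : (yon S).map b' ≫ (yon S).map a' = 𝟙 _ := (hn'.2.2 (IsAlgSpace.yon_obj N) _ _ hn'.2.1 hn'.1).unique
    ⟨by rw [reassoc_of% hb₁, ha₁], by rw [Category.assoc, ha₂, hb₂]⟩ ⟨Category.comp_id _, Category.id_comp _⟩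
  rw [← Functor.map_comp, ← CategoryTheory.Functor.map_id] at e₁ e₂
  rw [← Functor.map_comp] at ha₁
  let e : M ≅ N := ⟨a', b', (yon S).map_injective e₁, (yon S).map_injective e₂⟩
  rw [← Functor.map_comp] at ha₂
  exact ⟨(Over.forget S).mapIso e, congrArg CommaMorphism.left ((yon S).map_injective ha₁),
    congrArg CommaMorphism.left ((yon S).map_injective ha₂)⟩

/-- relative normalizations of schemes are unique -/
theorem exists_iso_normalization {V U M : Over S} (g : V ⟶ U) [QuasiCompact g.left] [QuasiSeparated g.left]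
    (g' : V ⟶ M) (ν : M ⟶ U) (hn : IsRelNormalization ((yon S).map g) ((yon S).map ν) ((yon S).map g')) :
    ∃ e : M.left ≅ g.left.normalization, g'.left ≫ e.hom = g.left.toNormalization := by
  obtain ⟨e, he, -⟩ := exists_iso_normalization_over g g' ν hn
  exact ⟨e, he⟩

/-- the map to the normalization of a separated quasi-finite morphism -/
theorem openImmersion_normalization {X Y Y' : Sp S} (hX : IsAlgSpace X) (hY : IsAlgSpace Y) (hY' : IsAlgSpace Y')
    (f : X ⟶ Y) (hqf : LocP (@LocallyQuasiFinite ⊓ @LocallyOfFiniteType) f) (hqc : AlgSp.IsQuasiCompactMor f)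
    (hsep : IsSeparatedMor f) {ν : Y' ⟶ Y} {f' : X ⟶ Y'} (hn : IsRelNormalization f ν f') :
    RepWith @IsOpenImmersion f' ∧ AlgSp.IsQuasiCompactMor f' ∧ IsQuasiAffineMor f := by
  have hrep : Representable f := LqfRep.representable_of_lqf_separated hX hY f hqf hsep etST_lqf
  have hlq := (locP_iff_repWith etST_lqf hY hrep).1 hqf
  have hqcr := (isQuasiCompactMor_iff_repWith hX hY hrep).1 hqc
  have hsepr := (isSeparatedMor_iff_repWith hX hY hrep).1 hsep
  have hν := (isIntegralMor_iff_repWith ν).1 hn.2.1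
  have hqs : IsQuasiSeparatedMor f :=
    repWith_mono (fun _ _ r (hr : IsClosedImmersion r) => (inferInstance : QuasiCompact r)) hsep
  have hνd : RepWith @QuasiCompact (pullback.diagonal ν) := by
    have : IsSeparatedMor ν := (isSeparatedMor_iff_repWith hY' hY hν.1).2
      (repWith_mono (fun _ _ r (hr : IsIntegralHom r) => (inferInstance : IsSeparated r)) hν)
    exact repWith_mono (fun _ _ r (hr : IsClosedImmersion r) => (inferInstance : QuasiCompact r)) this
  have hf'qc : RepWith @QuasiCompact f' := Groth.Agent.AlgSpLib.repWith_of_comp f' f ν hn.1 hqcr hνd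
  obtain ⟨U, p, hpe, hps⟩ := hY.atlas
  obtain ⟨W, a, w, sW, hwqc⟩ := exists_repWith hqcr p
  obtain ⟨M, π, νM, sM, -⟩ := exists_repWith hν p
  have : QuasiCompact w.left := hwqc
  have : IsSeparated w.left := hsepr.2 p a w sW
  obtain ⟨(_ : LocallyQuasiFinite w.left), (_ : LocallyOfFiniteType w.left)⟩ := hlq.2 p a w sW
  obtain ⟨g, hg⟩ := exists_map_eq (sM.lift (a ≫ f') ((yon S).map w) (by rw [Category.assoc, hn.1, sW.w]))
  have hgM : (yon S).map g ≫ (yon S).map νM = (yon S).map w := by rw [hg, sM.lift_snd]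
  have hgπ : (yon S).map g ≫ π = a ≫ f' := by rw [hg, sM.lift_fst]
  have hsm : LocP @Smooth p := (locP_iff_repWith etST_smooth hY hpe.1).2
    (repWith_mono (fun _ _ r (hr : Etale r) => inferInstanceAs (Smooth r)) hpe)
  obtain ⟨e, he⟩ := exists_iso_normalization w g νM
    (isRelNormalization_baseChange hY (IsAlgSpace.yon_obj U) hX hY' sW hqc hqs hsm hn sM _ hgM hgπ)
  have hgo : IsOpenImmersion g.left := by
    rw [(Iso.eq_comp_inv e).2 he]; infer_instance
  haveI := Groth.Agent.AlgSpLib.isLocallySurjective_of_atlas hpe hps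
  haveI : Sheaf.IsLocallySurjective π := isLocallySurjective_of_isPullback sM
  have sq : IsPullback a ((yon S).map g) f' π := by
    refine IsPullback.of_bot ?_ hgπ.symm sM
    rw [hn.1, hgM]
    exact sW
  have hopen : RepWith @IsOpenImmersion f' :=
    repWith_of_isLocallySurjective hf'qc.1 sq ((repWith_yon_iff g).2 hgo)
  refine ⟨hopen, (isQuasiCompactMor_iff_repWith hX hY' hf'qc.1).2 hf'qc, ?_⟩
  rw [isQuasiAffineMor_iff_repWith, ← hn.1]
  refine repWith_comp ⟨hf'qc.1, fun A B b c v sv => ?_⟩
    (repWith_mono (fun _ _ r (hr : IsIntegralHom r) => qaMor_of_isAffineHom r) hν)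
  have : IsOpenImmersion v.left := hopen.2 b c v sv
  have : QuasiCompact v.left := hf'qc.2 b c v sv
  show qaMor v.left
  rw [← Category.comp_id v.left]
  exact QA.comp_immersion _ _ (qaMor_of_isAffineHom (𝟙 _))

end Groth.Agent.RelNorm

end
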